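import Groth.Agent.Lambda.Special

/-!
# `λ_t(k y) = λ_t(y)^k` for `k` in a binomial ring
-/

universe u v

open MvPolynomial Finset LambdaRing

namespace Groth.Agent.Lambda

section Congr

variable {R : Type*} [CommRing R]

theorem coeff_pow_congr {g g' : PowerSeries R} {p : ℕ}
    (h : ∀ m ≤ p, PowerSeries.coeff m g = PowerSeries.coeff m g') (i : ℕ) :
    ∀ m ≤ p, PowerSeries.coeff m (g ^ i) = PowerSeries.coeff m (g' ^ i) := by
  induction i with
  | zero => intro m _; simp
  | succ i ih =>
    intro m hm
    rw [pow_succ, pow_succ, PowerSeries.coeff_mul, PowerSeries.coeff_mul]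
    refine sum_congr rfl fun x hx => ?_
    have := Finset.mem_antidiagonal.mp hx
    rw [ih x.1 (by omega), h x.2 (by omega)]

theorem coeff_pow_eq_zero_of_constantCoeff {g : PowerSeries R} (hg : PowerSeries.constantCoeff g = 0)
    {m i : ℕ} (h : m < i) : PowerSeries.coeff m (g ^ i) = 0 :=
  (PowerSeries.X_pow_dvd_iff).mp (pow_dvd_pow_of_dvd (PowerSeries.X_dvd_iff.mpr hg) i) m h

/-- A finite form of `coeff_subst`. -/
theorem coeff_subst_range {g : PowerSeries R} (hg : PowerSeries.constantCoeff g = 0) (f : PowerSeries R) (p : ℕ) :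
    PowerSeries.coeff p (f.subst g) =
      ∑ i ∈ range (p + 1), PowerSeries.coeff i f * PowerSeries.coeff p (g ^ i) := by
  rw [PowerSeries.coeff_subst' (PowerSeries.HasSubst.of_constantCoeff_zero' hg),
    finsum_eq_sum_of_support_subset _ (s := range (p + 1))]
  · simp only [smul_eq_mul]
  · intro i hi
    by_contra h
    simp only [coe_range, Set.mem_Iio, not_lt] at h
    exact hi (by simp [coeff_pow_eq_zero_of_constantCoeff hg (show p < i by omega)])

theorem hasSubst_sub_one {F : PowerSeries R} (hF : PowerSeries.constantCoeff F = 1) :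
    PowerSeries.constantCoeff (F - 1) = 0 := by simp [hF]

end Congr

variable {K : Type u} {A : Type v} [CommRing K] [LambdaOps K] [BinomialRing K] [CommRing A]
  [Algebra K A]

/-- `Σ C(k,i) (F - 1)^i`, standing for `F^k`. -/
noncomputable def binPow (A : Type v) [CommRing A] [Algebra K A] (k : K) (F : PowerSeries A) : PowerSeries A :=
  (PowerSeries.map (algebraMap K A) (lamSeries k)).subst (F - 1)

theorem coeff_binPow (k : K) {F : PowerSeries A} (hF : PowerSeries.constantCoeff F = 1) (p : ℕ) :
    PowerSeries.coeff p (binPow A k F) =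
      ∑ i ∈ range (p + 1), algebraMap K A (LambdaOps.lam i k) * PowerSeries.coeff p ((F - 1) ^ i) := by
  rw [binPow, coeff_subst_range (hasSubst_sub_one hF)]
  simp [coeff_lamSeries]

theorem constantCoeff_binPow (k : K) {F : PowerSeries A} (hF : PowerSeries.constantCoeff F = 1) :
    PowerSeries.constantCoeff (binPow A k F) = 1 := by
  rw [← PowerSeries.coeff_zero_eq_constantCoeff_apply, coeff_binPow k hF]
  simp [LambdaOps.lam_zero]

theorem dlogS_binPow (hKb : IsBinomial K) (k : K) {F : PowerSeries A}
    (hF : PowerSeries.constantCoeff F = 1) :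
    dlogS (binPow A k F) = PowerSeries.C (algebraMap K A k) * dlogS F := by
  set g := F - 1 with hg
  have hs : PowerSeries.HasSubst g := PowerSeries.HasSubst.of_constantCoeff_zero' (hasSubst_sub_one hF)
  set f := PowerSeries.map (algebraMap K A) (lamSeries k) with hf
  have hk : PowerSeries.derivative K (lamSeries k) * (1 + PowerSeries.X) = PowerSeries.C k * lamSeries k := by
    rw [← dlogS_mul_self (constantCoeff_lamSeries k)]
    have hd : dlogS (lamSeries k) * (1 + PowerSeries.X) = PowerSeries.C k := by
      ext n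
      have hn : ∀ n, PowerSeries.coeff n (dlogS (lamSeries k)) = (-1) ^ n * k := by
        intro n
        have := adamsOp_of_isBinomial hKb (n + 1) (by omega) k
        rw [adamsOp_eq_psiS, psiS_succ] at this
        calc PowerSeries.coeff n (dlogS (lamSeries k))
            = ((-1 : K) ^ n * (-1) ^ n) * PowerSeries.coeff n (dlogS (lamSeries k)) := by rw [← mul_pow]; simp
          _ = (-1) ^ n * k := by rw [mul_assoc, this]
      rw [mul_add, mul_one, map_add, hn]
      rcases n with _ | n
      · simp
      · rw [PowerSeries.coeff_succ_mul_X, hn, PowerSeries.coeff_C, if_neg (Nat.succ_ne_zero n), pow_succ]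
        ring
    rw [mul_right_comm, hd]
  have hk' : PowerSeries.derivative A f * (1 + PowerSeries.X) = PowerSeries.C (algebraMap K A k) * f := by
    have h := congrArg (PowerSeries.map (algebraMap K A)) hk
    rw [map_mul, map_mul, map_add, map_one, PowerSeries.map_X, PowerSeries.map_C] at h
    rw [hf, ← h]
    congr 1
    ext n
    simp [PowerSeries.coeff_derivative]
  have hsub := congrArg (fun q : PowerSeries A => q.subst g) hk'
  simp only [PowerSeries.subst_mul hs, PowerSeries.subst_add hs, PowerSeries.subst_X hs] at hsub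
  have hc : ∀ a : A, (PowerSeries.C a).subst g = PowerSeries.C a := fun a => PowerSeries.subst_C a
  rw [hc] at hsub
  have h1 : (1 : PowerSeries A).subst g = (1 : PowerSeries A) := by simpa using hc (1 : A)
  rw [h1, hg, add_sub_cancel] at hsub
  refine eq_dlogS (constantCoeff_binPow k hF) ?_
  rw [binPow, ← hg, ← hf, PowerSeries.derivative_subst hs, mul_right_comm, ← hsub,
    show PowerSeries.derivative A g = PowerSeries.derivative A F by rw [hg, map_sub, PowerSeries.derivative_one, sub_zero],
    mul_assoc, mul_comm F, dlogS_mul_self hF]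

theorem psiS_binPow (hKb : IsBinomial K) (k : K) {F : PowerSeries A}
    (hF : PowerSeries.constantCoeff F = 1) (j : ℕ) :
    psiS (binPow A k F) j = algebraMap K A k * psiS F j := by
  rcases j with _ | j
  · simp [psiS]
  · rw [psiS_succ, psiS_succ, dlogS_binPow hKb k hF, PowerSeries.coeff_C_mul]
    ring

theorem map_binPow {A' : Type*} [CommRing A'] [Algebra K A'] (φ : A →ₐ[K] A') (k : K)
    {F : PowerSeries A} (hF : PowerSeries.constantCoeff F = 1) :
    PowerSeries.map φ.toRingHom (binPow A k F) = binPow A' k (PowerSeries.map φ.toRingHom F) := by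
  have hF' : PowerSeries.constantCoeff (PowerSeries.map φ.toRingHom F) = 1 := by
    rw [← PowerSeries.coeff_zero_eq_constantCoeff_apply, PowerSeries.coeff_map,
      PowerSeries.coeff_zero_eq_constantCoeff_apply, hF, map_one]
  ext p
  rw [PowerSeries.coeff_map, coeff_binPow k hF, coeff_binPow k hF', map_sum]
  refine sum_congr rfl fun i _ => ?_
  rw [map_mul, ← PowerSeries.coeff_map, map_pow, map_sub, map_one]
  congr 1
  exact φ.commutes _

/-- `λ_t(k y) = λ_t(y)^k`. -/
theorem lamSeries_algebraMap_mul [LambdaOps A] (hKb : IsBinomial K) (hA : IsSpecial A) (hKA : IsLambdaAlg K A)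
    (k : K) (y : A) : lamSeries (algebraMap K A k * y) = binPow A k (lamSeries y) := by
  ext p
  haveI : IsAddTorsionFree K := BinomialRing.toIsAddTorsionFree
  haveI : IsAddTorsionFree (MvPolynomial (Fin p) K) := by
    refine ⟨fun n hn a b h => MvPolynomial.ext _ _ fun d => nsmul_right_injective hn ?_⟩
    exact (coeff_smul d n a).symm.trans ((congrArg (coeff d) h).trans (coeff_smul d n b))
  set U := MvPolynomial (Fin p) K
  set vals : Fin p ⊕ Fin p → U := Sum.elim (fun i => C (LambdaOps.lam ((i : ℕ) + 1) k)) (fun i => X i)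
  set φ := (aeval vals : MvPolynomial (Fin p ⊕ Fin p) ℤ →ₐ[ℤ] U).toRingHom
  set L : PowerSeries U := PowerSeries.map φ (mulSer p)
  set G : PowerSeries U := genSer fun i : Fin p => (X i : U)
  have hL1 : PowerSeries.constantCoeff L = 1 := by
    rw [← PowerSeries.coeff_zero_eq_constantCoeff_apply, PowerSeries.coeff_map,
      PowerSeries.coeff_zero_eq_constantCoeff_apply, constantCoeff_mulSer, map_one]
  have key : PowerSeries.coeff p L = PowerSeries.coeff p (binPow U k G) := by
    refine coeff_eq_of_psiS_eq hL1 (constantCoeff_binPow k (constantCoeff_genSer _)) (n := p)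
      (fun j hj hjp => ?_) le_rfl
    rw [psiS_binPow hKb k (constantCoeff_genSer _), ← map_psiS φ (constantCoeff_mulSer p), psiS_mulSer, map_mul,
      map_psiS φ (constantCoeff_genSer _), map_psiS φ (constantCoeff_genSer _), map_genSer, map_genSer]
    congr 1
    · rw [show (φ ∘ fun i : Fin p => X (Sum.inl i)) = ((C : K →+* U) ∘ fun i : Fin p => LambdaOps.lam ((i : ℕ) + 1) k)
          from funext fun i => by simp [φ, vals],
        ← map_genSer, ← map_psiS _ (constantCoeff_genSer _), ← adamsOp_eq_psiS_genSer hjp,
        adamsOp_of_isBinomial hKb j hj]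
      rfl
    · rw [show (φ ∘ fun i : Fin p => X (Sum.inr i)) = fun i : Fin p => (X i : U)
          from funext fun i => by simp [φ, vals]]
  set ev : U →ₐ[K] A := aeval fun i : Fin p => LambdaOps.lam ((i : ℕ) + 1) y with hev
  have h2 := congrArg ev key
  have hlhs : ev (PowerSeries.coeff p L) = LambdaOps.lam p (algebraMap K A k * y) := by
    rw [← lam_mul_eval hA (le_refl p) (mulP_spec p p).1 (mulP_spec p p).2, PowerSeries.coeff_map, mulSer,
      PowerSeries.coeff_mk]
    show (ev.toRingHom.comp φ) (mulP p p) = _
    conv_rhs => rw [← AlgHom.coe_toRingHom]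
    congr 1
    refine MvPolynomial.ringHom_ext (fun r => by simp) fun i => ?_
    rcases i with i | i
    · simp [φ, vals, hev]
      exact (aeval_C _ _).trans (hKA _ k)
    · simp [φ, vals, hev]
      exact aeval_X _ i
  have hrhs : ev (PowerSeries.coeff p (binPow U k G)) = PowerSeries.coeff p (binPow A k (lamSeries y)) := by
    show ev.toRingHom _ = _
    rw [← PowerSeries.coeff_map, map_binPow ev k (constantCoeff_genSer _)]
    have hG : PowerSeries.map ev.toRingHom G = genSer fun i : Fin p => LambdaOps.lam ((i : ℕ) + 1) y := by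
      rw [map_genSer]; congr 1; funext i; simp [hev]; exact aeval_X _ i
    rw [hG, coeff_binPow k (constantCoeff_genSer _), coeff_binPow k (constantCoeff_lamSeries y)]
    refine sum_congr rfl fun i _ => ?_
    rw [coeff_pow_congr (p := p) (fun m hm => ?_) i p le_rfl]
    rw [map_sub, map_sub, coeff_genSer_lam y hm, coeff_lamSeries]
  rw [hlhs, hrhs] at h2
  rw [coeff_lamSeries, h2]

/-- `γ_t(k y) = γ_t(y)^k`. -/
theorem gammaSeries_algebraMap_mul [LambdaOps A] (hKb : IsBinomial K) (hA : IsSpecial A) (hKA : IsLambdaAlg K A)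
    (k : K) (y : A) : gammaSeries (algebraMap K A k * y) = binPow A k (gammaSeries y) := by
  have hs : PowerSeries.HasSubst (lamSeries y - 1) :=
    PowerSeries.HasSubst.of_constantCoeff_zero' (hasSubst_sub_one (constantCoeff_lamSeries y))
  rw [gammaSeries_eq_subst, lamSeries_algebraMap_mul hKb hA hKA, binPow, binPow,
    PowerSeries.subst_comp_subst_apply hs hasSubst_tOneSub, PowerSeries.subst_sub hasSubst_tOneSub,
    ← gammaSeries_eq_subst,
    show (1 : PowerSeries A).subst (tOneSub A) = 1 by simpa using PowerSeries.subst_C (a := tOneSub A) (1 : A)]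

theorem gamma_algebraMap_mul [LambdaOps A] (hKb : IsBinomial K) (hA : IsSpecial A) (hKA : IsLambdaAlg K A)
    (k : K) (y : A) (r : ℕ) :
    LambdaRing.gamma r (algebraMap K A k * y) =
      ∑ i ∈ range (r + 1), algebraMap K A (LambdaOps.lam i k) * PowerSeries.coeff r ((gammaSeries y - 1) ^ i) := by
  rw [← coeff_gammaSeries, gammaSeries_algebraMap_mul hKb hA hKA, coeff_binPow k (constantCoeff_gammaSeries y)]

theorem lam_algebraMap_mul [LambdaOps A] (hKb : IsBinomial K) (hA : IsSpecial A) (hKA : IsLambdaAlg K A)
    (k : K) (y : A) (r : ℕ) :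
    LambdaOps.lam r (algebraMap K A k * y) =
      ∑ i ∈ range (r + 1), algebraMap K A (LambdaOps.lam i k) * PowerSeries.coeff r ((lamSeries y - 1) ^ i) := by
  rw [← coeff_lamSeries, lamSeries_algebraMap_mul hKb hA hKA, coeff_binPow k (constantCoeff_lamSeries y)]

end Groth.Agent.Lambda
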