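import Groth.Agent.Lambda.Families
import Groth.Agent.Lambda.BinomialSmul

/-!
# The γ-filtration of an augmented λ-algebra
-/

universe u v

open MvPolynomial Finset LambdaRing

namespace Groth.Agent.Lambda

section Closed

variable {A : Type v} [CommRing A]

/-- A decreasing multiplicative family of ideals starting from the unit ideal. -/
structure IsMulFiltration (T : ℕ → Ideal A) : Prop where
  zero : T 0 = ⊤
  anti : Antitone T
  mul_mem : ∀ {a b : ℕ} {x y : A}, x ∈ T a → y ∈ T b → x * y ∈ T (a + b)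

variable {T : ℕ → Ideal A}

theorem IsMulFiltration.prod_mem (hT : IsMulFiltration T) {ι : Type*} (s : Finset ι) (f : ι → A)
    (d : ι → ℕ) (h : ∀ i ∈ s, f i ∈ T (d i)) : ∏ i ∈ s, f i ∈ T (∑ i ∈ s, d i) := by
  classical
  induction s using Finset.induction_on with
  | empty => simp [hT.zero]
  | insert a s ha ih =>
    rw [prod_insert ha, sum_insert ha]
    exact hT.mul_mem (h a (mem_insert_self a s)) (ih fun i hi => h i (mem_insert_of_mem hi))

theorem IsMulFiltration.pow_mem (hT : IsMulFiltration T) {m : ℕ} {x : A} (hx : x ∈ T m) (k : ℕ) :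
    x ^ k ∈ T (k * m) := by
  induction k with
  | zero => simp [hT.zero]
  | succ k ih => rw [pow_succ, Nat.succ_mul]; exact hT.mul_mem ih hx

theorem IsMulFiltration.aeval_mem (hT : IsMulFiltration T) {ι : Type*} {wt : ι → ℕ} {α : ι → A}
    (hα : ∀ i, α i ∈ T (wt i)) {m : ℕ} (Q : MvPolynomial ι ℤ)
    (hQ : ∀ d ∈ Q.support, m ≤ Finsupp.weight wt d) : aeval α Q ∈ T m := by
  rw [Q.as_sum, map_sum]
  refine sum_mem fun d hd => ?_
  rw [aeval_monomial]
  refine hT.anti (hQ d hd) (Ideal.mul_mem_left _ _ ?_)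
  rw [Finsupp.weight_apply, Finsupp.sum, Finsupp.prod]
  exact hT.prod_mem _ _ _ fun i _ => by simpa using hT.pow_mem (hα i) (d i)

/-- The series with `coeff r f ∈ T r`. -/
def IsMulFiltration.series (hT : IsMulFiltration T) : Subring (PowerSeries A) where
  carrier := {f | ∀ r, PowerSeries.coeff r f ∈ T r}
  zero_mem' r := by simp
  one_mem' r := by rcases r with _ | r <;> simp [PowerSeries.coeff_one, hT.zero]
  add_mem' hf hg r := by rw [map_add]; exact add_mem (hf r) (hg r)
  neg_mem' hf r := by rw [map_neg]; exact neg_mem (hf r)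
  mul_mem' hf hg r := by
    rw [PowerSeries.coeff_mul]
    refine sum_mem fun p hp => ?_
    rw [← Finset.mem_antidiagonal.mp hp]
    exact hT.mul_mem (hf _) (hg _)

theorem IsMulFiltration.series_of_mul_eq_one (hT : IsMulFiltration T) {f g : PowerSeries A}
    (hf : f ∈ hT.series) (hc : PowerSeries.constantCoeff f = 1) (h : g * f = 1) : g ∈ hT.series := by
  intro r
  induction r using Nat.strong_induction_on with
  | _ r ih =>
    rcases r with _ | r
    · simp [hT.zero]
    have e := congrArg (PowerSeries.coeff (r + 1)) h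
    rw [PowerSeries.coeff_mul, Finset.Nat.sum_antidiagonal_eq_sum_range_succ_mk, sum_range_succ,
      Nat.sub_self, PowerSeries.coeff_zero_eq_constantCoeff_apply, hc, mul_one, PowerSeries.coeff_one,
      if_neg (Nat.succ_ne_zero r)] at e
    rw [eq_neg_of_add_eq_zero_right e]
    refine neg_mem (sum_mem fun k hk => ?_)
    rw [mem_range] at hk
    simpa only [show k + (r + 1 - k) = r + 1 by omega] using hT.mul_mem (ih k hk) (hf (r + 1 - k))

variable [LambdaOps A]

/-- The elements all of whose `γ^r` lie in `T r`. -/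
def IsMulFiltration.gammaSubgroup (hT : IsMulFiltration T) : AddSubgroup A where
  carrier := {y | gammaSeries y ∈ hT.series}
  zero_mem' := by
    show gammaSeries 0 ∈ hT.series
    rw [gammaSeries_zero]; exact one_mem _
  add_mem' := fun {a b} ha hb => by
    show gammaSeries (a + b) ∈ hT.series
    rw [gammaSeries_add]; exact Subring.mul_mem _ ha hb
  neg_mem' := fun {a} ha => by
    show gammaSeries (-a) ∈ hT.series
    exact hT.series_of_mul_eq_one ha (constantCoeff_gammaSeries _)
      (by rw [← gammaSeries_add, neg_add_cancel, gammaSeries_zero])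

theorem IsMulFiltration.mem_gammaSubgroup (hT : IsMulFiltration T) {y : A} :
    y ∈ hT.gammaSubgroup ↔ ∀ r, LambdaRing.gamma r y ∈ T r :=
  forall_congr' fun r => by rw [coeff_gammaSeries]

theorem IsMulFiltration.algebraMap_mul_mem (hT : IsMulFiltration T) {K : Type u} [CommRing K] [LambdaOps K]
    [BinomialRing K] [Algebra K A] (hKb : IsBinomial K) (hA : IsSpecial A) (hKA : IsLambdaAlg K A)
    (k : K) {y : A} (hy : y ∈ hT.gammaSubgroup) : algebraMap K A k * y ∈ hT.gammaSubgroup := by
  rw [hT.mem_gammaSubgroup]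
  intro r
  rw [gamma_algebraMap_mul hKb hA hKA]
  exact sum_mem fun i _ => Ideal.mul_mem_left _ _
    (Subring.pow_mem _ (Subring.sub_mem _ (show gammaSeries y ∈ hT.series from hy) (Subring.one_mem _)) i r)

end Closed

variable {K : Type u} {A : Type v} [CommRing K] [CommRing A] [LambdaOps A]

/-- The products generating `F^n`. -/
def gammaFilGens (ε : A →+* K) (n : ℕ) : Set A :=
  {y | ∃ l : List (ℕ × A), (∀ p ∈ l, ε p.2 = 0) ∧ n ≤ (l.map Prod.fst).sum ∧
    y = (l.map fun p => LambdaRing.gamma p.1 p.2).prod}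

theorem gammaFil_eq_span (ε : A →+* K) (n : ℕ) : gammaFil ε n = Ideal.span (gammaFilGens ε n) := rfl

theorem gamma_mem_gammaFil {ε : A →+* K} {x : A} (hx : ε x = 0) (r : ℕ) :
    LambdaRing.gamma r x ∈ gammaFil ε r :=
  Ideal.subset_span ⟨[(r, x)], by simp [hx], by simp, by simp⟩

theorem gammaFilGens_mul {ε : A →+* K} {a b : ℕ} {x y : A} (hx : x ∈ gammaFilGens ε a)
    (hy : y ∈ gammaFilGens ε b) : x * y ∈ gammaFilGens ε (a + b) := by
  obtain ⟨l, hl, hls, rfl⟩ := hx
  obtain ⟨l', hl', hls', rfl⟩ := hy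
  refine ⟨l ++ l', fun p hp => ?_, by simp; omega, by simp⟩
  rcases List.mem_append.mp hp with h | h
  exacts [hl p h, hl' p h]

theorem gammaFil_isMulFiltration (ε : A →+* K) : IsMulFiltration (gammaFil ε) where
  zero := by
    rw [Ideal.eq_top_iff_one]
    exact Ideal.subset_span ⟨[], by simp, by simp, by simp⟩
  anti _ _ h := Ideal.span_mono fun y ⟨l, hl, hs, hy⟩ => ⟨l, hl, h.trans hs, hy⟩
  mul_mem {a b x y} hx hy := by
    have h := Ideal.mul_mem_mul hx hy
    rw [gammaFil_eq_span, gammaFil_eq_span, Ideal.span_mul_span'] at h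
    refine Ideal.span_mono ?_ h
    rintro z ⟨p, hp, q, hq, rfl⟩
    exact gammaFilGens_mul hp hq

/-- `F^n ⊆ T^n` as soon as `γ^r(x) ∈ T^r` for all `x` of augmentation zero. -/
theorem gammaFil_le {T : ℕ → Ideal A} (hT : IsMulFiltration T) (ε : A →+* K)
    (h : ∀ (x : A), ε x = 0 → ∀ r, LambdaRing.gamma r x ∈ T r) (n : ℕ) : gammaFil ε n ≤ T n := by
  rw [gammaFil_eq_span, Ideal.span_le]
  rintro y ⟨l, hl, hs, rfl⟩
  refine hT.anti hs ?_
  clear hs
  induction l with
  | nil => simp [hT.zero]
  | cons p l ih =>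
    simp only [List.map_cons, List.prod_cons, List.sum_cons]
    exact hT.mul_mem (h _ (hl p List.mem_cons_self) _) (ih fun q hq => hl q (List.mem_cons_of_mem p hq))

theorem gamma_map_zero {ε : A →+* K} [LambdaOps K]
    (hε : ∀ (n : ℕ) (a : A), ε (LambdaOps.lam n a) = LambdaOps.lam n (ε a)) {x : A} (hx : ε x = 0)
    {r : ℕ} (hr : r ≠ 0) : ε (LambdaRing.gamma r x) = 0 := by
  unfold LambdaRing.gamma
  rw [if_neg hr, map_sum]
  refine sum_eq_zero fun j _ => ?_
  split_ifs with hj
  · simp
  · rw [map_mul, hε, hx, lam_zero_right hj, mul_zero]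

/-! ## The span description -/

section Span

variable [Algebra K A]

theorem gammaFil_restrictScalars (ε : A →ₐ[K] K) (S : Set A) (hS : AddSubgroup.closure S = ⊤) (n : ℕ) :
    (gammaFil (ε : A →+* K) n).restrictScalars K =
      Submodule.span K {y : A | ∃ l : List (ℕ × A), (∀ p ∈ l, p.2 ∈ S) ∧ n ≤ (l.map Prod.fst).sum ∧
        y = (l.map fun p => LambdaRing.gamma p.1 (p.2 - algebraMap K A (ε p.2))).prod} := by
  set M : ℕ → Set A := fun n => {y : A | ∃ l : List (ℕ × A), (∀ p ∈ l, p.2 ∈ S) ∧ n ≤ (l.map Prod.fst).sum ∧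
        y = (l.map fun p => LambdaRing.gamma p.1 (p.2 - algebraMap K A (ε p.2))).prod}
  have hε : ∀ k, ε (algebraMap K A k) = k := fun k => ε.commutes k
  refine le_antisymm ?_ (Submodule.span_le.mpr ?_)
  swap
  · rintro y ⟨l, -, hs, rfl⟩
    refine Ideal.subset_span ⟨l.map fun p => (p.1, p.2 - algebraMap K A (ε p.2)), ?_, ?_, ?_⟩
    · intro p hp
      obtain ⟨q, -, rfl⟩ := List.mem_map.mp hp
      simp [hε]
    · simpa [List.map_map, Function.comp_def] using hs
    · simp [List.map_map, Function.comp_def]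
  have hone : ∀ n, n = 0 → (1 : A) ∈ Submodule.span K (M n) := fun n hn =>
    Submodule.subset_span ⟨[], by simp, by simp [hn], by simp⟩
  have hmul : ∀ {a b : ℕ} {x y : A}, x ∈ Submodule.span K (M a) → y ∈ Submodule.span K (M b) →
      x * y ∈ Submodule.span K (M (a + b)) := by
    intro a b x y hx hy
    have h := Submodule.mul_mem_mul hx hy
    rw [Submodule.span_mul_span] at h
    refine Submodule.span_mono ?_ h
    rintro z ⟨p, ⟨l, hl, hls, rfl⟩, q, ⟨l', hl', hls', rfl⟩, rfl⟩
    refine ⟨l ++ l', fun p hp => ?_, by simp; omega, by simp⟩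
    rcases List.mem_append.mp hp with h | h
    exacts [hl p h, hl' p h]
  have hanti : ∀ {a b : ℕ}, a ≤ b → Submodule.span K (M b) ≤ Submodule.span K (M a) := fun h =>
    Submodule.span_mono fun y ⟨l, hl, hs, hy⟩ => ⟨l, hl, h.trans hs, hy⟩
  -- `γ^r(y - ε y)` is in the span for all `y`
  have hγ : ∀ (y : A) (r : ℕ), LambdaRing.gamma r (y - algebraMap K A (ε y)) ∈ Submodule.span K (M r) := by
    let G : AddSubgroup A :=
      { carrier := {y | ∀ r, LambdaRing.gamma r (y - algebraMap K A (ε y)) ∈ Submodule.span K (M r)}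
        zero_mem' := fun r => by
          rcases eq_or_ne r 0 with rfl | hr
          · simpa [gamma_zero] using hone 0 rfl
          · simp [gamma_zero_right hr]
        add_mem' := fun {a b} ha hb r => by
          rw [map_add, map_add, add_sub_add_comm, gamma_add]
          refine sum_mem fun i hi => ?_
          rw [mem_range] at hi
          simpa only [show i + (r - i) = r by omega] using hmul (ha i) (hb (r - i))
        neg_mem' := fun {a} ha r => by
          rw [map_neg, map_neg, ← neg_add', ← sub_eq_add_neg]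
          set x := a - algebraMap K A (ε a) with hx
          induction r using Nat.strong_induction_on with
          | _ r ih =>
            rcases eq_or_ne r 0 with rfl | hr
            · simpa [gamma_zero] using hone 0 rfl
            have h := gamma_add r (-x) x
            rw [neg_add_cancel, gamma_zero_right hr, sum_range_succ, Nat.sub_self, gamma_zero, mul_one] at h
            rw [eq_neg_of_add_eq_zero_right h.symm]
            refine neg_mem (sum_mem fun i hi => ?_)
            rw [mem_range] at hi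
            simpa only [show i + (r - i) = r by omega] using hmul (ih i hi) (ha (r - i)) }
    intro y
    have : AddSubgroup.closure S ≤ G := (AddSubgroup.closure_le G).mpr fun s hs r =>
      Submodule.subset_span ⟨[(r, s)], by simp [hs], by simp, by simp⟩
    exact this (hS ▸ AddSubgroup.mem_top y)
  have hideal : ∀ (a : A) {n : ℕ} {x : A}, x ∈ Submodule.span K (M n) → a * x ∈ Submodule.span K (M n) := by
    intro a n x hx
    rw [show a * x = (a - algebraMap K A (ε a)) * x + algebraMap K A (ε a) * x by ring]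
    refine add_mem ?_ ?_
    · have := hmul (hγ a 1) hx
      rw [gamma_one] at this
      exact hanti (by omega) this
    · rw [← Algebra.smul_def]; exact Submodule.smul_mem _ _ hx
  intro y hy
  have hy' : y ∈ Ideal.span (gammaFilGens (ε : A →+* K) n) := hy
  induction hy' using Submodule.span_induction with
  | mem z hz =>
    obtain ⟨l, hl, hs, rfl⟩ := hz
    refine hanti hs ?_
    clear hs hy
    induction l with
    | nil => simpa using hone 0 rfl
    | cons p l ih =>
      simp only [List.map_cons, List.prod_cons, List.sum_cons]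
      refine hmul ?_ (ih fun q hq => hl q (List.mem_cons_of_mem p hq))
      have hp : ε p.2 = 0 := hl p List.mem_cons_self
      simpa [hp] using hγ p.2 p.1
  | zero => exact zero_mem _
  | add a b ha hb iha ihb => exact add_mem (iha ha) (ihb hb)
  | smul a x hx ih => exact hideal a (ih hx)

end Span

/-! ## Products of `γ`'s -/

/-- The leading terms of `λ^n` and `γ^m` at a product of `γ`'s, universally. -/
theorem prod_gamma_lam (hA : IsSpecial A) {ε : A →+* K} (l : List (ℕ × A)) (hl : ∀ p ∈ l, ε p.2 = 0)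
    {m : ℕ} (hm : 1 ≤ m) (hs : m ≤ (l.map Prod.fst).sum) :
    (∀ n, 1 ≤ n → LambdaOps.lam n (l.map fun p => LambdaRing.gamma p.1 p.2).prod ∈ gammaFil ε m) ∧
      (∀ n, 1 ≤ n → LambdaOps.lam n (l.map fun p => LambdaRing.gamma p.1 p.2).prod -
          (-1 : A) ^ (n - 1) * (n : A) ^ (m - 1) * (l.map fun p => LambdaRing.gamma p.1 p.2).prod ∈
        gammaFil ε (m + 1)) := by
  set s := (l.map Prod.fst).sum with hsdef
  have hprod : (l.map fun p => LambdaRing.gamma p.1 p.2).prod =
      ∏ i : Fin l.length, LambdaRing.gamma (l[i.1]).1 (l[i.1]).2 := by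
    rw [← List.prod_ofFn, List.ofFn_getElem_eq_map l (fun p : ℕ × A => LambdaRing.gamma p.1 p.2)]
  have hsum : s = ∑ i : Fin l.length, (l[i.1]).1 := by
    rw [hsdef, ← List.sum_ofFn, List.ofFn_getElem_eq_map l (fun p : ℕ × A => p.1)]
  have key : ∀ n, 1 ≤ n →
      LambdaOps.lam n (l.map fun p => LambdaRing.gamma p.1 p.2).prod ∈ gammaFil ε m ∧
      LambdaOps.lam n (l.map fun p => LambdaRing.gamma p.1 p.2).prod -
          (-1 : A) ^ (n - 1) * (n : A) ^ (m - 1) * (l.map fun p => LambdaRing.gamma p.1 p.2).prod ∈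
        gammaFil ε (m + 1) := by
    intro n hn
    set N := n * s with hN
    set x : Fin l.length → A := fun i => (l[i.1]).2
    set z : MvPolynomial (Fin l.length × Fin N) ℤ :=
      ∏ i : Fin l.length, LambdaRing.gamma (l[i.1]).1 (famElt l.length N i) with hz
    have hle : ∀ i : Fin l.length, (l[i.1]).1 ≤ N := fun i => by
      refine le_trans ?_ (Nat.le_mul_of_pos_left s hn)
      rw [hsum]
      exact single_le_sum (f := fun i : Fin l.length => (l[i.1]).1) (fun j _ => Nat.zero_le _) (mem_univ i)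
    have hrel : Rel (famWeight l.length N) (famVar l.length N) (famVal x) s z
        (l.map fun p => LambdaRing.gamma p.1 p.2).prod := by
      rw [hprod, hsum]
      exact rel_prod _ fun i _ => rel_gamma_famElt x i _ (hle i)
    have hcoord := isCoord_fam (N := N) x hA
    have hlam := hcoord.rel_lam isSpecial_line hA hrel (n := n) (le_refl _)
    have hzs : z ∈ wIdeal _ ^ s := by
      rw [hsum, ← prod_pow_eq_pow_sum]
      exact Ideal.prod_mem_prod fun i _ => gamma_mem_wIdeal_pow (famElt_mem i) _
    have hzm : z ∈ wIdeal _ ^ m := Ideal.pow_le_pow_right hs hzs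
    have hψ : ∀ j, 1 ≤ j → adamsOp j z - (j : MvPolynomial (Fin l.length × Fin N) ℤ) ^ m * z ∈ wIdeal _ ^ (m + 1) :=
      fun j hj => by rw [adamsOp_eq_lineAdams (by omega)]; exact lineAdams_sub_mem hzm
    have hψm : ∀ j, 1 ≤ j → adamsOp j z ∈ wIdeal _ ^ m := fun j hj => by
      have := add_mem (Ideal.pow_le_pow_right (Nat.le_succ m) (hψ j hj))
        (Ideal.mul_mem_left _ ((j : MvPolynomial (Fin l.length × Fin N) ℤ) ^ m) hzm)
      simpa using this
    have hU : ∀ q, 1 ≤ q → LambdaOps.lam q z ∈ wIdeal _ ^ m ∧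
        LambdaOps.lam q z - (-1) ^ (q - 1) * (q : MvPolynomial (Fin l.length × Fin N) ℤ) ^ (m - 1) * z ∈
          wIdeal _ ^ (m + 1) := by
      intro q
      induction q using Nat.strong_induction_on with
      | _ q ih =>
        intro hq
        obtain ⟨p, rfl⟩ : ∃ p, q = p + 1 := ⟨q - 1, by omega⟩
        have hN' := newton (constantCoeff_lamSeries z) p
        simp only [coeff_lamSeries, ← adamsOp_eq_psiS, sum_range_succ, Nat.sub_self, LambdaOps.lam_zero,
          mul_one] at hN'
        have hlow : ∑ i ∈ range p, (-1) ^ i * adamsOp (i + 1) z * LambdaOps.lam (p - i) z ∈ wIdeal _ ^ (m + 1) := by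
          refine sum_mem fun i hi => ?_
          rw [mem_range] at hi
          refine Ideal.pow_le_pow_right (show m + 1 ≤ m + m by omega) ?_
          rw [pow_add]
          exact Ideal.mul_mem_mul (Ideal.mul_mem_left _ _ (hψm (i + 1) (by omega))) (ih (p - i) (by omega) (by omega)).1
        refine ⟨natCast_mul_mem_pow (Nat.succ_ne_zero p) ?_, natCast_mul_mem_pow (Nat.succ_ne_zero p) ?_⟩
        · rw [hN']
          exact add_mem (Ideal.pow_le_pow_right (Nat.le_succ m) hlow) (Ideal.mul_mem_left _ _ (hψm (p + 1) (by omega)))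
        · rw [mul_sub, hN', Nat.add_sub_cancel]
          obtain ⟨m', rfl⟩ : ∃ m', m = m' + 1 := ⟨m - 1, by omega⟩
          rw [Nat.add_sub_cancel]
          have := add_mem hlow (Ideal.mul_mem_left _ ((-1) ^ p) (hψ (p + 1) (by omega)))
          convert this using 1
          push_cast
          ring
    have hmem : ∀ i : Fin l.length, ε (x i) = 0 := fun i => hl _ (List.getElem_mem i.2)
    have hα : ∀ v, famVal (N := N) x v ∈ gammaFil ε (famWeight l.length N v) := fun v =>
      gamma_mem_gammaFil (hmem v.1) _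
    constructor
    · obtain ⟨Q, hQ, hQa⟩ := exists_poly_ge x hlam (hU n hn).1
      exact hQa ▸ (gammaFil_isMulFiltration ε).aeval_mem hα Q hQ
    · have hrel2 : Rel (famWeight l.length N) (famVar l.length N) (famVal x) (n * s)
          (LambdaOps.lam n z - (-1) ^ (n - 1) * (n : MvPolynomial (Fin l.length × Fin N) ℤ) ^ (m - 1) * z)
          (LambdaOps.lam n (l.map fun p => LambdaRing.gamma p.1 p.2).prod -
            (-1 : A) ^ (n - 1) * (n : A) ^ (m - 1) * (l.map fun p => LambdaRing.gamma p.1 p.2).prod) := by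
        refine hlam.sub ?_
        have h := (Rel.intCast_mul ((-1 : ℤ) ^ (n - 1) * (n : ℤ) ^ (m - 1)) hrel).mono (Nat.le_mul_of_pos_left s hn)
        simpa using h
      obtain ⟨Q, hQ, hQa⟩ := exists_poly_ge x hrel2 (hU n hn).2
      exact hQa ▸ (gammaFil_isMulFiltration ε).aeval_mem hα Q hQ
  exact ⟨fun n hn => (key n hn).1, fun n hn => (key n hn).2⟩

section Leading

variable [LambdaOps K] [BinomialRing K] [Algebra K A]

theorem mem_span_gens (ε : A →ₐ[K] K) {n : ℕ} {z : A}
    (hz : z ∈ gammaFil (ε : A →+* K) n) : z ∈ Submodule.span K (gammaFilGens (ε : A →+* K) n) := by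
  have h := gammaFil_restrictScalars ε Set.univ (by simp) n
  have hz' : z ∈ (gammaFil (ε : A →+* K) n).restrictScalars K := hz
  rw [h] at hz'
  refine Submodule.span_mono ?_ hz'
  rintro y ⟨l, -, hs, rfl⟩
  refine ⟨l.map fun p => (p.1, p.2 - algebraMap K A (ε p.2)), ?_, ?_, ?_⟩
  · intro p hp
    obtain ⟨q, -, rfl⟩ := List.mem_map.mp hp
    simp
  · simpa [List.map_map, Function.comp_def] using hs
  · simp [List.map_map, Function.comp_def]

theorem span_gens_le (ε : A →ₐ[K] K) (n : ℕ) {z : A}
    (hz : z ∈ Submodule.span K (gammaFilGens (ε : A →+* K) n)) : z ∈ gammaFil (ε : A →+* K) n :=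
  (Submodule.span_le (p := (gammaFil (ε : A →+* K) n).restrictScalars K)).mpr (fun _ hy => Ideal.subset_span hy) hz

/-- `λ^n(z) ≡ (-1)^(n-1) n^(m-1) z` on `F^m / F^(m+1)`. -/
theorem lam_leading (hKb : IsBinomial K) (hA : IsSpecial A) (ε : A →ₐ[K] K)
    (hε : IsAugLambdaAlg K A ε) {m : ℕ} (hm : 1 ≤ m) {z : A} (hz : z ∈ gammaFil (ε : A →+* K) m) :
    ∀ n, 1 ≤ n → LambdaOps.lam n z ∈ gammaFil (ε : A →+* K) m ∧
      LambdaOps.lam n z - (-1 : A) ^ (n - 1) * (n : A) ^ (m - 1) * z ∈ gammaFil (ε : A →+* K) (m + 1) := by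
  set T := gammaFil (ε : A →+* K)
  have hT : IsMulFiltration T := gammaFil_isMulFiltration _
  have hz' := mem_span_gens ε hz
  induction hz' using Submodule.span_induction with
  | mem y hy =>
    obtain ⟨l, hl, hs, rfl⟩ := hy
    exact fun n hn => ⟨(prod_gamma_lam hA l hl hm hs).1 n hn, (prod_gamma_lam hA l hl hm hs).2 n hn⟩
  | zero =>
    intro n hn
    rw [lam_zero_right (by omega)]
    simp
  | add a b ha hb iha ihb =>
    intro n hn
    have iha := iha (span_gens_le ε m ha)
    have ihb := ihb (span_gens_le ε m hb)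
    have hsplit : LambdaOps.lam n (a + b) - (LambdaOps.lam n a + LambdaOps.lam n b) ∈ T (m + 1) := by
      obtain ⟨p, rfl⟩ : ∃ p, n = p + 1 := ⟨n - 1, by omega⟩
      rw [LambdaOps.lam_add, sum_range_succ, sum_range_succ', Nat.sub_self, Nat.sub_zero, LambdaOps.lam_zero,
        LambdaOps.lam_zero, one_mul, mul_one]
      have hrest : ∑ k ∈ range p, LambdaOps.lam (k + 1) a * LambdaOps.lam (p + 1 - (k + 1)) b ∈ T (m + 1) := by
        refine sum_mem fun k hk => hT.anti (show m + 1 ≤ m + m by omega) ?_
        rw [mem_range] at hk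
        exact hT.mul_mem (iha (k + 1) (by omega)).1 (ihb (p + 1 - (k + 1)) (by omega)).1
      convert hrest using 1
      ring
    constructor
    · have := add_mem (hT.anti (Nat.le_succ m) hsplit) (add_mem (iha n hn).1 (ihb n hn).1)
      simpa using this
    · have := add_mem hsplit (add_mem (iha n hn).2 (ihb n hn).2)
      convert this using 1
      ring
  | smul k y hy ih =>
    have hyT : y ∈ T m := span_gens_le ε m hy
    have ih := ih hyT
    intro n hn
    rw [Algebra.smul_def, lam_algebraMap_mul hKb hA hε.isLambdaAlg]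
    obtain ⟨p, rfl⟩ : ∃ p, n = p + 1 := ⟨n - 1, by omega⟩
    have hg : ∀ r, PowerSeries.coeff r (lamSeries y - 1) ∈ T m := by
      intro r
      rcases r with _ | r
      · simp [constantCoeff_lamSeries]
      · rw [map_sub, coeff_lamSeries, PowerSeries.coeff_one, if_neg (Nat.succ_ne_zero r), sub_zero]
        exact (ih (r + 1) (by omega)).1
    have hpow : ∀ i, 2 ≤ i → ∀ r, PowerSeries.coeff r ((lamSeries y - 1) ^ i) ∈ T (m + 1) := by
      intro i hi r
      obtain ⟨i, rfl⟩ : ∃ i', i = i' + 2 := ⟨i - 2, by omega⟩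
      rw [pow_add, sq, PowerSeries.coeff_mul]
      refine sum_mem fun x _ => Ideal.mul_mem_left _ _ ?_
      rw [PowerSeries.coeff_mul]
      exact sum_mem fun x _ => hT.anti (show m + 1 ≤ m + m by omega) (hT.mul_mem (hg _) (hg _))
    rw [sum_range_succ', sum_range_succ']
    simp only [zero_add, pow_zero, pow_one, PowerSeries.coeff_one, Nat.succ_ne_zero, if_false, mul_zero, add_zero,
      LambdaOps.lam_one]
    rw [map_sub, coeff_lamSeries, PowerSeries.coeff_one, if_neg (Nat.succ_ne_zero p), sub_zero]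
    have hrest : ∑ i ∈ range p, algebraMap K A (LambdaOps.lam (i + 1 + 1) k) *
        PowerSeries.coeff (p + 1) ((lamSeries y - 1) ^ (i + 1 + 1)) ∈ T (m + 1) :=
      sum_mem fun i _ => Ideal.mul_mem_left _ _ (hpow _ (by omega) _)
    constructor
    · exact add_mem (hT.anti (Nat.le_succ m) hrest) (Ideal.mul_mem_left _ _ (ih (p + 1) (by omega)).1)
    · have := add_mem hrest (Ideal.mul_mem_left _ (algebraMap K A k) (ih (p + 1) (by omega)).2)
      convert this using 1
      ring

theorem gamma_leading (hKb : IsBinomial K) (hA : IsSpecial A) (ε : A →ₐ[K] K)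
    (hε : IsAugLambdaAlg K A ε) {m : ℕ} (hm : 1 ≤ m) {z : A} (hz : z ∈ gammaFil (ε : A →+* K) m) :
    LambdaRing.gamma m z - (-1 : A) ^ (m - 1) * ((m - 1).factorial : A) * z ∈
      gammaFil (ε : A →+* K) (m + 1) := by
  obtain ⟨p, rfl⟩ : ∃ p, m = p + 1 := ⟨m - 1, by omega⟩
  have h := lam_leading hKb hA ε hε hm hz
  have hc : (-1 : A) ^ p * (p.factorial : A) =
      ∑ i ∈ range (p + 1), (p.choose i : A) * (-1) ^ i * ((i + 1 : ℕ) : A) ^ p := by
    have := congrArg (Int.cast : ℤ → A) (alt_sum_choose_mul_pow p)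
    simpa [eq_comm] using this
  rw [LambdaRing.gamma, if_neg (Nat.succ_ne_zero p), sum_range_succ', if_pos rfl, mul_zero, add_zero,
    Nat.add_sub_cancel, hc, sum_mul, ← sum_sub_distrib]
  refine sum_mem fun i _ => ?_
  rw [if_neg (Nat.succ_ne_zero i), Nat.add_sub_cancel]
  have := (h (i + 1) (by omega)).2
  rw [Nat.add_sub_cancel, Nat.add_sub_cancel] at this
  convert Ideal.mul_mem_left _ (p.choose i : A) this using 1
  ring

end Leading

end Groth.Agent.Lambda
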