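import Groth.Agent.Lambda.Series

/-!
# Positive structures, the splitting principle and Adams operations
-/

universe u

open PowerSeries Finset LambdaRing

namespace Groth.Agent.Lambda

variable {K : Type u} [CommRing K] [LambdaOps K] {P : PosStructure K}

theorem one_mem_pos (P : PosStructure K) : (1 : K) ∈ P.pos := by
  simpa using P.natCast_mem 1 one_pos

theorem isLine_one (P : PosStructure K) : P.IsLine (1 : K) := ⟨one_mem_pos P, map_one _⟩

theorem isLine_mul {u v : K} (hu : P.IsLine u) (hv : P.IsLine v) : P.IsLine (u * v) :=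
  ⟨P.mul_mem u v hu.1 hv.1, by rw [map_mul, hu.2, hv.2, one_mul]⟩

theorem isLine_pow {u : K} (hu : P.IsLine u) (n : ℕ) : P.IsLine (u ^ n) := by
  induction n with
  | zero => simpa using isLine_one P
  | succ n ih => rw [pow_succ]; exact isLine_mul ih hu

theorem lam_line {u : K} (hu : P.IsLine u) : ∀ i, 2 ≤ i → LambdaOps.lam i u = 0 := fun i hi =>
  P.lam_eq_zero u hu.1 i (by rw [hu.2]; exact_mod_cast hi)

theorem lam_one_eq_zero (P : PosStructure K) : ∀ i, 2 ≤ i → LambdaOps.lam i (1 : K) = 0 :=
  lam_line (isLine_one P)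

theorem lamSeries_line {u : K} (hu : P.IsLine u) : lamSeries u = 1 + C u * X :=
  lamSeries_of_lam_eq_zero (lam_line hu)

theorem isUnit_line {u : K} (hu : P.IsLine u) : IsUnit u := by
  simpa [hu.2, LambdaOps.lam_one] using P.isUnit_lam u hu.1

theorem aug_toNat {e : K} (he : e ∈ P.pos) : ((P.aug e).toNat : ℤ) = P.aug e :=
  Int.toNat_of_nonneg (P.aug_pos e he).le

theorem lam_eq_zero_of_toNat_lt {e : K} (he : e ∈ P.pos) {i : ℕ} (hi : (P.aug e).toNat < i) :
    LambdaOps.lam i e = 0 :=
  P.lam_eq_zero e he i (by rw [← aug_toNat he]; exact_mod_cast hi)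

theorem aug_lines_sum {s : Multiset K} (hs : ∀ u ∈ s, P.IsLine u) :
    P.aug s.sum = (Multiset.card s : ℤ) := by
  rw [map_multiset_sum, Multiset.map_congr rfl (fun u hu => (hs u hu).2), Multiset.map_const',
    Multiset.sum_replicate, nsmul_eq_mul, mul_one]

theorem lam_lines_sum {s : Multiset K} (hs : ∀ u ∈ s, P.IsLine u) (k : ℕ) :
    LambdaOps.lam k s.sum = s.esymm k :=
  lam_multiset_sum_eq_esymm (fun u hu => lam_line (hs u hu)) k

theorem sum_map_sub_one (s : Multiset K) :
    (s.map fun u => u - 1).sum = s.sum - (Multiset.card s : K) := by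
  rw [Multiset.sum_map_sub, Multiset.map_id', Multiset.map_const', Multiset.sum_replicate,
    nsmul_eq_mul, mul_one]

theorem gamma_lines_sum_sub_card {s : Multiset K} (hs : ∀ u ∈ s, P.IsLine u) (k : ℕ) :
    LambdaRing.gamma k (s.sum - (Multiset.card s : K)) = (s.map fun u => u - 1).esymm k := by
  rw [← sum_map_sub_one]
  exact gamma_multiset_sum_sub_one (lam_one_eq_zero P) (fun u hu => lam_line (hs u hu)) k

/-! ## Maps -/

section Maps

variable {K' : Type u} [CommRing K'] [LambdaOps K'] {P' : PosStructure K'} {f : K →+* K'}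

theorem map_lamSeries (hf : IsLambdaHom f) (x : K) :
    PowerSeries.map f (lamSeries x) = lamSeries (f x) := by
  ext n
  simp [coeff_lamSeries, hf n x]

theorem map_gamma (hf : IsLambdaHom f) (n : ℕ) (x : K) :
    f (LambdaRing.gamma n x) = LambdaRing.gamma n (f x) := by
  unfold LambdaRing.gamma
  split_ifs with h
  · exact map_one f
  · rw [map_sum]
    refine sum_congr rfl fun j _ => ?_
    rw [map_mul, map_natCast, apply_ite f, map_zero, hf]

theorem map_isLine (hf : IsExtension P P' f) {u : K} (hu : P.IsLine u) : P'.IsLine (f u) :=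
  ⟨hf.pos_subset u hu.1, by rw [hf.aug_comp]; exact hu.2⟩

theorem isExtension_id (P : PosStructure K) : IsExtension P P (RingHom.id K) :=
  ⟨fun _ _ => rfl, fun _ _ h => h, fun _ => rfl, fun _ h => h⟩

theorem isExtension_comp {K'' : Type u} [CommRing K''] [LambdaOps K''] {P'' : PosStructure K''}
    {g : K' →+* K''} (hf : IsExtension P P' f) (hg : IsExtension P' P'' g) :
    IsExtension P P'' (g.comp f) where
  isLambdaHom i x := by simp [hf.isLambdaHom i x, hg.isLambdaHom i (f x)]
  injective := hg.injective.comp hf.injective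
  aug_comp x := by simp [hg.aug_comp, hf.aug_comp]
  pos_subset e he := hg.pos_subset _ (hf.pos_subset e he)

end Maps

/-! ## Splitting -/

/-- Finitely many positive elements split simultaneously in some extension. -/
theorem exists_split_list (hK : HasSplitting K P) (es : List K) (hes : ∀ e ∈ es, e ∈ P.pos) :
    ∃ (L : PosLambdaRing.{u}) (f : K →+* L.carrier), IsExtension P L.posStr f ∧
      HasSplitting L.carrier L.posStr ∧
      ∀ e ∈ es, ∃ s : Multiset L.carrier, (∀ u ∈ s, L.posStr.IsLine u) ∧ s.sum = f e := by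
  obtain ⟨C, hC, hsplit⟩ := hK
  suffices H : ∃ L ∈ C, ∃ f : K →+* L.carrier, IsExtension P L.posStr f ∧
      ∀ e ∈ es, ∃ s : Multiset L.carrier, (∀ u ∈ s, L.posStr.IsLine u) ∧ s.sum = f e by
    obtain ⟨L, hL, f, hf, h⟩ := H
    exact ⟨L, f, hf, ⟨C, hL, hsplit⟩, h⟩
  induction es with
  | nil => exact ⟨⟨K, P⟩, hC, RingHom.id K, isExtension_id P, by simp⟩
  | cons e es ih =>
    obtain ⟨L, hL, f, hf, h⟩ := ih fun e' he' => hes e' (by simp [he'])
    obtain ⟨L', hL', g, hg, s, hs, hsum⟩ := hsplit L hL (f e) (hf.pos_subset e (hes e (by simp)))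
    refine ⟨L', hL', g.comp f, isExtension_comp hf hg, ?_⟩
    intro e' he'
    rcases List.mem_cons.mp he' with rfl | he'
    · exact ⟨s, hs, hsum⟩
    · obtain ⟨t, ht, htsum⟩ := h e' he'
      refine ⟨t.map g, ?_, by rw [RingHom.comp_apply, ← htsum, map_multiset_sum]⟩
      intro u hu
      obtain ⟨v, hv, rfl⟩ := Multiset.mem_map.mp hu
      exact map_isLine hg (ht v hv)

/-- A positive element splits. -/
theorem exists_split (hK : HasSplitting K P) {e : K} (he : e ∈ P.pos) :
    ∃ (L : PosLambdaRing.{u}) (f : K →+* L.carrier), IsExtension P L.posStr f ∧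
      HasSplitting L.carrier L.posStr ∧
      ∃ s : Multiset L.carrier, (∀ u ∈ s, L.posStr.IsLine u) ∧ s.sum = f e ∧
        Multiset.card s = (P.aug e).toNat := by
  obtain ⟨L, f, hf, hL, h⟩ := exists_split_list hK [e] (by simpa using he)
  obtain ⟨s, hs, hsum⟩ := h e (by simp)
  refine ⟨L, f, hf, hL, s, hs, hsum, ?_⟩
  rw [← hf.aug_comp, ← hsum, aug_lines_sum hs, Int.toNat_natCast]

theorem aug_lam (hK : HasSplitting K P) {e : K} (he : e ∈ P.pos) (i : ℕ) :
    P.aug (LambdaOps.lam i e) = ((P.aug e).toNat.choose i : ℤ) := by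
  obtain ⟨L, f, hf, -, s, hs, hsum, hcard⟩ := exists_split hK he
  rw [← hf.aug_comp, hf.isLambdaHom, ← hsum, lam_lines_sum hs, Multiset.esymm, map_multiset_sum,
    Multiset.map_map, Multiset.map_congr rfl (g := fun _ => (1 : ℤ)), Multiset.map_const',
    Multiset.sum_replicate, Multiset.card_powersetCard, hcard, nsmul_eq_mul, mul_one]
  intro t ht
  rw [Function.comp_apply, map_multiset_prod, Multiset.prod_eq_one]
  intro x hx
  obtain ⟨u, hu, rfl⟩ := Multiset.mem_map.mp hx
  exact (hs u (Multiset.mem_of_le (Multiset.mem_powersetCard.mp ht).1 hu)).2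

/-! ## Adams operations -/

/-- `λ_{-t}(x)`. -/
noncomputable def negLamSeries (x : K) : PowerSeries K := rescale (-1 : K) (lamSeries x)

theorem constantCoeff_negLamSeries (x : K) : constantCoeff (negLamSeries x) = 1 := by
  rw [negLamSeries, ← coeff_zero_eq_constantCoeff_apply, coeff_rescale, coeff_lamSeries,
    LambdaOps.lam_zero, pow_zero, one_mul]

theorem negLamSeries_mul_invOfUnit (x : K) :
    negLamSeries x * (negLamSeries x).invOfUnit 1 = 1 :=
  mul_invOfUnit _ _ (constantCoeff_negLamSeries x)

theorem negLamSeries_add (x y : K) :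
    negLamSeries (x + y) = negLamSeries x * negLamSeries y := by
  simp [negLamSeries, lamSeries_add]

/-- `(d/dt) log λ_{-t}(x)`. -/
noncomputable def dlogNeg (x : K) : PowerSeries K :=
  PowerSeries.derivative K (negLamSeries x) * (negLamSeries x).invOfUnit 1

theorem dlogNeg_eq_of_mul_eq {x : K} {D : PowerSeries K}
    (h : D * negLamSeries x = PowerSeries.derivative K (negLamSeries x)) : dlogNeg x = D := by
  rw [dlogNeg, ← h, mul_assoc, negLamSeries_mul_invOfUnit, mul_one]

theorem dlogNeg_mul_self (x : K) :
    dlogNeg x * negLamSeries x = PowerSeries.derivative K (negLamSeries x) := by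
  rw [dlogNeg, mul_assoc, mul_comm (PowerSeries.invOfUnit _ _), negLamSeries_mul_invOfUnit, mul_one]

theorem dlogNeg_add (x y : K) : dlogNeg (x + y) = dlogNeg x + dlogNeg y := by
  refine dlogNeg_eq_of_mul_eq ?_
  rw [negLamSeries_add, Derivation.leibniz, smul_eq_mul, smul_eq_mul, ← dlogNeg_mul_self x,
    ← dlogNeg_mul_self y]
  ring

theorem adamsSeries_eq (P : PosStructure K) (x : K) :
    adamsSeries P x = C (P.aug x : K) - X * dlogNeg x := by
  rw [adamsSeries, dlogNeg, negLamSeries, mul_assoc]

theorem adams_add (P : PosStructure K) (j : ℕ) (x y : K) :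
    adams P j (x + y) = adams P j x + adams P j y := by
  simp only [adams, adamsSeries_eq, dlogNeg_add, map_add, Int.cast_add, map_sub, mul_add]
  abel

/-- `ψ^j` as an additive map. -/
noncomputable def adamsHom (P : PosStructure K) (j : ℕ) : K →+ K :=
  AddMonoidHom.mk' (adams P j) (adams_add P j)

@[simp] theorem adamsHom_apply (P : PosStructure K) (j : ℕ) (x : K) :
    adamsHom P j x = adams P j x := rfl

theorem adams_zero_left (P : PosStructure K) (x : K) : adams P 0 x = (P.aug x : K) := by
  simp [adams, adamsSeries_eq]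

theorem adams_line {u : K} (hu : P.IsLine u) (j : ℕ) : adams P j u = u ^ j := by
  have hD : dlogNeg u = C (-u) * PowerSeries.mk (fun n => u ^ n) := by
    refine dlogNeg_eq_of_mul_eq ?_
    have hA : negLamSeries u = 1 - C u * X := by
      ext n
      rw [negLamSeries, coeff_rescale, lamSeries_line hu]
      match n with
      | 0 => simp
      | 1 => simp
      | n + 2 => simp [coeff_one, coeff_X]
    have hinv : PowerSeries.mk (fun n => u ^ n) * (1 - C u * X) = 1 := by
      ext n
      rcases n with _ | n
      · simp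
      · rw [mul_sub, mul_one, map_sub, mul_comm (C u) X, ← mul_assoc, coeff_mk,
          coeff_mul_C, coeff_succ_mul_X, coeff_mk, coeff_one, if_neg (Nat.succ_ne_zero n)]
        ring
    rw [hA, mul_assoc, hinv, mul_one, map_sub, derivative_one, Derivation.leibniz, derivative_C,
      derivative_X, smul_eq_mul, smul_zero, add_zero, mul_one, map_neg, zero_sub]
  rcases j with _ | n
  · simp [adams_zero_left, hu.2]
  · rw [adams, adamsSeries_eq, map_sub, coeff_succ_X_mul, hD, coeff_C, if_neg (Nat.succ_ne_zero n),
      coeff_C_mul, coeff_mk, pow_succ]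
    ring

theorem adams_lines_sum {s : Multiset K} (hs : ∀ u ∈ s, P.IsLine u) (j : ℕ) :
    adams P j s.sum = (s.map fun u => u ^ j).sum := by
  rw [← adamsHom_apply, map_multiset_sum]
  exact congrArg _ (Multiset.map_congr rfl fun u hu => adams_line (hs u hu) j)

theorem adams_one (P : PosStructure K) (j : ℕ) : adams P j (1 : K) = 1 := by
  rw [adams_line (isLine_one P), one_pow]

theorem map_adams {K' : Type u} [CommRing K'] [LambdaOps K'] {P' : PosStructure K'}
    {f : K →+* K'} (hf : IsLambdaHom f) (haug : ∀ x, P'.aug (f x) = P.aug x) (j : ℕ) (x : K) :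
    f (adams P j x) = adams P' j (f x) := by
  have hA : PowerSeries.map f (negLamSeries x) = negLamSeries (f x) := by
    ext n
    simp [negLamSeries, coeff_rescale, coeff_lamSeries, hf n x]
  have hder : ∀ φ : PowerSeries K, PowerSeries.map f (PowerSeries.derivative K φ) =
      PowerSeries.derivative K' (PowerSeries.map f φ) := fun φ => by
    ext n
    simp [PowerSeries.coeff_derivative]
  have hD : dlogNeg (f x) = PowerSeries.map f (dlogNeg x) := by
    refine dlogNeg_eq_of_mul_eq ?_
    rw [← hA, ← map_mul, dlogNeg_mul_self, hder]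
  rw [adams, adams, adamsSeries_eq, adamsSeries_eq, hD, haug, ← PowerSeries.coeff_map, map_sub,
    map_mul, PowerSeries.map_C, map_intCast, PowerSeries.map_X]

theorem sum_product_mul {R : Type*} [CommRing R] (s t : Multiset R) :
    ((s.product t).map fun p => p.1 * p.2).sum = s.sum * t.sum := by
  induction s using Multiset.induction_on with
  | empty => simp [Multiset.product]
  | cons a s ih =>
    rw [show (a ::ₘ s).product t = t.map (Prod.mk a) + s.product t from Multiset.cons_bind _ _ _,
      Multiset.map_add, Multiset.sum_add, ih, Multiset.map_map, Multiset.sum_cons, add_mul]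
    congr 1
    simpa using Multiset.sum_map_mul_left (s := t) (a := a) (f := id)

theorem adams_mul (hK : HasSplitting K P) (j : ℕ) (x y : K) :
    adams P j (x * y) = adams P j x * adams P j y := by
  have key : ∀ e ∈ P.pos, ∀ g ∈ P.pos, adams P j (e * g) = adams P j e * adams P j g := by
    intro e he g hg
    obtain ⟨L, f, hf, -, h⟩ := exists_split_list hK [e, g] (by simp [he, hg])
    obtain ⟨s, hs, hse⟩ := h e (by simp)
    obtain ⟨t, ht, hte⟩ := h g (by simp)
    apply hf.injective
    have hst : s.sum * t.sum = ((s.product t).map fun p => p.1 * p.2).sum :=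
      (sum_product_mul s t).symm
    have hl : ∀ u ∈ (s.product t).map fun p => p.1 * p.2, L.posStr.IsLine u := by
      intro u hu
      obtain ⟨⟨a, b⟩, hab, rfl⟩ := Multiset.mem_map.mp hu
      obtain ⟨ha, hb⟩ := Multiset.mem_product.mp hab
      exact isLine_mul (hs a ha) (ht b hb)
    rw [map_mul, map_adams hf.isLambdaHom hf.aug_comp, map_adams hf.isLambdaHom hf.aug_comp,
      map_adams hf.isLambdaHom hf.aug_comp, map_mul, ← hse, ← hte, hst, adams_lines_sum hl,
      adams_lines_sum hs, adams_lines_sum ht]
    simp [Multiset.product, Multiset.map_bind, Multiset.sum_bind, Multiset.map_map,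
      Function.comp_def, Multiset.sum_map_mul_left, Multiset.sum_map_mul_right, mul_pow]
  obtain ⟨e, g, he, hg, rfl⟩ := P.exists_sub x
  obtain ⟨e', g', he', hg', rfl⟩ := P.exists_sub y
  have := fun a b => map_sub (adamsHom P j) a b
  simp only [adamsHom_apply] at this
  rw [show (e - g) * (e' - g') = e * e' + g * g' - (e * g' + g * e') by ring]
  simp only [this, adams_add, key e he e' he', key g hg g' hg', key e he g' hg', key g hg e' he']
  ring

/-- `ψ^j` as a ring homomorphism. -/
noncomputable def adamsRingHom (hK : HasSplitting K P) (j : ℕ) : K →+* K where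
  toFun := adams P j
  map_one' := adams_one P j
  map_mul' := adams_mul hK j
  map_zero' := map_zero (adamsHom P j)
  map_add' := adams_add P j

theorem aug_adams (hK : HasSplitting K P) (j : ℕ) (x : K) : P.aug (adams P j x) = P.aug x := by
  have key : ∀ e ∈ P.pos, P.aug (adams P j e) = P.aug e := by
    intro e he
    obtain ⟨L, f, hf, -, s, hs, hse, -⟩ := exists_split hK he
    rw [← hf.aug_comp, map_adams hf.isLambdaHom hf.aug_comp, ← hse, adams_lines_sum hs,
      ← hf.aug_comp e, ← hse, aug_lines_sum hs, aug_lines_sum, Multiset.card_map]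
    intro u hu
    obtain ⟨v, hv, rfl⟩ := Multiset.mem_map.mp hu
    exact isLine_pow (hs v hv) j
  obtain ⟨e, g, he, hg, rfl⟩ := P.exists_sub x
  rw [← adamsHom_apply, map_sub, map_sub, map_sub, adamsHom_apply, adamsHom_apply, key e he, key g hg]

theorem adams_adams (hK : HasSplitting K P) (i j : ℕ) (x : K) :
    adams P i (adams P j x) = adams P (i * j) x := by
  have key : ∀ e ∈ P.pos, adams P i (adams P j e) = adams P (i * j) e := by
    intro e he
    obtain ⟨L, f, hf, -, s, hs, hse, -⟩ := exists_split hK he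
    apply hf.injective
    simp only [map_adams hf.isLambdaHom hf.aug_comp, ← hse]
    have hl : ∀ u ∈ s.map fun u => u ^ j, L.posStr.IsLine u := by
      intro u hu
      obtain ⟨v, hv, rfl⟩ := Multiset.mem_map.mp hu
      exact isLine_pow (hs v hv) j
    rw [adams_lines_sum hs, adams_lines_sum hl, adams_lines_sum hs, Multiset.map_map]
    refine congrArg _ (Multiset.map_congr rfl fun u _ => ?_)
    rw [Function.comp_apply, ← pow_mul, mul_comm j i]
  obtain ⟨e, g, he, hg, rfl⟩ := P.exists_sub x
  simp only [← adamsHom_apply, map_sub]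
  simp only [adamsHom_apply, key e he, key g hg]

end Groth.Agent.Lambda
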