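import Groth.Agent.Lambda.Pos
import Mathlib.Algebra.Polynomial.Coeff

/-!
# `Σ γ^i(e - m) t^(m-i) = Σ λ^i(e) (t-1)^(m-i)`
-/

universe u

open PowerSeries Finset LambdaRing

namespace Groth.Agent.Lambda

variable {K : Type u} [CommRing K] [LambdaOps K] {P : PosStructure K}

theorem one_sub_X_pow_coeff {R : Type*} [CommRing R] (p q : ℕ) :
    coeff q ((1 - X : PowerSeries R) ^ p) = (-1) ^ q * (p.choose q : R) := by
  have : (1 - X : PowerSeries R) ^ p = rescale (-1) ((1 + X) ^ p) := by
    rw [map_pow, map_add, map_one, rescale_X, map_neg, map_one]; ring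
  rw [this, coeff_rescale,
    show ((1 : PowerSeries R) + X) ^ p = (((1 + Polynomial.X : Polynomial R) ^ p : Polynomial R) : PowerSeries R)
      by simp,
    Polynomial.coeff_coe, Polynomial.coeff_one_add_X_pow]

theorem gamma_sub_natCast {e : K} (he : e ∈ P.pos) (n : ℕ) :
    gammaSeries (e - ((P.aug e).toNat : K)) =
      ∑ k ∈ range ((P.aug e).toNat + 1),
        C (LambdaOps.lam k e) * (X ^ k * (1 - X) ^ ((P.aug e).toNat - k)) := by
  set m := (P.aug e).toNat with hm
  have h1 : gammaSeries (1 : K) * (1 - X) = 1 := by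
    rw [gammaSeries_of_lam_eq_zero (lam_one_eq_zero P), map_one, one_mul, add_mul, tOneSub,
      mul_assoc, mk_one_mul_one_sub_eq_one]
    ring
  have he' : lamSeries e =
      ((∑ k ∈ range (m + 1), Polynomial.C (LambdaOps.lam k e) * Polynomial.X ^ k : Polynomial K) :
        PowerSeries K) := by
    ext i
    rw [coeff_lamSeries, Polynomial.coeff_coe, Polynomial.finsetSum_coeff]
    simp only [Polynomial.coeff_C_mul, Polynomial.coeff_X_pow, mul_ite, mul_one, mul_zero,
      sum_ite_eq, mem_range]
    split_ifs with h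
    · rfl
    · exact lam_eq_zero_of_toNat_lt he (by omega)
  calc gammaSeries (e - (m : K))
      = gammaSeries (e - (m : K)) * (gammaSeries (m • (1 : K)) * (1 - X) ^ m) := by
        rw [gammaSeries_nsmul, ← mul_pow, h1, one_pow, mul_one]
    _ = gammaSeries e * (1 - X) ^ m := by
        rw [← mul_assoc, ← gammaSeries_add, nsmul_one, sub_add_cancel]
    _ = _ := by
        rw [gammaSeries_eq_subst, he', subst_coe hasSubst_tOneSub, map_sum, sum_mul]
        refine sum_congr rfl fun k hk => ?_
        rw [mem_range] at hk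
        rw [map_mul, Polynomial.aeval_C, map_pow, Polynomial.aeval_X, tOneSub,
          show algebraMap K (PowerSeries K) (LambdaOps.lam k e) = C (LambdaOps.lam k e) from rfl,
          mul_pow, show (1 - X : PowerSeries K) ^ m = (1 - X) ^ k * (1 - X) ^ (m - k) by
            rw [← pow_add]; congr 1; omega,
          show C (LambdaOps.lam k e) * (X ^ k * mk 1 ^ k) * ((1 - X) ^ k * (1 - X) ^ (m - k)) =
            C (LambdaOps.lam k e) * (X ^ k * (1 - X) ^ (m - k)) * ((mk 1 * (1 - X)) ^ k) by
            rw [mul_pow]; ring,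
          mk_one_mul_one_sub_eq_one, one_pow, mul_one]

theorem gamma_sub_aug_identity {e : K} (he : e ∈ P.pos) :
    (∑ i ∈ range ((P.aug e).toNat + 1),
        Polynomial.C (LambdaRing.gamma i (e - ((P.aug e).toNat : K))) *
          Polynomial.X ^ ((P.aug e).toNat - i)) =
      ∑ i ∈ range ((P.aug e).toNat + 1),
        Polynomial.C (LambdaOps.lam i e) * (Polynomial.X - 1) ^ ((P.aug e).toNat - i) := by
  set m := (P.aug e).toNat with hm
  ext n
  simp only [Polynomial.finsetSum_coeff, Polynomial.coeff_C_mul]
  have hX : ∀ p, ((Polynomial.X - 1 : Polynomial K) ^ p).coeff n = (-1) ^ (p - n) * (p.choose n : K) := by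
    intro p
    rw [show (Polynomial.X - 1 : Polynomial K) = Polynomial.X + Polynomial.C (-1) by simp [sub_eq_add_neg],
      Polynomial.coeff_X_add_C_pow]
  simp only [hX, Polynomial.coeff_X_pow, mul_ite, mul_one, mul_zero]
  rcases le_or_gt n m with hn | hn
  · rw [Finset.sum_eq_single (m - n) (fun i hi hne => if_neg (by rw [mem_range] at hi; omega))
      (fun h => absurd (mem_range.mpr (by omega)) h), if_pos (by omega), ← coeff_gammaSeries,
      gamma_sub_natCast he m, map_sum]
    refine sum_congr rfl fun k hk => ?_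
    rw [mem_range] at hk
    rw [coeff_C_mul, coeff_X_pow_mul', ← hm]
    split_ifs with h
    · rw [one_sub_X_pow_coeff, show m - n - k = m - k - n by omega,
        Nat.choose_symm (by omega : n ≤ m - k)]
    · rw [Nat.choose_eq_zero_of_lt (by omega : m - k < n), Nat.cast_zero, mul_zero]; simp
  · rw [sum_eq_zero fun i _ => if_neg (by omega), sum_eq_zero fun i _ => ?_]
    rw [Nat.choose_eq_zero_of_lt (by omega : m - i < n), Nat.cast_zero, mul_zero, mul_zero]

end Groth.Agent.Lambda
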