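import Groth.Agent.Lambda.Pos

/-!
# The γ-filtration
-/

universe u

open PowerSeries Finset LambdaRing

namespace Groth.Agent.Lambda

variable {K : Type u} [CommRing K] [LambdaOps K] {P : PosStructure K}

/-- The generators of `F^n`. -/
def gammaGens (P : PosStructure K) (n : ℕ) : Set K :=
  {y | ∃ (l : List (ℕ × K)), (∀ p ∈ l, P.aug p.2 = 0) ∧ n ≤ (l.map Prod.fst).sum ∧
    y = (l.map fun p => LambdaRing.gamma p.1 p.2).prod}

theorem gammaFiltration_zero (P : PosStructure K) : gammaFiltration P 0 = ⊤ := if_pos rfl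

theorem gammaFiltration_of_ne_zero (P : PosStructure K) {n : ℕ} (hn : n ≠ 0) :
    gammaFiltration P n = AddSubgroup.closure (gammaGens P n) := if_neg hn

theorem mem_of_mem_gens {n : ℕ} {y : K} (hy : y ∈ gammaGens P n) : y ∈ gammaFiltration P n := by
  rcases eq_or_ne n 0 with rfl | hn
  · simp [gammaFiltration_zero]
  · rw [gammaFiltration_of_ne_zero P hn]; exact AddSubgroup.subset_closure hy

theorem gens_anti {m n : ℕ} (h : m ≤ n) : gammaGens P n ⊆ gammaGens P m := by
  rintro y ⟨l, hl, hsum, rfl⟩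
  exact ⟨l, hl, h.trans hsum, rfl⟩

theorem gammaFiltration_anti {m n : ℕ} (h : m ≤ n) :
    gammaFiltration P n ≤ gammaFiltration P m := by
  rcases eq_or_ne m 0 with rfl | hm
  · simp [gammaFiltration_zero]
  · rw [gammaFiltration_of_ne_zero P hm, gammaFiltration_of_ne_zero P (by omega)]
    exact AddSubgroup.closure_mono (gens_anti h)

theorem gamma_mem {x : K} (hx : P.aug x = 0) (r : ℕ) :
    LambdaRing.gamma r x ∈ gammaFiltration P r :=
  mem_of_mem_gens ⟨[(r, x)], by simp [hx], by simp, by simp⟩

theorem mem_one_of_aug_eq_zero {x : K} (hx : P.aug x = 0) : x ∈ gammaFiltration P 1 := by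
  simpa [gamma_one] using gamma_mem hx 1

theorem mul_mem_left {n : ℕ} (a : K) {x : K} (hx : x ∈ gammaFiltration P n) :
    a * x ∈ gammaFiltration P n := by
  rcases eq_or_ne n 0 with rfl | hn
  · simp [gammaFiltration_zero]
  rw [gammaFiltration_of_ne_zero P hn] at hx ⊢
  induction hx using AddSubgroup.closure_induction with
  | mem y hy =>
    obtain ⟨l, hl, hsum, rfl⟩ := hy
    set y := (l.map fun p => LambdaRing.gamma p.1 p.2).prod with hy
    rw [show a * y = (a - (P.aug a : K)) * y + P.aug a • y by rw [zsmul_eq_mul]; ring]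
    refine add_mem (AddSubgroup.subset_closure (show _ ∈ gammaGens P n from
      ⟨(1, a - (P.aug a : K)) :: l, ?_, ?_, ?_⟩))
      (zsmul_mem (AddSubgroup.subset_closure (show y ∈ gammaGens P n from ⟨l, hl, hsum, hy⟩)) _)
    · simpa [map_intCast] using fun p q hp => hl (p, q) hp
    · simp only [List.map_cons, List.sum_cons]; omega
    · simp [gamma_one, hy]
  | zero => simp
  | add y z _ _ hy hz => rw [mul_add]; exact add_mem hy hz
  | neg y _ hy => rw [mul_neg]; exact neg_mem hy

/-- `F^n` as an ideal. -/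
def gammaIdeal (P : PosStructure K) (n : ℕ) : Ideal K where
  carrier := gammaFiltration P n
  add_mem' := add_mem
  zero_mem' := zero_mem _
  smul_mem' a _ hx := mul_mem_left a hx

@[simp] theorem mem_gammaIdeal {n : ℕ} {x : K} :
    x ∈ gammaIdeal P n ↔ x ∈ gammaFiltration P n := Iff.rfl

theorem mul_mem_add {m n : ℕ} {x y : K} (hx : x ∈ gammaFiltration P m)
    (hy : y ∈ gammaFiltration P n) : x * y ∈ gammaFiltration P (m + n) := by
  rcases eq_or_ne m 0 with rfl | hm
  · simpa using mul_mem_left x hy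
  rcases eq_or_ne n 0 with rfl | hn
  · simpa [mul_comm x] using mul_mem_left y hx
  rw [gammaFiltration_of_ne_zero P hm] at hx
  induction hx using AddSubgroup.closure_induction with
  | mem a ha =>
    rw [gammaFiltration_of_ne_zero P hn] at hy
    induction hy using AddSubgroup.closure_induction with
    | mem b hb =>
      obtain ⟨l, hl, hls, rfl⟩ := ha
      obtain ⟨l', hl', hls', rfl⟩ := hb
      refine mem_of_mem_gens ⟨l ++ l', fun p hp => ?_, by simp; omega, by simp⟩
      rcases List.mem_append.mp hp with h | h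
      exacts [hl p h, hl' p h]
    | zero => simp
    | add b c _ _ hb hc => rw [mul_add]; exact add_mem hb hc
    | neg b _ hb => rw [mul_neg]; exact neg_mem hb
  | zero => simp
  | add a b _ _ ha hb => rw [add_mul]; exact add_mem ha hb
  | neg a _ ha => rw [neg_mul]; exact neg_mem ha

theorem prod_mem {ι : Type*} (s : Finset ι) (f : ι → K) (d : ι → ℕ)
    (h : ∀ i ∈ s, f i ∈ gammaFiltration P (d i)) :
    ∏ i ∈ s, f i ∈ gammaFiltration P (∑ i ∈ s, d i) := by
  classical
  induction s using Finset.induction_on with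
  | empty => simp [gammaFiltration_zero]
  | insert a s ha ih =>
    rw [prod_insert ha, sum_insert ha]
    exact mul_mem_add (h a (by simp)) (ih fun i hi => h i (by simp [hi]))

theorem pow_mem {m : ℕ} {x : K} (hx : x ∈ gammaFiltration P m) (k : ℕ) :
    x ^ k ∈ gammaFiltration P (k * m) := by
  induction k with
  | zero => simp [gammaFiltration_zero]
  | succ k ih => rw [pow_succ, Nat.succ_mul]; exact mul_mem_add ih hx

/-! ## Augmentation -/

theorem map_lamSeries_aug_pos (hK : HasSplitting K P) {e : K} (he : e ∈ P.pos) :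
    PowerSeries.map P.aug (lamSeries e) = (1 + X) ^ (P.aug e).toNat := by
  ext n
  rw [PowerSeries.coeff_map, coeff_lamSeries, aug_lam hK he,
    show ((1 : PowerSeries ℤ) + X) ^ (P.aug e).toNat =
      (((1 + Polynomial.X : Polynomial ℤ) ^ (P.aug e).toNat : Polynomial ℤ) : PowerSeries ℤ) by simp,
    Polynomial.coeff_coe, Polynomial.coeff_one_add_X_pow]

theorem aug_lam_of_aug_eq_zero (hK : HasSplitting K P) {x : K} (hx : P.aug x = 0) {i : ℕ}
    (hi : i ≠ 0) : P.aug (LambdaOps.lam i x) = 0 := by
  obtain ⟨e, g, he, hg, rfl⟩ := P.exists_sub x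
  have hu : IsUnit (PowerSeries.map P.aug (lamSeries g)) := (isUnit_lamSeries g).map _
  have hone : PowerSeries.map P.aug (lamSeries (e - g)) = 1 := by
    refine hu.mul_right_cancel ?_
    rw [← map_mul, ← lamSeries_add, sub_add_cancel, one_mul, map_lamSeries_aug_pos hK he,
      map_lamSeries_aug_pos hK hg, sub_eq_zero.mp ((map_sub P.aug e g).symm.trans hx)]
  rw [← coeff_lamSeries, ← PowerSeries.coeff_map, hone, coeff_one, if_neg hi]

theorem aug_gamma (hK : HasSplitting K P) {x : K} (hx : P.aug x = 0) {r : ℕ} (hr : r ≠ 0) :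
    P.aug (LambdaRing.gamma r x) = 0 := by
  unfold LambdaRing.gamma
  rw [if_neg hr, map_sum]
  refine sum_eq_zero fun j _ => ?_
  split_ifs with hj
  · simp
  · rw [map_mul, aug_lam_of_aug_eq_zero hK hx hj, mul_zero]

theorem aug_eq_zero_of_mem (hK : HasSplitting K P) {n : ℕ} (hn : n ≠ 0) {x : K}
    (hx : x ∈ gammaFiltration P n) : P.aug x = 0 := by
  rw [gammaFiltration_of_ne_zero P hn] at hx
  induction hx using AddSubgroup.closure_induction with
  | mem y hy =>
    obtain ⟨l, hl, hsum, rfl⟩ := hy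
    have : ∃ p ∈ l, p.1 ≠ 0 := by
      by_contra! h
      have : (l.map Prod.fst).sum = 0 := List.sum_eq_zero (by simpa using fun a b hab => h (a, b) hab)
      omega
    obtain ⟨p, hp, hp0⟩ := this
    rw [map_list_prod, List.prod_eq_zero]
    exact List.mem_map.mpr ⟨_, List.mem_map.mpr ⟨p, hp, rfl⟩, aug_gamma hK (hl p hp) hp0⟩
  | zero => simp
  | add y z _ _ hy hz => simp [hy, hz]
  | neg y _ hy => simp [hy]

theorem mem_gammaFiltration_one_iff (hK : HasSplitting K P) {x : K} :
    x ∈ gammaFiltration P 1 ↔ P.aug x = 0 :=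
  ⟨aug_eq_zero_of_mem hK one_ne_zero, mem_one_of_aug_eq_zero⟩

theorem map_mem_gammaFiltration {K' : Type u} [CommRing K'] [LambdaOps K'] {P' : PosStructure K'}
    {f : K →+* K'} (hf : IsLambdaHom f) (haug : ∀ x, P'.aug (f x) = P.aug x) {n : ℕ} {x : K}
    (hx : x ∈ gammaFiltration P n) : f x ∈ gammaFiltration P' n := by
  rcases eq_or_ne n 0 with rfl | hn
  · simp [gammaFiltration_zero]
  rw [gammaFiltration_of_ne_zero P hn] at hx
  induction hx using AddSubgroup.closure_induction with
  | mem y hy =>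
    obtain ⟨l, hl, hsum, rfl⟩ := hy
    refine mem_of_mem_gens ⟨l.map fun p => (p.1, f p.2), ?_, ?_, ?_⟩
    · intro p hp
      obtain ⟨q, hq, rfl⟩ := List.mem_map.mp hp
      rw [haug]; exact hl q hq
    · simpa [List.map_map, Function.comp_def] using hsum
    · simp [map_list_prod, List.map_map, Function.comp_def, map_gamma hf]
  | zero => simp
  | add y z _ _ hy hz => rw [map_add]; exact add_mem hy hz
  | neg y _ hy => rw [map_neg]; exact neg_mem hy

end Groth.Agent.Lambda
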