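import Mathlib.RingTheory.MvPolynomial.Symmetric.FundamentalTheorem
import Mathlib.RingTheory.MvPolynomial.WeightedHomogeneous
import Mathlib.Algebra.MvPolynomial.Equiv

/-!
# Symmetric polynomials in one or two families of variables, with weights
-/

universe u

open MvPolynomial Finset

namespace Groth.Agent.Lambda

section Graded

variable {R : Type*} [CommRing R] {ι ρ M : Type*} [AddCommMonoid M]

/-- An algebra map sending variables to weighted homogeneous elements commutes with components. -/
theorem component_aeval {w : ρ → M} {v : ι → M} {f : ι → MvPolynomial ρ R}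
    (hf : ∀ i, IsWeightedHomogeneous w (f i) (v i)) (m : M) (Q : MvPolynomial ι R) :
    weightedHomogeneousComponent w m (aeval f Q) =
      aeval f (weightedHomogeneousComponent v m Q) := by
  classical
  induction Q using MvPolynomial.induction_on' with
  | monomial d r =>
    have hh : IsWeightedHomogeneous w (aeval f (monomial d r)) (Finsupp.weight v d) := by
      rw [aeval_monomial, algebraMap_eq, Finsupp.weight_apply, Finsupp.sum, Finsupp.prod]
      exact (IsWeightedHomogeneous.prod _ _ _ fun i _ => (hf i).pow (d i)).C_mul r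
    have hd := isWeightedHomogeneous_monomial v d r (m := Finsupp.weight v d) rfl
    rcases eq_or_ne (Finsupp.weight v d) m with h | h
    · subst h
      rw [hd.weightedHomogeneousComponent_same, hh.weightedHomogeneousComponent_same]
    · rw [hd.weightedHomogeneousComponent_ne m (Ne.symm h), hh.weightedHomogeneousComponent_ne m (Ne.symm h), map_zero]
  | add p q hp hq => simp only [map_add, hp, hq]

/-- If `p` is in the image and homogeneous, then it has a homogeneous preimage. -/
theorem exists_homogeneous_preimage {w : ρ → M} {v : ι → M} {f : ι → MvPolynomial ρ R}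
    (hf : ∀ i, IsWeightedHomogeneous w (f i) (v i)) {m : M} {p : MvPolynomial ρ R}
    (hp : IsWeightedHomogeneous w p m) (h : ∃ Q : MvPolynomial ι R, aeval f Q = p) :
    ∃ Q : MvPolynomial ι R, aeval f Q = p ∧ IsWeightedHomogeneous v Q m := by
  obtain ⟨Q, rfl⟩ := h
  exact ⟨weightedHomogeneousComponent v m Q,
    by rw [← component_aeval hf, hp.weightedHomogeneousComponent_same],
    weightedHomogeneousComponent_isWeightedHomogeneous m Q⟩

end Graded

section Single

variable {σ : Type*} [Fintype σ] {R : Type*} [CommRing R]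

variable (σ R) in
/-- `Q ↦ Q(e_1, …, e_N)`. -/
noncomputable def esymmEval (N : ℕ) : MvPolynomial (Fin N) R →ₐ[R] MvPolynomial σ R :=
  aeval fun k : Fin N => esymm σ R ((k : ℕ) + 1)

theorem esymmEval_injective {N : ℕ} (hN : N ≤ Fintype.card σ) :
    Function.Injective (esymmEval σ R N) := fun p q h =>
  esymmAlgHom_injective R hN (Subtype.ext (by simpa [esymmAlgHom_apply, esymmEval] using h))

theorem exists_esymmEval_eq {N : ℕ} (hN : Fintype.card σ ≤ N) {p : MvPolynomial σ R}
    (hp : p.IsSymmetric) : ∃ Q, esymmEval σ R N Q = p := by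
  obtain ⟨Q, hQ⟩ := esymmAlgHom_surjective R hN ⟨p, hp⟩
  exact ⟨Q, by rw [esymmEval, ← esymmAlgHom_apply, hQ]⟩

theorem esymm_isWeightedHomogeneous {M : Type*} [AddCommMonoid M] (w : M) (j : ℕ) :
    IsWeightedHomogeneous (fun _ : σ => w) (esymm σ R j) (j • w) := by
  unfold esymm
  refine IsWeightedHomogeneous.sum _ _ _ fun s hs => ?_
  have h := IsWeightedHomogeneous.prod (w := fun _ : σ => w) s (fun i : σ => (X i : MvPolynomial σ R))
    (fun _ => w) (fun i _ => isWeightedHomogeneous_X R _ i)
  rwa [sum_const, (mem_powersetCard.mp hs).2] at h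

/-- The weight of the variable `k` standing for `e_{k+1}`. -/
def esymmWeight (N : ℕ) (k : Fin N) : ℕ := (k : ℕ) + 1

theorem component_esymmEval (N m : ℕ) (Q : MvPolynomial (Fin N) R) :
    weightedHomogeneousComponent (fun _ : σ => 1) m (esymmEval σ R N Q) =
      esymmEval σ R N (weightedHomogeneousComponent (esymmWeight N) m Q) :=
  component_aeval (fun k => by simpa [esymmWeight] using esymm_isWeightedHomogeneous (σ := σ) (R := R) (1 : ℕ) ((k : ℕ) + 1)) m Q

/-- A symmetric polynomial whose monomials all have degree `≥ r` is a polynomial in the `e_k`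
whose monomials all have weight `≥ r`. -/
theorem exists_esymmEval_eq_of_le_degree {N : ℕ} (hN : Fintype.card σ ≤ N) {p : MvPolynomial σ R}
    (hp : p.IsSymmetric) (r : ℕ)
    (hr : ∀ m < r, weightedHomogeneousComponent (fun _ : σ => 1) m p = 0) :
    ∃ Q, esymmEval σ R N Q = p ∧
      ∀ d ∈ Q.support, r ≤ Finsupp.weight (esymmWeight N) d := by
  classical
  obtain ⟨Q, rfl⟩ := exists_esymmEval_eq hN hp
  refine ⟨Q - ∑ m ∈ range r, weightedHomogeneousComponent (esymmWeight N) m Q, ?_, fun d hd => ?_⟩
  · rw [map_sub, map_sum, sum_eq_zero fun m hm => ?_, sub_zero]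
    rw [← component_esymmEval, hr m (mem_range.mp hm)]
  · by_contra! h
    rw [mem_support_iff, coeff_sub, coeff_sum, Finset.sum_eq_single_of_mem (Finsupp.weight (esymmWeight N) d)
      (mem_range.mpr h) (fun m _ hm => by rw [coeff_weightedHomogeneousComponent, if_neg (Ne.symm hm)]),
      coeff_weightedHomogeneousComponent, if_pos rfl, sub_self] at hd
    exact hd rfl

end Single

section Double

variable {σ τ : Type*} [Fintype σ] [Fintype τ] {R : Type*} [CommRing R]

variable (σ τ R) in
/-- `Q ↦ Q(e(X), e(Y))`. -/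
noncomputable def esymmEval₂ (N M : ℕ) :
    MvPolynomial (Fin N ⊕ Fin M) R →ₐ[R] MvPolynomial (σ ⊕ τ) R :=
  aeval (Sum.elim (fun k : Fin N => rename Sum.inl (esymm σ R ((k : ℕ) + 1)))
    (fun k : Fin M => rename Sum.inr (esymm τ R ((k : ℕ) + 1))))

theorem sumAlgEquiv_esymmEval₂ {N M : ℕ} (Q : MvPolynomial (Fin N ⊕ Fin M) R) :
    sumAlgEquiv R σ τ (esymmEval₂ σ τ R N M Q) =
      esymmEval σ (MvPolynomial τ R) N
        (MvPolynomial.map (esymmEval τ R M).toRingHom (sumAlgEquiv R (Fin N) (Fin M) Q)) := by
  induction Q using MvPolynomial.induction_on with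
  | C r => simp [esymmEval₂, esymmEval]
  | add p q hp hq => simp only [map_add, hp, hq]
  | mul_X p i hp =>
    simp only [map_mul, hp]
    congr 1
    rcases i with i | i
    · rw [sumAlgEquiv_X_inl, map_X, esymmEval₂, aeval_X, Sum.elim_inl, esymmEval, aeval_X,
        esymm, esymm, map_sum, map_sum]
      refine sum_congr rfl fun s _ => ?_
      simp [map_prod]
    · rw [sumAlgEquiv_X_inr, map_C, esymmEval₂, aeval_X, Sum.elim_inr, esymmEval, aeval_C,
        algebraMap_eq, AlgHom.toRingHom_eq_coe, RingHom.coe_coe, esymmEval, aeval_X, esymm,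
        map_sum, map_sum, map_sum]
      refine sum_congr rfl fun s _ => ?_
      simp [map_prod]

theorem esymmEval₂_injective {N M : ℕ} (hN : N ≤ Fintype.card σ) (hM : M ≤ Fintype.card τ) :
    Function.Injective (esymmEval₂ σ τ R N M) := by
  intro p q h
  have := congrArg (sumAlgEquiv R σ τ) h
  rw [sumAlgEquiv_esymmEval₂, sumAlgEquiv_esymmEval₂] at this
  exact (sumAlgEquiv R (Fin N) (Fin M)).injective
    (MvPolynomial.map_injective _ (esymmEval_injective hM) (esymmEval_injective hN this))

theorem exists_esymmEval₂_eq {p : MvPolynomial (σ ⊕ τ) R}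
    (hσ : ∀ g : Equiv.Perm σ, rename (Sum.map g id) p = p)
    (hτ : ∀ h : Equiv.Perm τ, rename (Sum.map id h) p = p) :
    ∃ Q, esymmEval₂ σ τ R (Fintype.card σ) (Fintype.card τ) Q = p := by
  have e1 : ∀ (g : Equiv.Perm σ) (q : MvPolynomial (σ ⊕ τ) R),
      sumAlgEquiv R σ τ (rename (Sum.map g id) q) = rename g (sumAlgEquiv R σ τ q) := by
    intro g q
    induction q using MvPolynomial.induction_on with
    | C r => simp
    | add a b ha hb => simp only [map_add, ha, hb]
    | mul_X a i ha => rcases i with i | i <;> simp [ha]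
  have e2 : ∀ (h : Equiv.Perm τ) (q : MvPolynomial (σ ⊕ τ) R),
      sumAlgEquiv R σ τ (rename (Sum.map id h) q) =
        MvPolynomial.map (rename h).toRingHom (sumAlgEquiv R σ τ q) := by
    intro h q
    induction q using MvPolynomial.induction_on with
    | C r => simp
    | add a b ha hb => simp only [map_add, ha, hb]
    | mul_X a i ha => rcases i with i | i <;> simp [ha]
  obtain ⟨Q', hQ'⟩ := exists_esymmEval_eq (R := MvPolynomial τ R) (le_refl (Fintype.card σ))
    (p := sumAlgEquiv R σ τ p) (fun g => by rw [← e1, hσ g])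
  have hcoef : ∀ d, (coeff d Q').IsSymmetric := by
    intro d h
    have hmap : ∀ q : MvPolynomial (Fin (Fintype.card σ)) (MvPolynomial τ R),
        MvPolynomial.map (rename h).toRingHom (esymmEval σ _ _ q) =
          esymmEval σ _ _ (MvPolynomial.map (rename h).toRingHom q) := by
      intro q
      induction q using MvPolynomial.induction_on with
      | C r => simp [esymmEval]
      | add a b ha hb => simp only [map_add, ha, hb]
      | mul_X a i ha =>
        simp only [map_mul, ha, map_X]
        simp [esymmEval, map_esymm]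
    have hinv : MvPolynomial.map (rename h).toRingHom Q' = Q' :=
      esymmEval_injective le_rfl (by rw [← hmap, hQ', ← e2, hτ h])
    conv_rhs => rw [← hinv]
    rw [coeff_map]; rfl
  have hrange : Q' ∈ Set.range (MvPolynomial.map (esymmEval τ R (Fintype.card τ)).toRingHom) := by
    refine (mem_range_map_iff_coeffs_subset).mpr fun c hc => ?_
    obtain ⟨d, -, rfl⟩ := mem_coeffs_iff.mp hc
    exact exists_esymmEval_eq le_rfl (hcoef d)
  obtain ⟨Q'', hQ''⟩ := hrange
  refine ⟨(sumAlgEquiv R _ _).symm Q'', (sumAlgEquiv R σ τ).injective ?_⟩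
  rw [sumAlgEquiv_esymmEval₂, AlgEquiv.apply_symm_apply, hQ'', hQ']

end Double

end Groth.Agent.Lambda
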