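import Groth.Agent.Lambda.Filtration
import Groth.Agent.Lambda.Symm
import Mathlib.RingTheory.MvPolynomial.Ideal

/-!
# Evaluation of symmetric polynomials at `u - 1` for lines `u`
-/

universe u

open MvPolynomial Finset LambdaRing

namespace Groth.Agent.Lambda

theorem exists_enum {L : Type*} (s : Multiset L) :
    ∃ (n : ℕ) (u : Fin n → L), Multiset.card s = n ∧ (Finset.univ : Finset (Fin n)).val.map u = s := by
  induction s using Quot.inductionOn with
  | h l =>
    refine ⟨l.length, l.get, rfl, ?_⟩
    rw [Fin.univ_val_map, List.ofFn_get]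
    rfl

section

variable {σ : Type*} [Fintype σ] {R : Type*} [CommRing R]

theorem component_eq_zero_of_mem_pow {p : MvPolynomial σ R} {r : ℕ}
    (hp : p ∈ idealOfVars σ R ^ r) (m : ℕ) (hm : m < r) :
    weightedHomogeneousComponent (fun _ : σ => 1) m p = 0 := by
  classical
  ext d
  rw [coeff_weightedHomogeneousComponent, coeff_zero]
  split_ifs with h
  · refine (mem_pow_idealOfVars_iff' r p).mp hp d ?_
    rw [Finsupp.degree_eq_weight_one]
    exact lt_of_eq_of_lt h hm
  · rfl

theorem prod_mem_pow {ι A : Type*} [CommRing A] {I : Ideal A} (s : Finset ι) {f : ι → A}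
    (hf : ∀ i ∈ s, f i ∈ I) : ∏ i ∈ s, f i ∈ I ^ s.card := by
  simpa using Ideal.prod_mem_prod (I := fun _ => I) hf

theorem prod_sub_prod_mem_pow {ι A : Type*} [CommRing A] {I : Ideal A} (s : Finset ι) {f g : ι → A}
    (hf : ∀ i ∈ s, f i ∈ I) (hg : ∀ i ∈ s, g i ∈ I) (hfg : ∀ i ∈ s, f i - g i ∈ I ^ 2) :
    ∏ i ∈ s, f i - ∏ i ∈ s, g i ∈ I ^ (s.card + 1) := by
  classical
  induction s using Finset.induction_on with
  | empty => simp
  | insert a s ha ih =>
    rw [prod_insert ha, prod_insert ha, card_insert_of_notMem ha,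
      show f a * ∏ i ∈ s, f i - g a * ∏ i ∈ s, g i =
        (f a - g a) * ∏ i ∈ s, f i + g a * (∏ i ∈ s, f i - ∏ i ∈ s, g i) by ring]
    refine add_mem ?_ ?_
    · rw [show s.card + 1 + 1 = 2 + s.card by ring, pow_add]
      exact Ideal.mul_mem_mul (hfg a (mem_insert_self a s)) (prod_mem_pow s fun i hi => hf i (mem_insert_of_mem hi))
    · rw [pow_succ']
      exact Ideal.mul_mem_mul (hg a (mem_insert_self a s))
        (ih (fun i hi => hf i (mem_insert_of_mem hi)) (fun i hi => hg i (mem_insert_of_mem hi))
          (fun i hi => hfg i (mem_insert_of_mem hi)))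

theorem aeval_esymm_of_fun {B : Type*} [CommRing B] [Algebra R B] (w : σ → B) (k : ℕ) :
    aeval w (esymm σ R k) = ((Finset.univ : Finset σ).val.map w).esymm k := by
  rw [Finset.esymm_map_val, esymm, map_sum]
  simp [map_prod]

end

variable {K : Type u} [CommRing K] [LambdaOps K] {P : PosStructure K}

/-- A weight `≥ r` polynomial in the `γ^k(a)` lies in `F^r`. -/
theorem aeval_gamma_mem {n r : ℕ} {a : K} (ha : P.aug a = 0) (Q : MvPolynomial (Fin n) ℤ)
    (hQ : ∀ d ∈ Q.support, r ≤ Finsupp.weight (esymmWeight n) d) :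
    aeval (fun k : Fin n => LambdaRing.gamma ((k : ℕ) + 1) a) Q ∈ gammaFiltration P r := by
  rw [Q.as_sum, map_sum]
  refine sum_mem fun d hd => ?_
  rw [aeval_monomial]
  refine gammaFiltration_anti (hQ d hd) (mul_mem_left _ ?_)
  rw [Finsupp.weight_apply, Finsupp.sum, Finsupp.prod]
  refine prod_mem _ _ _ fun k _ => ?_
  simpa [esymmWeight] using pow_mem (gamma_mem ha ((k : ℕ) + 1)) (d k)

/-- If, in an extension, `z` is a symmetric polynomial of order `≥ r` in `u_a - 1`, where
`e = Σ u_a` is the decomposition into lines, then `z ∈ F^r` and `z` is the evaluation of `Q`. -/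
theorem mem_of_eq_symmetric {L : PosLambdaRing.{u}} {f : K →+* L.carrier}
    (hf : IsExtension P L.posStr f) {e : K} {n : ℕ} {v : Fin n → L.carrier}
    (hv : ∀ i, L.posStr.IsLine (v i)) (he : ∑ i, v i = f e)
    {p : MvPolynomial (Fin n) ℤ} (hp : p.IsSymmetric) {r : ℕ}
    (hpr : p ∈ idealOfVars (Fin n) ℤ ^ r) {z : K}
    (hz : f z = aeval (fun i => v i - 1) p) : z ∈ gammaFiltration P r := by
  obtain ⟨Q, hQ, hQw⟩ := exists_esymmEval_eq_of_le_degree (Fintype.card_fin n).le hp r
    (component_eq_zero_of_mem_pow hpr)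
  have haug : P.aug (e - (n : K)) = 0 := by
    rw [← hf.aug_comp, map_sub, map_natCast, ← he, map_sub, map_natCast, map_sum]
    simp [(hv _).2]
  suffices z = aeval (fun k : Fin n => LambdaRing.gamma ((k : ℕ) + 1) (e - (n : K))) Q from
    this ▸ aeval_gamma_mem haug Q hQw
  apply hf.injective
  rw [hz, ← hQ, esymmEval, ← AlgHom.comp_apply, comp_aeval,
    show f (aeval (fun k : Fin n => LambdaRing.gamma ((k : ℕ) + 1) (e - (n : K))) Q) =
      f.toIntAlgHom (aeval (fun k : Fin n => LambdaRing.gamma ((k : ℕ) + 1) (e - (n : K))) Q) from rfl,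
    ← AlgHom.comp_apply, comp_aeval]
  congr 2
  funext k
  show aeval _ _ = f _
  rw [aeval_esymm_of_fun, map_gamma hf.isLambdaHom, map_sub, map_natCast, ← he]
  have h := gamma_lines_sum_sub_card (P := L.posStr) (s := (Finset.univ : Finset (Fin n)).val.map v)
    (by
      intro x hx
      obtain ⟨i, -, rfl⟩ := Multiset.mem_map.mp hx
      exact hv i) ((k : ℕ) + 1)
  rw [Multiset.map_map, Multiset.card_map, Finset.card_val, Finset.card_univ, Fintype.card_fin] at h
  exact h.symm

/-! ## `ψ^j` on the filtration -/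

theorem adams_gamma_pos (hK : HasSplitting K P) (j : ℕ) {e : K} (he : e ∈ P.pos) (i : ℕ) :
    adams P j (LambdaRing.gamma i (e - ((P.aug e).toNat : K))) -
        (j : K) ^ i * LambdaRing.gamma i (e - ((P.aug e).toNat : K)) ∈ gammaFiltration P (i + 1) := by
  obtain ⟨L, f, hf, hL, s, hs, hse, hcard⟩ := exists_split hK he
  obtain ⟨n, v, hn, hv⟩ := exists_enum s
  rw [← hcard, hn]
  have hvl : ∀ a, L.posStr.IsLine (v a) := fun a =>
    hs _ (by rw [← hv]; exact Multiset.mem_map_of_mem v (Finset.mem_univ_val a))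
  have hsum : ∑ a, v a = f e := by rw [← hse, Finset.sum_eq_multiset_sum, hv]
  set p : MvPolynomial (Fin n) ℤ :=
    (∑ S ∈ (Finset.univ : Finset (Fin n)).powersetCard i, ∏ a ∈ S, ((1 + X a) ^ j - 1)) -
      (j : MvPolynomial (Fin n) ℤ) ^ i * esymm (Fin n) ℤ i with hp
  refine mem_of_eq_symmetric hf hvl hsum (p := p) ?_ ?_ ?_
  · intro g
    rw [hp, map_sub, map_mul, map_pow, map_natCast, esymm_isSymmetric (Fin n) ℤ i g, map_sum]
    congr 1
    refine Finset.sum_equiv (g.finsetCongr) (fun S => by simp) fun S _ => ?_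
    simp [map_prod, Finset.prod_map]
  · rw [hp, esymm, mul_sum, ← sum_sub_distrib]
    refine sum_mem fun S hS => ?_
    have hX : ∀ a : Fin n, (X a : MvPolynomial (Fin n) ℤ) ∈ idealOfVars (Fin n) ℤ :=
      fun a => Ideal.subset_span ⟨a, rfl⟩
    rw [show (j : MvPolynomial (Fin n) ℤ) ^ i * ∏ a ∈ S, X a = ∏ a ∈ S, (j : MvPolynomial (Fin n) ℤ) * X a by
        rw [prod_mul_distrib, prod_const, (mem_powersetCard.mp hS).2],
      ← (mem_powersetCard.mp hS).2]
    have hsq : ∀ a : Fin n, (1 + X a : MvPolynomial (Fin n) ℤ) ^ j - 1 - (j : MvPolynomial (Fin n) ℤ) * X a ∈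
        idealOfVars (Fin n) ℤ ^ 2 := by
      intro a
      clear hp p
      induction j with
      | zero => simp
      | succ j ihj =>
        rw [show (1 + X a : MvPolynomial (Fin n) ℤ) ^ (j + 1) - 1 - ((j + 1 : ℕ) : MvPolynomial (Fin n) ℤ) * X a =
          ((1 + X a) ^ j - 1 - (j : MvPolynomial (Fin n) ℤ) * X a) * (1 + X a) +
            (j : MvPolynomial (Fin n) ℤ) * (X a * X a) by push_cast; ring]
        exact add_mem (Ideal.mul_mem_right _ _ ihj)
          (Ideal.mul_mem_left _ _ (by rw [sq]; exact Ideal.mul_mem_mul (hX a) (hX a)))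
    refine prod_sub_prod_mem_pow S (fun a _ => ?_) (fun a _ => Ideal.mul_mem_left _ _ (hX a))
      fun a _ => hsq a
    have := add_mem (Ideal.pow_le_self two_ne_zero (hsq a)) (Ideal.mul_mem_left _ (j : MvPolynomial (Fin n) ℤ) (hX a))
    simpa using this
  · have hl := gamma_lines_sum_sub_card (P := L.posStr) hs i
    rw [hse, hn] at hl
    have key : LambdaRing.gamma i (f e - (n : L.carrier)) =
        ∑ S ∈ (Finset.univ : Finset (Fin n)).powersetCard i, ∏ a ∈ S, (v a - 1) := by
      rw [hl, ← hv, Multiset.map_map, Finset.esymm_map_val]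
      simp only [Function.comp_apply]
    rw [hp, map_sub, map_mul, map_pow, map_natCast, map_adams hf.isLambdaHom hf.aug_comp,
      map_gamma hf.isLambdaHom, map_sub, map_natCast, key, map_sub, map_mul, map_pow, map_natCast,
      aeval_esymm_of_fun, Finset.esymm_map_val, map_sum]
    congr 1
    rw [← adamsHom_apply, map_sum]
    refine sum_congr rfl fun S _ => ?_
    rw [adamsHom_apply, map_prod]
    have hr := map_prod (adamsRingHom hL j) (fun a => v a - 1) S
    exact hr.trans (prod_congr rfl fun a _ => by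
      show adams L.posStr j (v a - 1) = _
      rw [map_sub, map_one, map_pow, map_add, map_one, aeval_X, ← adamsHom_apply, map_sub,
        adamsHom_apply, adamsHom_apply, adams_line (hvl a), adams_one, add_sub_cancel])

theorem adams_gamma (hK : HasSplitting K P) (j : ℕ) {x : K} (hx : P.aug x = 0) (r : ℕ) :
    adams P j (LambdaRing.gamma r x) - (j : K) ^ r * LambdaRing.gamma r x ∈ gammaFiltration P (r + 1) := by
  induction r using Nat.strong_induction_on with
  | _ r ih =>
    rcases eq_or_ne r 0 with rfl | hr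
    · simp [gamma_zero, adams_one]
    obtain ⟨e, g, he, hg, rfl⟩ := P.exists_sub x
    set m := (P.aug e).toNat with hm
    have hm' : m = (P.aug g).toNat := by rw [hm, sub_eq_zero.mp ((map_sub P.aug e g).symm.trans hx)]
    have heq := gamma_add r (e - g) (g - (m : K))
    rw [sum_range_succ, Nat.sub_self, gamma_zero, mul_one, sub_add_sub_cancel] at heq
    rw [eq_sub_of_add_eq' heq.symm, ← adamsHom_apply, map_sub, map_sum, adamsHom_apply, mul_sub,
      mul_sum, sub_sub_sub_comm, ← sum_sub_distrib]
    refine sub_mem (adams_gamma_pos hK j he r) (sum_mem fun i hi => ?_)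
    rw [mem_range] at hi
    rw [adamsHom_apply, adams_mul hK,
      show (j : K) ^ r = (j : K) ^ i * (j : K) ^ (r - i) by rw [← pow_add]; congr 1; omega]
    set a := LambdaRing.gamma i (e - g)
    set b := LambdaRing.gamma (r - i) (g - (m : K))
    have hb0 : P.aug (g - (m : K)) = 0 := by
      rw [map_sub, map_natCast, hm', aug_toNat hg, sub_self]
    have hb : adams P j b - (j : K) ^ (r - i) * b ∈ gammaFiltration P (r - i + 1) :=
      (by simpa [b, hm'] using adams_gamma_pos hK j hg (r - i))
    have ha : adams P j a - (j : K) ^ i * a ∈ gammaFiltration P (i + 1) := ih i hi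
    have hbF : adams P j b ∈ gammaFiltration P (r - i) := by
      have := add_mem (gammaFiltration_anti (Nat.le_succ (r - i)) hb)
        (mul_mem_left ((j : K) ^ (r - i)) (gamma_mem hb0 (r - i)))
      rwa [sub_add_cancel] at this
    rw [show adams P j a * adams P j b - (j : K) ^ i * (j : K) ^ (r - i) * (a * b) =
      (adams P j a - (j : K) ^ i * a) * adams P j b +
        ((j : K) ^ i * a) * (adams P j b - (j : K) ^ (r - i) * b) by ring]
    refine add_mem ?_ ?_
    · exact gammaFiltration_anti (by omega) (mul_mem_add ha hbF)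
    · exact gammaFiltration_anti (by omega)
        (mul_mem_add (mul_mem_left ((j : K) ^ i) (gamma_mem hx i)) hb)

theorem adams_sub_pow_mul_mem (hK : HasSplitting K P) (j : ℕ) (n : ℕ) {x : K}
    (hx : x ∈ gammaFiltration P n) :
    adams P j x - (j : K) ^ n * x ∈ gammaFiltration P (n + 1) := by
  rcases eq_or_ne n 0 with rfl | hn
  · refine mem_one_of_aug_eq_zero ?_
    simp [aug_adams hK]
  rw [gammaFiltration_of_ne_zero P hn] at hx
  induction hx using AddSubgroup.closure_induction with
  | mem y hy =>
    obtain ⟨l, hl, hsum, rfl⟩ := hy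
    have key : ∀ l : List (ℕ × K), (∀ p ∈ l, P.aug p.2 = 0) →
        (l.map fun p => LambdaRing.gamma p.1 p.2).prod ∈ gammaFiltration P (l.map Prod.fst).sum ∧
        adams P j (l.map fun p => LambdaRing.gamma p.1 p.2).prod -
          (j : K) ^ (l.map Prod.fst).sum * (l.map fun p => LambdaRing.gamma p.1 p.2).prod ∈
          gammaFiltration P ((l.map Prod.fst).sum + 1) := by
      intro l hl
      induction l with
      | nil => simp [gammaFiltration_zero, adams_one]
      | cons p l ihl =>
        obtain ⟨h1, h2⟩ := ihl fun q hq => hl q (List.mem_cons_of_mem p hq)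
        have hp := hl p List.mem_cons_self
        simp only [List.map_cons, List.prod_cons, List.sum_cons]
        set A := LambdaRing.gamma p.1 p.2
        set B := (l.map fun p => LambdaRing.gamma p.1 p.2).prod
        set t := (l.map Prod.fst).sum
        refine ⟨mul_mem_add (gamma_mem hp p.1) h1, ?_⟩
        rw [adams_mul hK, pow_add,
          show adams P j A * adams P j B - (j : K) ^ p.1 * (j : K) ^ t * (A * B) =
            (adams P j A - (j : K) ^ p.1 * A) * (j : K) ^ t * B +
              (adams P j A) * (adams P j B - (j : K) ^ t * B) by ring]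
        refine add_mem ?_ ?_
        · refine gammaFiltration_anti (by omega) (mul_mem_add (m := p.1 + 1) ?_ h1)
          rw [mul_comm]
          exact mul_mem_left _ (adams_gamma hK j hp p.1)
        · have hAF : adams P j A ∈ gammaFiltration P p.1 := by
            have := add_mem (gammaFiltration_anti (Nat.le_succ p.1) (adams_gamma hK j hp p.1))
              (mul_mem_left ((j : K) ^ p.1) (gamma_mem hp p.1))
            rwa [sub_add_cancel] at this
          exact gammaFiltration_anti (by omega) (mul_mem_add hAF h2)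
    obtain ⟨h1, h2⟩ := key l hl
    rcases eq_or_lt_of_le hsum with h | h
    · exact h ▸ h2
    · set y := (l.map fun p => LambdaRing.gamma p.1 p.2).prod
      have hy : y ∈ gammaFiltration P (n + 1) := gammaFiltration_anti h h1
      refine sub_mem ?_ (mul_mem_left _ hy)
      have := add_mem (gammaFiltration_anti (by omega) h2)
        (mul_mem_left ((j : K) ^ (l.map Prod.fst).sum) hy)
      rwa [sub_add_cancel] at this
  | zero => simp [show adams P j (0 : K) = 0 from map_zero (adamsHom P j)]
  | add y z _ _ hy hz =>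
    rw [adams_add, mul_add, add_sub_add_comm]
    exact add_mem hy hz
  | neg y _ hy =>
    rw [show adams P j (-y) = -adams P j y from map_neg (adamsHom P j) y, mul_neg, neg_sub_neg, ← neg_sub]
    exact neg_mem hy

end Groth.Agent.Lambda
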