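import Groth.Prelude.Def_W4bkmilneecrracsp2Inv
import Groth.Agent.Lambda.SymmEval
import Mathlib.Algebra.BigOperators.Group.Finset.Powerset

/-!
# Involutions
-/

universe u

open Finset LambdaRing

namespace Groth.Agent.Lambda

section Esymm

variable {L : Type*} [CommRing L] {n : ℕ}

theorem esymm_compl (v v' : Fin n → L) (h : ∀ a, v' a * v a = 1) {i : ℕ} (hi : i ≤ n) :
    (∑ S ∈ (Finset.univ : Finset (Fin n)).powersetCard i, ∏ a ∈ S, v a) =
      (∑ S ∈ (Finset.univ : Finset (Fin n)).powersetCard (n - i), ∏ a ∈ S, v' a) * ∏ a, v a := by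
  rw [sum_mul]
  refine Finset.sum_bij' (fun S _ => Sᶜ) (fun S _ => Sᶜ) ?_ ?_ (fun S _ => compl_compl S)
    (fun S _ => compl_compl S) ?_
  · intro S hS
    rw [mem_powersetCard] at hS ⊢
    exact ⟨subset_univ _, by rw [card_compl, Fintype.card_fin, hS.2]⟩
  · intro S hS
    rw [mem_powersetCard] at hS ⊢
    exact ⟨subset_univ _, by rw [card_compl, Fintype.card_fin, hS.2]; omega⟩
  · intro S _
    rw [← Finset.prod_mul_prod_compl S v]
    rw [← mul_assoc, mul_comm _ (∏ a ∈ S, v a), mul_assoc, ← prod_mul_distrib, prod_eq_one (fun a _ => h a),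
      mul_one]

theorem alt_sum_esymm (v : Fin n → L) :
    (∑ i ∈ range (n + 1), (-1 : L) ^ i * ∑ S ∈ (Finset.univ : Finset (Fin n)).powersetCard i, ∏ a ∈ S, v a) =
      ∏ a, (1 - v a) := by
  rw [show (∏ a, (1 - v a)) = ∏ a, (-v a + 1) from prod_congr rfl fun a _ => by ring, Finset.prod_add,
    Finset.sum_powerset, Finset.card_univ, Fintype.card_fin]
  refine sum_congr rfl fun i _ => ?_
  rw [mul_sum]
  refine sum_congr rfl fun S hS => ?_
  rw [prod_const_one, mul_one, prod_neg, (mem_powersetCard.mp hS).2]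

theorem sum_powersetCard_top (v : Fin n → L) :
    (∑ S ∈ (Finset.univ : Finset (Fin n)).powersetCard n, ∏ a ∈ S, v a) = ∏ a, v a := by
  have h := Finset.powersetCard_self (Finset.univ : Finset (Fin n))
  rw [Finset.card_univ, Fintype.card_fin] at h
  rw [h, sum_singleton]

end Esymm

variable {K : Type u} [CommRing K] [LambdaOps K] {P : PosStructure K} {inv : K → K}

/-- The data of an involutive splitting of `e`. -/
theorem exists_inv_split (hS : HasInvSplitting P inv) {e : K} (he : e ∈ P.pos) :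
    ∃ (L : PosLambdaRing.{u}) (f : K →+* L.carrier) (v v' : Fin (P.aug e).toNat → L.carrier),
      IsExtension P L.posStr f ∧ (∀ a, L.posStr.IsLine (v a)) ∧ (∀ a, L.posStr.IsLine (v' a)) ∧
        (∀ a, v' a * v a = 1) ∧
        (∀ k, f (LambdaOps.lam k e) =
          ∑ S ∈ (Finset.univ : Finset (Fin (P.aug e).toNat)).powersetCard k, ∏ a ∈ S, v a) ∧
        (∀ k, f (LambdaOps.lam k (inv e)) =
          ∑ S ∈ (Finset.univ : Finset (Fin (P.aug e).toNat)).powersetCard k, ∏ a ∈ S, v' a) ∧
        f e = ∑ a, v a ∧ f (inv e) = ∑ a, v' a := by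
  obtain ⟨L, inv', f, hf, hI, hcomp, s, hs, hse⟩ := hS e he
  obtain ⟨n, v, hn, hv⟩ := exists_enum s
  have hn' : (P.aug e).toNat = n := by
    rw [← hf.aug_comp, ← hse, aug_lines_sum hs, Int.toNat_natCast, hn]
  rw [hn']
  have hvl : ∀ a, L.posStr.IsLine (v a) := fun a =>
    hs _ (by rw [← hv]; exact Multiset.mem_map_of_mem v (Finset.mem_univ_val a))
  have hsum : ∑ a, v a = f e := by rw [← hse, Finset.sum_eq_multiset_sum, hv]
  have hsum' : ∑ a, inv' (v a) = f (inv e) := by
    rw [hcomp, ← hsum]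
    exact (map_sum (AddMonoidHom.mk' inv' hI.map_add) v Finset.univ).symm
  refine ⟨L, f, v, fun a => inv' (v a), hf, hvl, fun a => hI.inv_line _ (hvl a),
    fun a => hI.inv_mul_self _ (hvl a), fun k => ?_, fun k => ?_, hsum.symm, hsum'.symm⟩
  · rw [hf.isLambdaHom, ← hsum]
    exact lam_finset_sum_eq_esymm _ (fun a _ => lam_line (hvl a)) k
  · rw [hf.isLambdaHom, ← hsum']
    exact lam_finset_sum_eq_esymm _ (fun a _ => lam_line (hI.inv_line _ (hvl a))) k

theorem lam_eq_lam_inv_mul (hS : HasInvSplitting P inv) {e : K} (he : e ∈ P.pos) {i : ℕ}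
    (hi : i ≤ (P.aug e).toNat) :
    LambdaOps.lam i e =
      LambdaOps.lam ((P.aug e).toNat - i) (inv e) * LambdaOps.lam (P.aug e).toNat e := by
  obtain ⟨L, f, v, v', hf, -, -, hone, hl, hl', -, -⟩ := exists_inv_split hS he
  apply hf.injective
  rw [map_mul, hl, hl', hl, esymm_compl v v' hone hi]
  rw [sum_powersetCard_top]

theorem gamma_eq_prod {L : PosLambdaRing.{u}} {n : ℕ} {v : Fin n → L.carrier}
    (hv : ∀ a, L.posStr.IsLine (v a)) :
    LambdaRing.gamma n (∑ a, v a - (n : L.carrier)) = ∏ a, (v a - 1) := by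
  have h := gamma_lines_sum_sub_card (P := L.posStr) (s := (Finset.univ : Finset (Fin n)).val.map v)
    (by
      intro x hx
      obtain ⟨a, -, rfl⟩ := Multiset.mem_map.mp hx
      exact hv a) n
  rw [Multiset.map_map, Multiset.card_map, Finset.card_val, Finset.card_univ, Fintype.card_fin,
    Finset.esymm_map_val] at h
  refine h.trans ?_
  exact sum_powersetCard_top _

theorem gamma_aug_sub_eq (hS : HasInvSplitting P inv) {e : K} (he : e ∈ P.pos) :
    LambdaRing.gamma (P.aug e).toNat (e - ((P.aug e).toNat : K)) =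
      (∑ i ∈ range ((P.aug e).toNat + 1), (-1 : K) ^ i * LambdaOps.lam i (inv e)) *
        LambdaOps.lam (P.aug e).toNat e := by
  obtain ⟨L, f, v, v', hf, hvl, -, hone, hl, hl', hfe, -⟩ := exists_inv_split hS he
  apply hf.injective
  rw [map_gamma hf.isLambdaHom, map_sub, map_natCast, hfe, gamma_eq_prod hvl, map_mul, map_sum, hl]
  simp only [map_mul, map_pow, map_neg, map_one, hl']
  rw [sum_powersetCard_top, alt_sum_esymm, ← prod_mul_distrib]
  refine prod_congr rfl fun a _ => ?_
  linear_combination (hone a)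

theorem gamma_inv_sub_lamAlt_mem (hK : HasSplitting K P) (hV : IsInvolution P inv)
    (hS : HasInvSplitting P inv) {q : K} (hq : q ∈ P.pos) :
    LambdaRing.gamma (P.aug q).toNat (inv q - ((P.aug q).toNat : K)) -
        (∑ i ∈ range ((P.aug q).toNat + 1), (-1 : K) ^ i * LambdaOps.lam i q) ∈
      gammaFiltration P ((P.aug q).toNat + 1) := by
  obtain ⟨L, f, v, v', hf, hvl, hvl', hone, hl, hl', hfe, hfi⟩ := exists_inv_split hS hq
  have hq' := aug_toNat hq
  generalize (P.aug q).toNat = n at v v' hvl hvl' hone hl hl' hfe hfi hq' ⊢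
  have hγ : (∑ i ∈ range (n + 1), (-1 : K) ^ i * LambdaOps.lam i q) =
      (-1 : K) ^ n * LambdaRing.gamma n (q - (n : K)) := by
    apply hf.injective
    rw [map_mul, map_pow, map_neg, map_one, map_gamma hf.isLambdaHom, map_sub, map_natCast, hfe,
      gamma_eq_prod hvl, map_sum]
    simp only [map_mul, map_pow, map_neg, map_one, hl]
    rw [alt_sum_esymm, show (-1 : L.carrier) ^ n = ∏ _a : Fin n, (-1 : L.carrier) by simp, ← prod_mul_distrib]
    exact prod_congr rfl fun a _ => by ring
  have hdet : f (LambdaOps.lam n (inv q)) = ∏ a, v' a := by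
    rw [hl', sum_powersetCard_top]
  have key : LambdaRing.gamma n (inv q - (n : K)) - (∑ i ∈ range (n + 1), (-1 : K) ^ i * LambdaOps.lam i q) =
      (∑ i ∈ range (n + 1), (-1 : K) ^ i * LambdaOps.lam i q) * (LambdaOps.lam n (inv q) - 1) := by
    apply hf.injective
    rw [map_sub, map_mul, map_gamma hf.isLambdaHom, map_sub, map_sub, map_natCast, map_one, hfi,
      gamma_eq_prod hvl', hdet, map_sum]
    simp only [map_mul, map_pow, map_neg, map_one, hl]
    rw [alt_sum_esymm, mul_sub, mul_one, sub_left_inj, ← prod_mul_distrib]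
    refine prod_congr rfl fun a _ => ?_
    linear_combination hone a
  rw [key, hγ]
  refine mul_mem_add (mul_mem_left _ (gamma_mem ?_ n)) (mem_one_of_aug_eq_zero ?_)
  · rw [map_sub, map_natCast, hq', sub_self]
  · rw [map_sub, map_one, ← hf.aug_comp, hdet, map_prod, prod_eq_one fun a _ => (hvl' a).2, sub_self]

end Groth.Agent.Lambda
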