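import Groth.Prelude.Def_KRR
import Groth.Agent.Lambda.Filtration
import Groth.Agent.Lambda.Inv

/-!
# Elementary extensions `K[ℓ]/(p_e)`, `σ`-operations, `λ_{-1}` and Bott classes
-/

universe v

open Finset LambdaRing

namespace Groth.Agent.Lambda

variable {K : Type v} [CommRing K] [LambdaOps K] {P : PosStructure K}

theorem sum_lam_mul_sigma (x : K) (n : ℕ) :
    ∑ i ∈ range (n + 1), (-1 : K) ^ i * LambdaOps.lam i x * KRR.sigma (n - i) x = if n = 0 then 1 else 0 := by
  have h := congrArg (PowerSeries.coeff n) (negLamSeries_mul_invOfUnit x)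
  rw [PowerSeries.coeff_mul, Finset.Nat.sum_antidiagonal_eq_sum_range_succ_mk, PowerSeries.coeff_one] at h
  simpa [negLamSeries, PowerSeries.coeff_rescale, coeff_lamSeries, KRR.sigma, KRR.sigmaSeries] using h

theorem sigma_zero (x : K) : KRR.sigma 0 x = 1 := by
  simpa [LambdaOps.lam_zero] using sum_lam_mul_sigma x 0

/-- `ε(σ^k e) = C(r + k, r)` for `ε e = r + 1`. -/
theorem aug_sigma (hK : HasSplitting K P) {e : K} (he : e ∈ P.pos) {r : ℕ} (hr : P.aug e = r + 1) (k : ℕ) :
    P.aug (KRR.sigma k e) = ((r + k).choose r : ℤ) := by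
  have h1 : PowerSeries.map P.aug (negLamSeries e) = (1 - PowerSeries.X) ^ (r + 1) := by
    have hcomm : PowerSeries.map P.aug (negLamSeries e) =
        PowerSeries.rescale (-1 : ℤ) (PowerSeries.map P.aug (lamSeries e)) := by
      ext n; simp [negLamSeries, PowerSeries.coeff_rescale]
    rw [hcomm, map_lamSeries_aug_pos hK he, map_pow, map_add, map_one, PowerSeries.rescale_neg_one_X,
      ← sub_eq_add_neg, hr, show ((r : ℤ) + 1).toNat = r + 1 by omega]
  have h2 := congrArg (PowerSeries.map P.aug) (negLamSeries_mul_invOfUnit e)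
  rw [map_mul, map_one, h1] at h2
  have h3 : PowerSeries.map P.aug ((negLamSeries e).invOfUnit 1) =
      PowerSeries.mk (fun n => ((r + n).choose r : ℤ)) :=
    left_inv_eq_right_inv ((mul_comm _ _).trans h2)
      ((mul_comm _ _).trans (PowerSeries.mk_add_choose_mul_one_sub_pow_eq_one ℤ r))
  have := congrArg (PowerSeries.coeff k) h3
  rwa [PowerSeries.coeff_map, PowerSeries.coeff_mk] at this

theorem root_relation (P : PosStructure K) (e : K) :
    ∑ i ∈ range ((P.aug e).toNat + 1), AdjoinRoot.of (KRR.extPoly P e) ((-1 : K) ^ i * LambdaOps.lam i e) *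
      AdjoinRoot.root (KRR.extPoly P e) ^ ((P.aug e).toNat - i) = 0 := by
  have h := AdjoinRoot.eval₂_root (KRR.extPoly P e)
  conv_lhs at h => arg 3; rw [KRR.extPoly]
  simpa [Polynomial.eval₂_finsetSum, Polynomial.eval₂_pow] using h

section Functional

variable {e : K} {r : ℕ} {f : AdjoinRoot (KRR.extPoly P e) →ₗ[K] K}

theorem functional_of_mul (a : K) (y : AdjoinRoot (KRR.extPoly P e)) :
    f (AdjoinRoot.of (KRR.extPoly P e) a * y) = a * f y := by
  rw [← AdjoinRoot.algebraMap_eq, ← Algebra.smul_def, map_smul, smul_eq_mul]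

theorem functional_root_pow (he : e ∈ P.pos) (hr : P.aug e = r + 1)
    (hf : ∀ i : ℕ, i ≤ r → f (AdjoinRoot.root (KRR.extPoly P e) ^ i) = KRR.sigma i e) (n : ℕ) :
    f (AdjoinRoot.root (KRR.extPoly P e) ^ n) = KRR.sigma n e := by
  induction n using Nat.strong_induction_on with
  | _ n ih =>
    rcases le_or_gt n r with hn | hn
    · exact hf n hn
    obtain ⟨s, rfl⟩ : ∃ s, n = r + 1 + s := ⟨n - (r + 1), by omega⟩
    have hm : (P.aug e).toNat = r + 1 := by omega
    have h := congrArg (fun z => f (z * AdjoinRoot.root (KRR.extPoly P e) ^ s)) (root_relation P e)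
    simp only [sum_mul, map_sum, zero_mul, map_zero, mul_assoc, ← pow_add, functional_of_mul, hm] at h
    rw [sum_range_succ', LambdaOps.lam_zero, pow_zero, one_mul, Nat.sub_zero, one_mul] at h
    have h' := sum_lam_mul_sigma e (r + 1 + s)
    rw [if_neg (by omega), ← sum_subset (s₁ := range (r + 1 + 1)) (by intro i; simp; omega) (fun i _ hi => by
      rw [mem_range] at hi
      rw [lam_eq_zero_of_toNat_lt he (by omega), mul_zero, zero_mul]), sum_range_succ', LambdaOps.lam_zero,
      pow_zero, one_mul, Nat.sub_zero, one_mul] at h'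
    have hsum : ∑ i ∈ range (r + 1), (-1 : K) ^ (i + 1) * LambdaOps.lam (i + 1) e *
          f (AdjoinRoot.root (KRR.extPoly P e) ^ (r + 1 - (i + 1) + s)) =
        ∑ i ∈ range (r + 1), (-1 : K) ^ (i + 1) * LambdaOps.lam (i + 1) e * KRR.sigma (r + 1 + s - (i + 1)) e :=
      sum_congr rfl fun i hi => by
        rw [mem_range] at hi
        rw [show r + 1 - (i + 1) + s = r + 1 + s - (i + 1) by omega, ih _ (by omega)]
    simp only [mul_assoc] at h hsum h'
    rw [hsum] at h
    exact add_left_cancel (h.trans h'.symm)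

theorem functional_linv_pow (he : e ∈ P.pos) (hr : P.aug e = r + 1)
    (hf : ∀ i : ℕ, i ≤ r → f (AdjoinRoot.root (KRR.extPoly P e) ^ i) = KRR.sigma i e)
    {linv : AdjoinRoot (KRR.extPoly P e)} (hlinv : linv * AdjoinRoot.root (KRR.extPoly P e) = 1)
    (n : ℕ) (hn1 : 1 ≤ n) (hn : n ≤ r) : f (linv ^ n) = 0 := by
  induction n using Nat.strong_induction_on with
  | _ n ih =>
    have hm : (P.aug e).toNat = r + 1 := by omega
    have hinv : ∀ a b : ℕ, linv ^ (a + b) * AdjoinRoot.root (KRR.extPoly P e) ^ b = linv ^ a := fun a b => by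
      rw [pow_add, mul_assoc, ← mul_pow, hlinv, one_pow, mul_one]
    have hinv' : ∀ a b : ℕ, linv ^ b * AdjoinRoot.root (KRR.extPoly P e) ^ (a + b) =
        AdjoinRoot.root (KRR.extPoly P e) ^ a := fun a b => by
      rw [pow_add, mul_left_comm, ← mul_pow, hlinv, one_pow, mul_one]
    have h := congrArg (fun z => f (z * linv ^ n)) (root_relation P e)
    simp only [sum_mul, map_sum, zero_mul, map_zero, mul_assoc, functional_of_mul, hm] at h
    obtain ⟨c, hc⟩ : ∃ c, r + 1 = c + 1 + n := ⟨r - n, by omega⟩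
    rw [show r + 1 + 1 = (c + 1 + 1) + n by omega, sum_range_add] at h
    have h1 : ∀ i ∈ range (c + 1 + 1), f (AdjoinRoot.root (KRR.extPoly P e) ^ (r + 1 - i) * linv ^ n) =
        KRR.sigma (c + 1 - i) e := fun i hi => by
      rw [mem_range] at hi
      rw [mul_comm, show r + 1 - i = (c + 1 - i) + n by omega, hinv', functional_root_pow he hr hf]
    rw [sum_congr rfl fun i hi => by rw [h1 i hi, ← mul_assoc], sum_lam_mul_sigma, if_neg (Nat.succ_ne_zero c),
      zero_add] at h
    obtain ⟨p, rfl⟩ : ∃ p, n = p + 1 := ⟨n - 1, by omega⟩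
    rw [sum_range_succ, sum_eq_zero fun i hi => by
      rw [mem_range] at hi
      rw [show r + 1 - (c + 1 + 1 + i) = p - i by omega, mul_comm (AdjoinRoot.root (KRR.extPoly P e) ^ (p - i)),
        show p + 1 = (i + 1) + (p - i) by omega, hinv, ih (i + 1) (by omega) (by omega) (by omega), mul_zero, mul_zero],
      zero_add, show r + 1 - (c + 1 + 1 + p) = 0 by omega, pow_zero, one_mul,
      show c + 1 + 1 + p = (P.aug e).toNat by omega, ← mul_assoc] at h
    exact (((isUnit_one.neg).pow _).mul (P.isUnit_lam e he)).mul_right_eq_zero.mp h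

theorem lam_sub_root (inst : LambdaOps (AdjoinRoot (KRR.extPoly P e)))
    (hext : ∀ (i : ℕ) (x : K), @LambdaOps.lam _ _ inst i (AdjoinRoot.of (KRR.extPoly P e) x) =
      AdjoinRoot.of (KRR.extPoly P e) (LambdaOps.lam i x))
    (hroot : ∀ i : ℕ, 2 ≤ i → @LambdaOps.lam _ _ inst i (AdjoinRoot.root (KRR.extPoly P e)) = 0) (i : ℕ) :
    @LambdaOps.lam _ _ inst i (AdjoinRoot.of (KRR.extPoly P e) e - AdjoinRoot.root (KRR.extPoly P e)) =
      ∑ j ∈ range (i + 1), AdjoinRoot.of (KRR.extPoly P e) ((-1 : K) ^ (i - j) * LambdaOps.lam j e) *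
        AdjoinRoot.root (KRR.extPoly P e) ^ (i - j) := by
  induction i with
  | zero => simp [LambdaOps.lam_zero, inst.lam_zero]
  | succ i ih =>
    have h := inst.lam_add (i + 1) (AdjoinRoot.of (KRR.extPoly P e) e - AdjoinRoot.root (KRR.extPoly P e))
      (AdjoinRoot.root (KRR.extPoly P e))
    rw [sub_add_cancel, hext, sum_range_succ, sum_range_succ, sum_eq_zero (fun j hj => by
      rw [mem_range] at hj
      rw [hroot (i + 1 - j) (by omega), mul_zero]), Nat.sub_self, Nat.add_sub_cancel_left, inst.lam_zero,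
      inst.lam_one, mul_one, zero_add, ih] at h
    have hs : ∑ j ∈ range (i + 1), AdjoinRoot.of (KRR.extPoly P e) ((-1 : K) ^ (i + 1 - j) * LambdaOps.lam j e) *
          AdjoinRoot.root (KRR.extPoly P e) ^ (i + 1 - j) =
        -((∑ j ∈ range (i + 1), AdjoinRoot.of (KRR.extPoly P e) ((-1 : K) ^ (i - j) * LambdaOps.lam j e) *
          AdjoinRoot.root (KRR.extPoly P e) ^ (i - j)) * AdjoinRoot.root (KRR.extPoly P e)) := by
      rw [sum_mul, ← sum_neg_distrib]
      refine sum_congr rfl fun j hj => ?_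
      rw [mem_range] at hj
      rw [show i + 1 - j = (i - j) + 1 by omega, pow_succ, pow_succ]
      simp only [map_mul, map_pow, map_neg, map_one]
      ring
    rw [sum_range_succ, hs, Nat.sub_self, pow_zero, one_mul, pow_zero, mul_one, h]
    ring

theorem functional_lam_sub_root (he : e ∈ P.pos) (hr : P.aug e = r + 1)
    (hf : ∀ i : ℕ, i ≤ r → f (AdjoinRoot.root (KRR.extPoly P e) ^ i) = KRR.sigma i e)
    (inst : LambdaOps (AdjoinRoot (KRR.extPoly P e)))
    (hext : ∀ (i : ℕ) (x : K), @LambdaOps.lam _ _ inst i (AdjoinRoot.of (KRR.extPoly P e) x) =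
      AdjoinRoot.of (KRR.extPoly P e) (LambdaOps.lam i x))
    (hroot : ∀ i : ℕ, 2 ≤ i → @LambdaOps.lam _ _ inst i (AdjoinRoot.root (KRR.extPoly P e)) = 0) (i : ℕ) :
    f (@LambdaOps.lam _ _ inst i (AdjoinRoot.of (KRR.extPoly P e) e - AdjoinRoot.root (KRR.extPoly P e))) =
      if i = 0 then 1 else 0 := by
  rw [lam_sub_root inst hext hroot, map_sum]
  have h := sum_lam_mul_sigma e i
  have hsplit : ∀ j ∈ range (i + 1),
      f (AdjoinRoot.of (KRR.extPoly P e) ((-1 : K) ^ (i - j) * LambdaOps.lam j e) *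
        AdjoinRoot.root (KRR.extPoly P e) ^ (i - j)) =
      (-1 : K) ^ i * ((-1 : K) ^ j * LambdaOps.lam j e * KRR.sigma (i - j) e) := fun j hj => by
    rw [mem_range] at hj
    obtain ⟨c, rfl⟩ : ∃ c, i = j + c := ⟨i - j, by omega⟩
    rw [functional_of_mul, functional_root_pow he hr hf, Nat.add_sub_cancel_left]
    have h1 : (-1 : K) ^ j * (-1) ^ j = 1 := by rw [← mul_pow]; simp
    linear_combination (-((-1 : K) ^ c * LambdaOps.lam j e * KRR.sigma c e)) * h1
  rw [sum_congr rfl hsplit, ← mul_sum, h]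
  split_ifs with hi <;> simp [hi]

theorem aug_functional_root_sub_one_pow (hK : HasSplitting K P) (he : e ∈ P.pos) (hr : P.aug e = r + 1)
    (hf : ∀ i : ℕ, i ≤ r → f (AdjoinRoot.root (KRR.extPoly P e) ^ i) = KRR.sigma i e) :
    P.aug (f ((AdjoinRoot.root (KRR.extPoly P e) - 1) ^ r)) = 1 := by
  have h : ∀ p : Polynomial ℤ, P.aug (f (Polynomial.eval₂ (Int.castRingHom _) (AdjoinRoot.root (KRR.extPoly P e)) p)) =
      (Polynomial.taylor 1 (Polynomial.X ^ r * p)).coeff r := by
    intro p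
    induction p using Polynomial.induction_on' with
    | add p q hp hq =>
      rw [Polynomial.eval₂_add, map_add, map_add, hp, hq, mul_add, map_add, Polynomial.coeff_add]
    | monomial n a =>
      have hcast : (Int.castRingHom (AdjoinRoot (KRR.extPoly P e))) a = AdjoinRoot.of (KRR.extPoly P e) (a : K) := by
        simp
      rw [Polynomial.eval₂_monomial, hcast, functional_of_mul, functional_root_pow he hr hf, map_mul, map_intCast,
        aug_sigma hK he hr, ← Polynomial.C_mul_X_pow_eq_monomial, mul_left_comm, ← pow_add,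
        Polynomial.C_mul_X_pow_eq_monomial, Polynomial.taylor_coeff, Polynomial.hasseDeriv_monomial,
        Polynomial.eval_monomial, one_pow, mul_one, Int.cast_eq, mul_comm a]
  have hp := h ((Polynomial.X - 1) ^ r)
  simp only [Polynomial.eval₂_pow, Polynomial.eval₂_sub, Polynomial.eval₂_X, Polynomial.eval₂_one] at hp
  rw [hp, ← mul_pow, Polynomial.taylor_apply, Polynomial.pow_comp]
  have : ((Polynomial.X * (Polynomial.X - 1) : Polynomial ℤ).comp (Polynomial.X + Polynomial.C 1)) =
      (Polynomial.X + 1) * Polynomial.X := by simp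
  rw [this, mul_pow]
  have hc := Polynomial.coeff_mul_X_pow ((Polynomial.X + 1 : Polynomial ℤ) ^ r) r 0
  rw [zero_add] at hc
  rw [hc, Polynomial.coeff_zero_eq_eval_zero]
  simp

/-- `(p - p(1)) / (T - 1)`. -/
noncomputable def extQuot (P : PosStructure K) (e : K) : Polynomial K :=
  ∑ j ∈ range ((P.aug e).toNat + 1), Polynomial.C ((-1 : K) ^ j * LambdaOps.lam j e) *
    ∑ k ∈ range ((P.aug e).toNat - j), Polynomial.X ^ k

theorem sub_one_mul_extQuot (P : PosStructure K) (e : K) :
    (Polynomial.X - Polynomial.C 1) * extQuot P e =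
      KRR.extPoly P e - Polynomial.C ((KRR.extPoly P e).eval 1) := by
  rw [extQuot, KRR.extPoly, Polynomial.eval_finsetSum, map_sum, ← sum_sub_distrib, mul_sum]
  refine sum_congr rfl fun j _ => ?_
  rw [map_one, mul_left_comm, mul_geom_sum]
  simp [mul_sub]

theorem eq_functional_mul_lamAlt (he : e ∈ P.pos) (hr : P.aug e = r + 1)
    (hf : ∀ i : ℕ, i ≤ r → f (AdjoinRoot.root (KRR.extPoly P e) ^ i) = KRR.sigma i e)
    (inst : LambdaOps (AdjoinRoot (KRR.extPoly P e)))
    (hext : ∀ (i : ℕ) (x : K), @LambdaOps.lam _ _ inst i (AdjoinRoot.of (KRR.extPoly P e) x) =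
      AdjoinRoot.of (KRR.extPoly P e) (LambdaOps.lam i x))
    (hroot : ∀ i : ℕ, 2 ≤ i → @LambdaOps.lam _ _ inst i (AdjoinRoot.root (KRR.extPoly P e)) = 0)
    (z : AdjoinRoot (KRR.extPoly P e)) (hz : z * (1 - AdjoinRoot.root (KRR.extPoly P e)) = 0) :
    z = AdjoinRoot.of (KRR.extPoly P e) (f z) * ∑ i ∈ range (r + 1), (-1) ^ i *
      @LambdaOps.lam _ _ inst i (AdjoinRoot.of (KRR.extPoly P e) e - AdjoinRoot.root (KRR.extPoly P e)) := by
  have hm : (P.aug e).toNat = r + 1 := by omega
  have hA : ∑ i ∈ range (r + 1), (-1) ^ i *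
      @LambdaOps.lam _ _ inst i (AdjoinRoot.of (KRR.extPoly P e) e - AdjoinRoot.root (KRR.extPoly P e)) =
      AdjoinRoot.mk (KRR.extPoly P e) (extQuot P e) := by
    rw [extQuot, hm, map_sum, sum_range_succ _ (r + 1), Nat.sub_self]
    simp only [map_mul, map_sum, map_pow, AdjoinRoot.mk_C, AdjoinRoot.mk_X, range_zero, sum_empty, mul_zero, map_zero, add_zero]
    simp only [mul_sum]
    rw [← sum_range_diag_flip (r + 1) (fun j k => AdjoinRoot.of (KRR.extPoly P e) (-1 : K) ^ j *
      AdjoinRoot.of (KRR.extPoly P e) (LambdaOps.lam j e) * AdjoinRoot.root (KRR.extPoly P e) ^ k)]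
    · refine sum_congr rfl fun i hi => ?_
      rw [lam_sub_root inst hext hroot, mul_sum]
      refine sum_congr rfl fun j hj => ?_
      rw [mem_range] at hj
      obtain ⟨c, rfl⟩ : ∃ c, i = j + c := ⟨i - j, by omega⟩
      simp only [Nat.add_sub_cancel_left, map_mul, map_pow, map_neg, map_one, pow_add]
      have h1 : (-1 : AdjoinRoot (KRR.extPoly P e)) ^ c * (-1) ^ c = 1 := by rw [← mul_pow]; simp
      linear_combination ((-1) ^ j * AdjoinRoot.of (KRR.extPoly P e) (LambdaOps.lam j e) *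
        AdjoinRoot.root (KRR.extPoly P e) ^ c) * h1
  have hfA : ∀ a, f (AdjoinRoot.of (KRR.extPoly P e) a * ∑ i ∈ range (r + 1), (-1) ^ i *
      @LambdaOps.lam _ _ inst i (AdjoinRoot.of (KRR.extPoly P e) e - AdjoinRoot.root (KRR.extPoly P e))) = a := by
    intro a
    rw [functional_of_mul, map_sum, sum_eq_single 0]
    · rw [pow_zero, one_mul, functional_lam_sub_root he hr hf inst hext hroot, if_pos rfl, mul_one]
    · intro i _ hi
      rw [show (-1 : AdjoinRoot (KRR.extPoly P e)) ^ i = AdjoinRoot.of (KRR.extPoly P e) ((-1) ^ i) by simp,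
        functional_of_mul, functional_lam_sub_root he hr hf inst hext hroot, if_neg hi, mul_zero]
    · intro h; simp at h
  obtain ⟨q, rfl⟩ := AdjoinRoot.mk_surjective z
  rw [← AdjoinRoot.mk_X, ← map_one (AdjoinRoot.mk (KRR.extPoly P e)), ← map_sub, ← map_mul,
    AdjoinRoot.mk_eq_zero] at hz
  obtain ⟨w, hw⟩ := hz
  obtain ⟨w', hw'⟩ : (Polynomial.X - Polynomial.C (1 : K)) ∣ w - Polynomial.C (w.eval 1) :=
    Polynomial.X_sub_C_dvd_sub_C_eval
  have h0 : Polynomial.C (w.eval 1) * Polynomial.C ((KRR.extPoly P e).eval 1) = 0 := by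
    have := congrArg (Polynomial.eval 1) hw
    simp only [Polynomial.eval_mul, Polynomial.eval_sub, Polynomial.eval_one, Polynomial.eval_X, sub_self,
      mul_zero] at this
    rw [← map_mul, mul_comm, ← this, map_zero]
  have hkey : q + KRR.extPoly P e * w' + Polynomial.C (w.eval 1) * extQuot P e = 0 := by
    refine (Polynomial.monic_X_sub_C (1 : K)).isRegular.left.mul_left_eq_zero_iff.mp ?_
    linear_combination (-1 : Polynomial K) * hw - (KRR.extPoly P e) * hw' +
      Polynomial.C (w.eval 1) * sub_one_mul_extQuot P e - h0 + q * (map_one (Polynomial.C (R := K))).symm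
  have hq : AdjoinRoot.mk (KRR.extPoly P e) q =
      AdjoinRoot.of (KRR.extPoly P e) (-(w.eval 1)) * AdjoinRoot.mk (KRR.extPoly P e) (extQuot P e) := by
    have := congrArg (AdjoinRoot.mk (KRR.extPoly P e)) hkey
    rw [map_add, map_add, map_mul, map_mul, AdjoinRoot.mk_self, zero_mul, add_zero, map_zero, AdjoinRoot.mk_C] at this
    rw [map_neg]
    linear_combination this
  rw [← hA] at hq
  rw [hq, hfA]

end Functional

/-! ## Bott classes -/

theorem lamAlt_lines (e : K) {m : ℕ} (u : Fin m → K) (hu : ∀ a, P.IsLine (u a)) (hsum : ∑ a, u a = e)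
    (hm : (P.aug e).toNat = m) : KRR.lamAlt P e = ∏ a, (1 - u a) := by
  rw [KRR.lamAlt, hm, ← alt_sum_esymm]
  refine sum_congr rfl fun i _ => ?_
  rw [← hsum, lam_finset_sum_eq_esymm _ (fun a _ => lam_line (hu a))]

theorem bott_lines (j : ℕ) (e : K) {m : ℕ} (u : Fin m → K) (hu : ∀ a, P.IsLine (u a)) (hsum : ∑ a, u a = e)
    (hm : (P.aug e).toNat = m) : KRR.bott P j e = ∏ a, ∑ k ∈ range j, u a ^ k := by
  subst hm
  have h : MvPolynomial.esymmAlgHom (Fin (P.aug e).toNat) ℤ (P.aug e).toNat (KRR.bottPoly j (P.aug e).toNat) =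
      ⟨KRR.bottSym j (P.aug e).toNat, KRR.bottSym_isSymmetric j _⟩ :=
    AlgEquiv.apply_symm_apply (MvPolynomial.esymmAlgEquiv (Fin (P.aug e).toNat) ℤ (Fintype.card_fin _)) _
  have h' := congrArg Subtype.val h
  rw [MvPolynomial.esymmAlgHom_apply] at h'
  have h'' := congrArg (MvPolynomial.aeval u) h'
  rw [← AlgHom.comp_apply, MvPolynomial.comp_aeval] at h''
  have hlam : (fun i : Fin (P.aug e).toNat => LambdaOps.lam ((i : ℕ) + 1) e) =
      fun i : Fin (P.aug e).toNat => MvPolynomial.aeval u (MvPolynomial.esymm (Fin (P.aug e).toNat) ℤ ((i : ℕ) + 1)) := by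
    funext i
    refine (congrArg (LambdaOps.lam ((i : ℕ) + 1)) hsum.symm).trans ?_
    rw [lam_finset_sum_eq_esymm _ (fun a _ => lam_line (hu a)), MvPolynomial.aeval_esymm_eq_multiset_esymm,
      Finset.esymm_map_val]
  rw [KRR.bott, hlam]
  refine h''.trans ?_
  simp [KRR.bottSym]

theorem adams_lamAlt (hK : HasSplitting K P) {e : K} (he : e ∈ P.pos) (j : ℕ) :
    adams P j (KRR.lamAlt P e) = KRR.lamAlt P e * KRR.bott P j e := by
  obtain ⟨L, f, hf, hL, s, hs, hse, hcard⟩ := exists_split hK he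
  obtain ⟨m, u, hm, hu⟩ := exists_enum s
  have hmm : (P.aug e).toNat = m := by rw [← hcard, hm]
  have hul : ∀ a, L.posStr.IsLine (u a) := fun a =>
    hs _ (by rw [← hu]; exact Multiset.mem_map_of_mem u (Finset.mem_univ_val a))
  have hsum : ∑ a, u a = f e := by rw [← hse, Finset.sum_eq_multiset_sum, hu]
  have haug : L.posStr.aug (f e) = P.aug e := hf.aug_comp e
  have hfl : ∀ (i : ℕ) (x : K), f (LambdaOps.lam i x) = LambdaOps.lam i (f x) := hf.isLambdaHom
  have hfalt : f (KRR.lamAlt P e) = ∏ a, (1 - u a) := by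
    rw [← lamAlt_lines (P := L.posStr) (f e) u hul hsum (by rw [haug, hmm]), KRR.lamAlt, KRR.lamAlt, haug, map_sum]
    simp only [map_mul, map_pow, map_neg, map_one, hfl]
  have hfbott : f (KRR.bott P j e) = ∏ a, ∑ k ∈ range j, u a ^ k := by
    have h := bott_lines (P := L.posStr) j (f e) u hul hsum (by rw [haug, hmm])
    rw [← h, KRR.bott, KRR.bott, haug]
    have hc := MvPolynomial.comp_aeval (fun i : Fin (P.aug e).toNat => LambdaOps.lam (i.1 + 1) e) f.toIntAlgHom
    rw [show f (MvPolynomial.aeval (fun i : Fin (P.aug e).toNat => LambdaOps.lam (i.1 + 1) e)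
        (KRR.bottPoly j (P.aug e).toNat)) = f.toIntAlgHom (MvPolynomial.aeval
        (fun i : Fin (P.aug e).toNat => LambdaOps.lam (i.1 + 1) e) (KRR.bottPoly j (P.aug e).toNat)) from rfl,
      ← AlgHom.comp_apply, hc]
    simp only [RingHom.toIntAlgHom_apply, hfl]
  apply hf.injective
  rw [map_mul, map_adams hf.isLambdaHom hf.aug_comp, hfalt, hfbott, ← prod_mul_distrib]
  change adamsRingHom hL j _ = _
  rw [map_prod]
  refine prod_congr rfl fun a _ => ?_
  rw [map_sub, map_one, show adamsRingHom hL j (u a) = u a ^ j from adams_line (hul a) j, mul_comm (1 - u a),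
    geom_sum_mul_neg]

end Groth.Agent.Lambda
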