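import Groth.Agent.Lambda.GammaFil

/-!
# Dividing by `λ_{-1}(N)`

For `N` with `λ^i N = 0` for `i > d` put `ℓ = Σ (-1)^i λ^i N = (-1)^d γ^d(N - d)`. The universal model is
`ℤ[w]` with `d` variables for `N - d` and a family of variables for every further element; there `ℓ` is, up to
sign, the product of the first `d` variables.
-/

universe u v

open MvPolynomial Finset LambdaRing

namespace Groth.Agent.Lambda

section Lines

variable {σ : Type}

/-- `γ^l` of a sum of variables. -/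
theorem gamma_sum_X {τ : Type} [Fintype τ] (f : τ → σ) (l : ℕ) :
    LambdaRing.gamma l (∑ a : τ, X (f a) : MvPolynomial σ ℤ) = rename f (esymm τ ℤ l) := by
  have h := gamma_multiset_sum_sub_one (K := MvPolynomial σ ℤ) lam_one_line
    (s := (Finset.univ : Finset τ).val.map fun a => 1 + X (f a)) (by
      intro u hu
      obtain ⟨a, -, rfl⟩ := Multiset.mem_map.mp hu
      exact lam_one_add_X (f a)) l
  rw [Multiset.map_map] at h
  simp only [Function.comp_def, add_sub_cancel_left] at h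
  rw [esymm_eq_multiset_esymm, map_multiset_esymm, Multiset.map_map]
  simp only [Function.comp_def, rename_X]
  rw [← h, Finset.sum_eq_multiset_sum]

/-- `λ^k` maps the ideal `(w_a)` to itself, `k ≥ 1`. -/
theorem lam_mem_span_X (a : σ) {z : MvPolynomial σ ℤ} (hz : z ∈ Ideal.span {X a}) {k : ℕ} (hk : k ≠ 0) :
    LambdaOps.lam k z ∈ Ideal.span {X a} := by
  obtain ⟨y, rfl⟩ := Ideal.mem_span_singleton'.mp hz
  let π := PowerSeries.map (Ideal.Quotient.mk (Ideal.span {(X a : MvPolynomial σ ℤ)}))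
  let G : AddSubgroup (MvPolynomial σ ℤ) :=
    { carrier := {y | π (lamSeries (y * X a)) = 1}
      zero_mem' := by simp [π]
      add_mem' := fun {b c} hb hc => by
        simp only [Set.mem_ofPred_eq] at hb hc ⊢
        rw [add_mul, lamSeries_add, map_mul, hb, hc, mul_one]
      neg_mem' := fun {b} hb => by
        simp only [Set.mem_ofPred_eq] at hb ⊢
        have h := congrArg π (lamSeries_neg_mul_self (b * X a))
        rw [map_mul, hb, map_one, mul_one] at h
        rwa [neg_mul] }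
  have hG : ∀ y, y ∈ G := by
    refine fun y => line_induction (S := G) (fun c => ?_) y
    show π (lamSeries (lineMon c * X a)) = 1
    have hsplit : lineMon c * X a + lineMon c = lineMon (c + Finsupp.single a 1) := by
      have hmul : lineMon (c + Finsupp.single a 1) = lineMon c * (1 + X a) := by
        rw [lineMon, lineMon, show (1 + X a : MvPolynomial σ ℤ) = shiftEquiv σ (monomial (Finsupp.single a 1) 1) from
          (by rw [← lineMon, lineMon_eq]; simp), ← map_mul, monomial_mul, one_mul]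
      rw [hmul]
      ring
    have h := congrArg π (congrArg lamSeries hsplit)
    rw [lamSeries_add, map_mul, lamSeries_eq_lineSeries (lineMon c), lamSeries_eq_lineSeries (lineMon (c + _)),
      lineSeries_lineMon, lineSeries_lineMon] at h
    have hq : π (1 + PowerSeries.C (lineMon (c + Finsupp.single a 1)) * PowerSeries.X) =
        π (1 + PowerSeries.C (lineMon c) * PowerSeries.X) := by
      rw [← hsplit]
      simp only [π, map_add, map_mul, map_one, PowerSeries.map_C, PowerSeries.map_X]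
      simp [Ideal.Quotient.eq_zero_iff_mem.mpr (Ideal.mem_span_singleton_self (X a : MvPolynomial σ ℤ))]
    rw [hq] at h
    have hu : IsUnit (π (1 + PowerSeries.C (lineMon c) * PowerSeries.X)) :=
      (PowerSeries.isUnit_iff_constantCoeff.mpr (by simp)).map π
    exact hu.mul_right_cancel (by rw [h, one_mul])
  have h := congrArg (PowerSeries.coeff k) (show π (lamSeries (y * X a)) = 1 from hG y)
  simp only [π, PowerSeries.coeff_map, coeff_lamSeries, PowerSeries.coeff_one, if_neg hk] at h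
  exact Ideal.Quotient.eq_zero_iff_mem.mp h

/-- The leading term of `λ^q` on `(w)^m / (w)^{m+1}`. -/
theorem lam_leading_line {m : ℕ} (hm : 1 ≤ m) {z : MvPolynomial σ ℤ} (hzm : z ∈ wIdeal σ ^ m) :
    ∀ q, 1 ≤ q → LambdaOps.lam q z ∈ wIdeal σ ^ m ∧
      LambdaOps.lam q z - (-1) ^ (q - 1) * (q : MvPolynomial σ ℤ) ^ (m - 1) * z ∈ wIdeal σ ^ (m + 1) := by
  have hψ : ∀ j, 1 ≤ j → adamsOp j z - (j : MvPolynomial σ ℤ) ^ m * z ∈ wIdeal σ ^ (m + 1) :=
    fun j hj => by rw [adamsOp_eq_lineAdams (by omega)]; exact lineAdams_sub_mem hzm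
  have hψm : ∀ j, 1 ≤ j → adamsOp j z ∈ wIdeal σ ^ m := fun j hj => by
    have := add_mem (Ideal.pow_le_pow_right (Nat.le_succ m) (hψ j hj))
      (Ideal.mul_mem_left _ ((j : MvPolynomial σ ℤ) ^ m) hzm)
    simpa using this
  intro q
  induction q using Nat.strong_induction_on with
  | _ q ih =>
    intro hq
    obtain ⟨p, rfl⟩ : ∃ p, q = p + 1 := ⟨q - 1, by omega⟩
    have hN' := newton (constantCoeff_lamSeries z) p
    simp only [coeff_lamSeries, ← adamsOp_eq_psiS, sum_range_succ, Nat.sub_self, LambdaOps.lam_zero,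
      mul_one] at hN'
    have hlow : ∑ i ∈ range p, (-1) ^ i * adamsOp (i + 1) z * LambdaOps.lam (p - i) z ∈ wIdeal σ ^ (m + 1) := by
      refine sum_mem fun i hi => ?_
      rw [mem_range] at hi
      refine Ideal.pow_le_pow_right (show m + 1 ≤ m + m by omega) ?_
      rw [pow_add]
      exact Ideal.mul_mem_mul (Ideal.mul_mem_left _ _ (hψm (i + 1) (by omega))) (ih (p - i) (by omega) (by omega)).1
    refine ⟨natCast_mul_mem_pow (Nat.succ_ne_zero p) ?_, natCast_mul_mem_pow (Nat.succ_ne_zero p) ?_⟩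
    · rw [hN']
      exact add_mem (Ideal.pow_le_pow_right (Nat.le_succ m) hlow) (Ideal.mul_mem_left _ _ (hψm (p + 1) (by omega)))
    · rw [mul_sub, hN', Nat.add_sub_cancel]
      obtain ⟨m', rfl⟩ : ∃ m', m = m' + 1 := ⟨m - 1, by omega⟩
      rw [Nat.add_sub_cancel]
      have := add_mem hlow (Ideal.mul_mem_left _ ((-1) ^ p) (hψ (p + 1) (by omega)))
      convert this using 1
      push_cast
      ring

/-- `γ^k` is in any ideal containing all `λ^j`. -/
theorem gamma_mem_of_lam_mem {A : Type v} [CommRing A] [LambdaOps A] {I : Ideal A} {z : A}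
    (h : ∀ j, 1 ≤ j → LambdaOps.lam j z ∈ I) {k : ℕ} (hk : k ≠ 0) : LambdaRing.gamma k z ∈ I := by
  rw [LambdaRing.gamma, if_neg hk]
  refine sum_mem fun j _ => ?_
  split_ifs with hj
  · simp
  · exact Ideal.mul_mem_left _ _ (h j (Nat.one_le_iff_ne_zero.mpr hj))

/-- `γ^m ≡ (-1)^(m-1) (m-1)!` on `(w)^m / (w)^{m+1}`. -/
theorem gamma_leading_line {m : ℕ} (hm : 1 ≤ m) {z : MvPolynomial σ ℤ} (hzm : z ∈ wIdeal σ ^ m) :
    LambdaRing.gamma m z - (-1) ^ (m - 1) * ((m - 1).factorial : MvPolynomial σ ℤ) * z ∈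
      wIdeal σ ^ (m + 1) := by
  have h := lam_leading_line hm hzm
  obtain ⟨p, rfl⟩ : ∃ p, m = p + 1 := ⟨m - 1, by omega⟩
  have hc : (-1 : MvPolynomial σ ℤ) ^ p * (p.factorial : MvPolynomial σ ℤ) =
      ∑ i ∈ range (p + 1), (p.choose i : MvPolynomial σ ℤ) * (-1) ^ i * ((i + 1 : ℕ) : MvPolynomial σ ℤ) ^ p := by
    have := congrArg (Int.cast : ℤ → MvPolynomial σ ℤ) (alt_sum_choose_mul_pow p)
    simpa [eq_comm] using this
  rw [LambdaRing.gamma, if_neg (Nat.succ_ne_zero p), sum_range_succ', if_pos rfl, mul_zero, add_zero,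
    Nat.add_sub_cancel, hc, sum_mul, ← sum_sub_distrib]
  refine sum_mem fun i _ => ?_
  rw [if_neg (Nat.succ_ne_zero i), Nat.add_sub_cancel]
  have := (h (i + 1) (by omega)).2
  rw [Nat.add_sub_cancel, Nat.add_sub_cancel] at this
  convert Ideal.mul_mem_left _ (p.choose i : MvPolynomial σ ℤ) this using 1
  ring

theorem rename_esymm_homogeneous {τ : Type} [Fintype τ] (f : τ → σ) (l : ℕ) :
    IsWeightedHomogeneous (fun _ : σ => 1) (rename f (esymm τ ℤ l)) l := by
  rw [esymm, map_sum]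
  refine IsWeightedHomogeneous.sum _ _ _ fun s hs => ?_
  rw [map_prod]
  have h := IsWeightedHomogeneous.prod (w := fun _ : σ => 1) s
    (fun a : τ => rename f (X a : MvPolynomial τ ℤ)) (fun _ => 1)
    (fun a _ => by rw [rename_X]; exact isWeightedHomogeneous_X ℤ _ _)
  rw [sum_const, (mem_powersetCard.mp hs).2, smul_eq_mul, mul_one] at h
  exact h

end Lines

section Model

variable {A : Type v} [CommRing A] [LambdaOps A]

theorem lam_neg_one (h1 : ∀ i, 2 ≤ i → LambdaOps.lam i (1 : A) = 0) (j : ℕ) :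
    LambdaOps.lam j (-1 : A) = (-1) ^ j := by
  induction j using Nat.strong_induction_on with
  | _ j ih =>
    rcases j with _ | m
    · simp [LambdaOps.lam_zero]
    rw [lam_neg_eq, sum_range_succ, sum_eq_zero fun i hi => by
      rw [mem_range] at hi
      rw [h1 (m + 1 - i) (by omega), mul_zero]]
    rw [show m + 1 - m = 1 by omega, LambdaOps.lam_one, mul_one, zero_add, ih m (Nat.lt_succ_self m), pow_succ]
    ring

theorem gamma_sub_natCast_eq_zero (h1 : ∀ i, 2 ≤ i → LambdaOps.lam i (1 : A) = 0) {d : ℕ} {N : A}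
    (hN : ∀ i : ℕ, d < i → LambdaOps.lam i N = 0) {l : ℕ} (hl : d < l) :
    LambdaRing.gamma l (N - (d : A)) = 0 := by
  obtain ⟨c, rfl⟩ : ∃ c, l = d + c + 1 := ⟨l - d - 1, by omega⟩
  rw [gamma_eq_lam_add_sub_one h1,
    show N - (d : A) + ((d + c + 1 : ℕ) : A) - 1 = N + (c : A) by push_cast; ring, LambdaOps.lam_add]
  refine sum_eq_zero fun i _ => ?_
  rcases lt_or_ge d i with h | h
  · rw [hN i h, zero_mul]
  · rw [lam_natCast h1, Nat.choose_eq_zero_of_lt (by omega), Nat.cast_zero, mul_zero]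

theorem lamAlt_eq_gamma (h1 : ∀ i, 2 ≤ i → LambdaOps.lam i (1 : A) = 0) (e : ℕ) (N : A) :
    ∑ i ∈ range (e + 1 + 1), (-1 : A) ^ i * LambdaOps.lam i N =
      (-1) ^ (e + 1) * LambdaRing.gamma (e + 1) (N - ((e + 1 : ℕ) : A)) := by
  rw [gamma_eq_lam_add_sub_one h1, sub_add_cancel, sub_eq_add_neg, LambdaOps.lam_add, mul_sum]
  refine sum_congr rfl fun i hi => ?_
  rw [mem_range] at hi
  rw [lam_neg_one h1]
  obtain ⟨c, hc⟩ : ∃ c, e + 1 = i + c := ⟨e + 1 - i, by omega⟩
  rw [hc, Nat.add_sub_cancel_left, pow_add]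
  have : (-1 : A) ^ c * (-1) ^ c = 1 := by rw [← mul_pow]; simp
  linear_combination (-((-1 : A) ^ i * LambdaOps.lam i N)) * this

variable (e r M : ℕ)

/-- The weights. -/
def altWeight : Fin (e + 1) ⊕ (Fin r × Fin M) → ℕ :=
  Sum.elim (fun k : Fin (e + 1) => (k : ℕ) + 1) (famWeight r M)

/-- The values in `ℤ[w]`. -/
noncomputable def altVar (v : Fin (e + 1) ⊕ (Fin r × Fin M)) :
    MvPolynomial (Fin (e + 1) ⊕ (Fin r × Fin M)) ℤ :=
  Sum.elim (fun k : Fin (e + 1) => rename Sum.inl (esymm (Fin (e + 1)) ℤ ((k : ℕ) + 1)))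
    (fun p => rename Sum.inr (famVar r M p)) v

variable {e r M}

/-- The values in `A`. -/
def altVal (N : A) (x : Fin r → A) (v : Fin (e + 1) ⊕ (Fin r × Fin M)) : A :=
  Sum.elim (fun k : Fin (e + 1) => LambdaRing.gamma ((k : ℕ) + 1) (N - ((e + 1 : ℕ) : A))) (famVal x) v

theorem altVar_homogeneous (v : Fin (e + 1) ⊕ (Fin r × Fin M)) :
    IsWeightedHomogeneous (fun _ => 1) (altVar e r M v) (altWeight e r M v) := by
  rcases v with k | ⟨i, k⟩
  · simp only [altVar, altWeight, Sum.elim_inl]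
    exact rename_esymm_homogeneous _ _
  · simp only [altVar, altWeight, Sum.elim_inr, famVar, rename_rename, famWeight]
    exact rename_esymm_homogeneous _ _

theorem altVar_injective :
    Function.Injective (aeval (altVar e r M) :
      MvPolynomial (Fin (e + 1) ⊕ (Fin r × Fin M)) ℤ →ₐ[ℤ] MvPolynomial (Fin (e + 1) ⊕ (Fin r × Fin M)) ℤ) := by
  have h : (aeval (altVar e r M) : MvPolynomial (Fin (e + 1) ⊕ (Fin r × Fin M)) ℤ →ₐ[ℤ] _) =
      blockEval (Fin (e + 1)) (e + 1) (famVar r M) := by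
    refine MvPolynomial.algHom_ext fun v => ?_
    rcases v with k | p <;> simp [altVar, blockEval]
  rw [h]
  exact blockEval_injective (σ := Fin (e + 1)) (Fintype.card_fin _).ge (famVar_injective r M)

theorem rel_gamma_sum (hA : IsSpecial A) {N : A} (hN : ∀ i : ℕ, e + 1 < i → LambdaOps.lam i N = 0) (x : Fin r → A)
    (l : ℕ) :
    Rel (altWeight e r M) (altVar e r M) (altVal N x) l
      (LambdaRing.gamma l (∑ a : Fin (e + 1), X (Sum.inl a : Fin (e + 1) ⊕ (Fin r × Fin M)) : MvPolynomial _ ℤ))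
      (LambdaRing.gamma l (N - ((e + 1 : ℕ) : A))) := by
  rcases l with _ | k
  · simpa [gamma_zero] using rel_one 0
  rw [gamma_sum_X]
  rcases lt_or_ge k (e + 1) with hk | hk
  · exact rel_var (wt := altWeight e r M) (ζ := altVar e r M) (α := altVal N x) (Sum.inl (⟨k, hk⟩ : Fin (e + 1)))
  · rw [gamma_sub_natCast_eq_zero hA.lam_one_eq_zero hN (by omega), esymm, powersetCard_eq_empty.mpr (by simp; omega),
      sum_empty, map_zero]
    exact rel_zero _

theorem rel_gamma_alt (N : A) (x : Fin r → A) (i : Fin r) {l : ℕ} (hl : l ≤ M) :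
    Rel (altWeight e r M) (altVar e r M) (altVal N x) l
      (LambdaRing.gamma l (∑ a : Fin M, X (Sum.inr (i, a) : Fin (e + 1) ⊕ (Fin r × Fin M)) : MvPolynomial _ ℤ))
      (LambdaRing.gamma l (x i)) := by
  rcases l with _ | k
  · simpa [gamma_zero] using rel_one 0
  rw [gamma_sum_X]
  have h := rel_var (wt := altWeight e r M) (ζ := altVar e r M) (α := altVal N x) (Sum.inr (i, (⟨k, hl⟩ : Fin M)))
  simpa [altWeight, altVar, altVal, famWeight, famVar, famVal, rename_rename, Function.comp_def] using h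

theorem isCoord_alt (hA : IsSpecial A) {N : A} (hN : ∀ i : ℕ, e + 1 < i → LambdaOps.lam i N = 0) (x : Fin r → A) :
    IsCoord (altWeight e r M) (altVar e r M) (altVal N x) M := by
  rintro (k | ⟨i, k⟩)
  · have h := lamRel_gamma (N := M) isSpecial_line hA (fun l _ => rel_gamma_sum (M := M) hA hN x l) ((k : ℕ) + 1)
    rw [gamma_sum_X] at h
    exact h
  · have h := lamRel_gamma (N := M) isSpecial_line hA (fun l hl => rel_gamma_alt (e := e) N x i hl) ((k : ℕ) + 1)
    rw [gamma_sum_X] at h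
    simpa [altWeight, altVar, altVal, famWeight, famVar, famVal, rename_rename, Function.comp_def] using h

/-- A value divisible by the last of the first `e + 1` variables comes from a multiple of the top coordinate. -/
theorem exists_top_mul {N : A} {x : Fin r → A} {w m : ℕ} {z : MvPolynomial (Fin (e + 1) ⊕ (Fin r × Fin M)) ℤ}
    {a : A} (h : Rel (altWeight e r M) (altVar e r M) (altVal N x) w z a)
    (hz : z ∈ wIdeal (Fin (e + 1) ⊕ (Fin r × Fin M)) ^ m) (hdvd : z ∈ Ideal.span {X (Sum.inl (Fin.last e))}) :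
    ∃ Q : MvPolynomial (Fin (e + 1) ⊕ (Fin r × Fin M)) ℤ,
      (∀ d ∈ Q.support, m - (e + 1) ≤ Finsupp.weight (altWeight e r M) d) ∧
      a = LambdaRing.gamma (e + 1) (N - ((e + 1 : ℕ) : A)) * aeval (altVal N x) Q := by
  classical
  obtain ⟨Q₀, hQ₀, hQz, hQa⟩ := Rel.exists_ge_of_mem_pow altVar_homogeneous altVar_injective h hz
  -- set the last variable, and the top coordinate, to zero
  set top : Fin (e + 1) ⊕ (Fin r × Fin M) := Sum.inl (Fin.last e) with htop
  let Φ : MvPolynomial (Fin (e + 1) ⊕ (Fin r × Fin M)) ℤ →ₐ[ℤ] MvPolynomial (Fin e ⊕ (Fin r × Fin M)) ℤ :=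
    aeval (Sum.elim (fun a => rename Sum.inl (killVars (e + 1) e a)) (fun p => X (Sum.inr p)))
  let ψ : MvPolynomial (Fin (e + 1) ⊕ (Fin r × Fin M)) ℤ →ₐ[ℤ] MvPolynomial (Fin e ⊕ (Fin r × Fin M)) ℤ :=
    aeval (Sum.elim (fun k : Fin (e + 1) => rename Sum.inl (killVars (e + 1) e k)) (fun p => X (Sum.inr p)))
  have hcomp : ∀ P, Φ (aeval (altVar e r M) P) = blockEval (Fin e) e (famVar r M) (ψ P) := by
    refine fun P => ?_
    rw [← AlgHom.comp_apply, ← AlgHom.comp_apply]
    congr 1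
    refine MvPolynomial.algHom_ext fun v => ?_
    rcases v with k | p
    · simp only [AlgHom.comp_apply, aeval_X, altVar, Sum.elim_inl, ψ, Φ, aeval_rename, Sum.elim_comp_inl]
      have hk : (aeval fun a : Fin (e + 1) => rename (Sum.inl : Fin e → Fin e ⊕ (Fin r × Fin M)) (killVars (e + 1) e a))
          (esymm (Fin (e + 1)) ℤ ((k : ℕ) + 1)) = rename Sum.inl (esymm (Fin e) ℤ ((k : ℕ) + 1)) := by
        rw [← aeval_killVars_esymm (Nat.le_succ e), ← AlgHom.comp_apply (rename _), comp_aeval]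
      rw [hk]
      by_cases hlt : (k : ℕ) < e
      · rw [killVars, dif_pos hlt, rename_X, blockEval, aeval_X, Sum.elim_inl]
      · rw [killVars, dif_neg hlt, map_zero, map_zero, esymm, powersetCard_eq_empty.mpr (by simp; omega),
          sum_empty, map_zero]
    · simp only [AlgHom.comp_apply, aeval_X, altVar, Sum.elim_inr, ψ, Φ, aeval_rename, Sum.elim_comp_inr, blockEval]
      exact (congrArg (fun F : MvPolynomial (Fin r × Fin M) ℤ →ₐ[ℤ] _ => F (famVar r M p))
        (aeval_X_comp_inr (e := e) (r := r) (M := M)))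
  have hψ0 : ψ Q₀ = 0 := by
    obtain ⟨y, hy⟩ := Ideal.mem_span_singleton'.mp hdvd
    refine blockEval_injective (σ := Fin e) (Fintype.card_fin _).ge (famVar_injective r M) ?_
    rw [← hcomp, map_zero, hQz, ← hy, map_mul]
    simp [Φ, top, killVars]
  let χ : MvPolynomial (Fin e ⊕ (Fin r × Fin M)) ℤ →ₐ[ℤ] MvPolynomial (Fin (e + 1) ⊕ (Fin r × Fin M)) ℤ :=
    rename (Sum.map Fin.castSucc id)
  have hmem : ∀ P, P - χ (ψ P) ∈ Ideal.span {(X top : MvPolynomial (Fin (e + 1) ⊕ (Fin r × Fin M)) ℤ)} := by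
    intro P
    rw [← Ideal.Quotient.eq]
    refine congrArg (fun F : MvPolynomial (Fin (e + 1) ⊕ (Fin r × Fin M)) ℤ →ₐ[ℤ] _ => F P)
      (MvPolynomial.algHom_ext (f := Ideal.Quotient.mkₐ ℤ _) (g := (Ideal.Quotient.mkₐ ℤ _).comp (χ.comp ψ)) fun v => ?_)
    rcases v with k | p
    · simp only [AlgHom.comp_apply, ψ, χ, aeval_X, Sum.elim_inl, Ideal.Quotient.mkₐ_eq_mk]
      by_cases hlt : (k : ℕ) < e
      · rw [killVars, dif_pos hlt, rename_X, rename_X]
        rfl
      · have : k = Fin.last e := Fin.ext (by simp; omega)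
        subst this
        rw [killVars, dif_neg hlt, map_zero, map_zero, map_zero, Ideal.Quotient.eq_zero_iff_mem]
        exact Ideal.mem_span_singleton_self _
    · simp [ψ, χ]
  have hdiv := hmem Q₀
  rw [hψ0, map_zero, sub_zero] at hdiv
  obtain ⟨Q, hQ⟩ := Ideal.mem_span_singleton'.mp hdiv
  refine ⟨Q, fun d hd => ?_, ?_⟩
  · have hd' : Finsupp.single top 1 + d ∈ Q₀.support := by
      rw [← hQ, mul_comm, mem_support_iff, coeff_X_mul]
      exact mem_support_iff.mp hd
    have h1 := (hQ₀ _ hd').1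
    have htw : Finsupp.weight (altWeight e r M) (Finsupp.single top 1) = e + 1 := by
      simp [Finsupp.weight_apply, top, altWeight]
    rw [map_add, htw] at h1
    omega
  · rw [← hQa, ← hQ, map_mul, aeval_X, mul_comm]
    rfl
where
  /-- auxiliary -/
  aeval_X_comp_inr {e r M : ℕ} :
      (aeval fun p : Fin r × Fin M => (X (Sum.inr p) : MvPolynomial (Fin e ⊕ (Fin r × Fin M)) ℤ)) = rename Sum.inr :=
    MvPolynomial.algHom_ext fun p => by simp

end Model

section Core

variable {A : Type v} [CommRing A] [LambdaOps A]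

variable {e r M : ℕ} {N : A} {x : Fin r → A}

/-- The sum of weights. -/
theorem rel_prod_alt (hA : IsSpecial A) (hN : ∀ i : ℕ, e + 1 < i → LambdaOps.lam i N = 0) (deg : Fin r → ℕ)
    (hM : ∀ i, deg i ≤ M) :
    ∃ z : MvPolynomial (Fin (e + 1) ⊕ (Fin r × Fin M)) ℤ,
      Rel (altWeight e r M) (altVar e r M) (altVal N x) ((∑ i, deg i) + (e + 1)) z
        ((∏ i, LambdaRing.gamma (deg i) (x i)) * ∑ i ∈ range (e + 1 + 1), (-1 : A) ^ i * LambdaOps.lam i N) ∧
      z ∈ wIdeal _ ^ ((∑ i, deg i) + (e + 1)) ∧ z ∈ Ideal.span {X (Sum.inl (Fin.last e))} := by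
  classical
  refine ⟨(∏ i, LambdaRing.gamma (deg i) (∑ a : Fin M, X (Sum.inr (i, a)))) *
    ((-1) ^ (e + 1) * LambdaRing.gamma (e + 1) (∑ a : Fin (e + 1), X (Sum.inl a))), ?_, ?_, ?_⟩
  · rw [lamAlt_eq_gamma hA.lam_one_eq_zero]
    refine Rel.mul (rel_prod _ fun i _ => rel_gamma_alt N x i (hM i)) ?_
    simpa using Rel.intCast_mul ((-1 : ℤ) ^ (e + 1)) (rel_gamma_sum (M := M) hA hN x (e + 1))
  · rw [pow_add, ← prod_pow_eq_pow_sum]
    exact Ideal.mul_mem_mul
      (Ideal.prod_mem_prod fun i _ => gamma_mem_wIdeal_pow (sum_mem fun a _ => Ideal.subset_span ⟨_, rfl⟩) _)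
      (Ideal.mul_mem_left _ _ (gamma_mem_wIdeal_pow (sum_mem fun a _ => Ideal.subset_span ⟨_, rfl⟩) _))
  · refine Ideal.mul_mem_left _ _ (Ideal.mul_mem_left _ _ ?_)
    rw [gamma_sum_X, esymm, powersetCard_eq_filter]
    rw [show (univ : Finset (Fin (e + 1))).powerset.filter (fun s => s.card = e + 1) = {univ} by
      ext s
      simp [← Finset.card_eq_iff_eq_univ, eq_comm]]
    rw [sum_singleton, map_prod]
    refine Ideal.mem_span_singleton.mpr (dvd_trans ?_ (Finset.dvd_prod_of_mem _ (mem_univ (Fin.last e))))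
    simp

/-- From a multiple of the top coordinate to a multiple of `ℓ`. -/
theorem exists_lamAlt_mul (hA : IsSpecial A) {w m : ℕ}
    {z : MvPolynomial (Fin (e + 1) ⊕ (Fin r × Fin M)) ℤ}
    {a : A} (h : Rel (altWeight e r M) (altVar e r M) (altVal N x) w z a)
    (hz : z ∈ wIdeal (Fin (e + 1) ⊕ (Fin r × Fin M)) ^ m) (hdvd : z ∈ Ideal.span {X (Sum.inl (Fin.last e))}) :
    ∃ b : A, a = (∑ i ∈ range (e + 1 + 1), (-1 : A) ^ i * LambdaOps.lam i N) * b ∧
      (∀ (T : ℕ → Ideal A), IsMulFiltration T → (∀ v, altVal N x v ∈ T (altWeight e r M v)) →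
        b ∈ T (m - (e + 1))) := by
  obtain ⟨Q, hQ, hQa⟩ := exists_top_mul h hz hdvd
  refine ⟨(-1) ^ (e + 1) * aeval (altVal N x) Q, ?_, fun T hT hα =>
    Ideal.mul_mem_left _ _ (hT.aeval_mem hα Q hQ)⟩
  rw [lamAlt_eq_gamma hA.lam_one_eq_zero, hQa]
  have : (-1 : A) ^ (e + 1) * (-1) ^ (e + 1) = 1 := by rw [← mul_pow]; simp
  linear_combination (-(LambdaRing.gamma (e + 1) (N - ((e + 1 : ℕ) : A)) * aeval (altVal N x) Q)) * this

end Core

/-! ## The consequences -/

section Results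

variable {A : Type v} [CommRing A] [LambdaOps A]

/-- `λ^p(x ℓ)` is a multiple of `ℓ`. -/
theorem lamAlt_dvd_lam (hA : IsSpecial A) {e : ℕ} {N : A} (hN : ∀ i : ℕ, e + 1 < i → LambdaOps.lam i N = 0)
    {p : ℕ} (hp : 1 ≤ p) (x : A) :
    (∑ i ∈ range (e + 1 + 1), (-1 : A) ^ i * LambdaOps.lam i N) ∣
      LambdaOps.lam p (x * ∑ i ∈ range (e + 1 + 1), (-1 : A) ^ i * LambdaOps.lam i N) := by
  obtain ⟨M, hM⟩ : ∃ M, M = p * (1 + (e + 1)) := ⟨_, rfl⟩
  obtain ⟨z, hz, -, hzd⟩ := rel_prod_alt (M := M) (x := fun _ : Fin 1 => x) hA hN (fun _ => 1)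
    (fun _ => hM ▸ Nat.one_le_iff_ne_zero.mpr (by positivity))
  simp only [univ_unique, sum_singleton, prod_singleton, gamma_one] at hz
  have h := (isCoord_alt hA hN (fun _ : Fin 1 => x)).rel_lam isSpecial_line hA hz (n := p) (le_of_eq hM.symm)
  obtain ⟨b, hb, -⟩ := exists_lamAlt_mul (m := 0) hA h (by simp) (lam_mem_span_X _ hzd (by omega))
  exact ⟨b, hb⟩

variable {K : Type u} [CommRing K]

/-- The two facts at a product of `γ`'s. -/
theorem gamma_prod_mul_lamAlt (hA : IsSpecial A) (ε : A →+* K) {e : ℕ} {N : A}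
    (hN : ∀ i : ℕ, e + 1 < i → LambdaOps.lam i N = 0) (hNε : ε (N - ((e + 1 : ℕ) : A)) = 0)
    (l : List (ℕ × A)) (hl : ∀ p ∈ l, ε p.2 = 0) {i : ℕ} (hi : i ≤ (l.map Prod.fst).sum) :
    (∀ k, 1 ≤ k → LambdaRing.gamma k ((l.map fun p => LambdaRing.gamma p.1 p.2).prod *
        ∑ j ∈ range (e + 1 + 1), (-1 : A) ^ j * LambdaOps.lam j N) ∈
      Ideal.span {∑ j ∈ range (e + 1 + 1), (-1 : A) ^ j * LambdaOps.lam j N} *
        gammaFil ε (max k (i + (e + 1)) - (e + 1))) ∧
    LambdaRing.gamma (e + 1 + i) ((l.map fun p => LambdaRing.gamma p.1 p.2).prod *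
        ∑ j ∈ range (e + 1 + 1), (-1 : A) ^ j * LambdaOps.lam j N) -
      (-1 : A) ^ (e + i) * ((e + i).factorial : A) * ((l.map fun p => LambdaRing.gamma p.1 p.2).prod *
        ∑ j ∈ range (e + 1 + 1), (-1 : A) ^ j * LambdaOps.lam j N) ∈
      Ideal.span {∑ j ∈ range (e + 1 + 1), (-1 : A) ^ j * LambdaOps.lam j N} * gammaFil ε (i + 1) := by
  have hprod : (l.map fun p => LambdaRing.gamma p.1 p.2).prod =
      ∏ i : Fin l.length, LambdaRing.gamma (l[i.1]).1 (l[i.1]).2 := by
    rw [← List.prod_ofFn, List.ofFn_getElem_eq_map l (fun p : ℕ × A => LambdaRing.gamma p.1 p.2)]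
  have hsum : (l.map Prod.fst).sum = ∑ i : Fin l.length, (l[i.1]).1 := by
    rw [← List.sum_ofFn, List.ofFn_getElem_eq_map l (fun p : ℕ × A => p.1)]
  rw [hprod]
  rw [hsum] at hi
  have hα : ∀ M, ∀ v, altVal (M := M) N (fun i : Fin l.length => (l[i.1]).2) v ∈
      gammaFil ε (altWeight e l.length M v) := by
    intro M v
    rcases v with k | ⟨j, k⟩
    · exact gamma_mem_gammaFil hNε _
    · exact gamma_mem_gammaFil (hl _ (List.getElem_mem j.2)) _
  have hT := gammaFil_isMulFiltration ε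
  constructor
  · intro k hk
    obtain ⟨M, hM⟩ : ∃ M, M = k * ((∑ i : Fin l.length, (l[i.1]).1) + (e + 1)) := ⟨_, rfl⟩
    obtain ⟨z, hz, hzw, hzd⟩ := rel_prod_alt (M := M) (x := fun i : Fin l.length => (l[i.1]).2) hA hN
      (fun i => (l[i.1]).1) (fun i => by
        have h1 : (l[i.1]).1 ≤ ∑ i : Fin l.length, (l[i.1]).1 :=
          single_le_sum (f := fun i : Fin l.length => (l[i.1]).1) (fun j _ => Nat.zero_le _) (mem_univ i)
        exact (h1.trans (Nat.le_add_right _ _)).trans (hM ▸ Nat.le_mul_of_pos_left _ hk))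
    have h := (isCoord_alt hA hN _).rel_gamma isSpecial_line hA hz (n := k) (le_of_eq hM.symm)
    have hw : LambdaRing.gamma k z ∈ wIdeal _ ^ max k (i + (e + 1)) := by
      rcases max_choice k (i + (e + 1)) with hmax | hmax <;> rw [hmax]
      · exact gamma_mem_wIdeal_pow (Ideal.pow_le_self (by omega) hzw) k
      · exact gamma_mem_of_lam_mem
          (fun j hj => (lam_leading_line (by omega) (Ideal.pow_le_pow_right (by omega) hzw) j hj).1) (by omega)
    have hd : LambdaRing.gamma k z ∈ Ideal.span {X (Sum.inl (Fin.last e))} :=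
      gamma_mem_of_lam_mem (fun j hj => lam_mem_span_X _ hzd (by omega)) (by omega)
    obtain ⟨b, hb, hbT⟩ := exists_lamAlt_mul hA h hw hd
    exact Ideal.mem_span_singleton_mul.mpr ⟨b, hbT _ hT (hα M), hb.symm⟩
  · obtain ⟨M, hM⟩ : ∃ M, M = (e + 1 + i) * ((∑ i : Fin l.length, (l[i.1]).1) + (e + 1)) := ⟨_, rfl⟩
    have hpos : 0 < e + 1 + i := by omega
    obtain ⟨z, hz, hzw, hzd⟩ := rel_prod_alt (M := M) (x := fun i : Fin l.length => (l[i.1]).2) hA hN
      (fun i => (l[i.1]).1) (fun i => by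
        have h1 : (l[i.1]).1 ≤ ∑ i : Fin l.length, (l[i.1]).1 :=
          single_le_sum (f := fun i : Fin l.length => (l[i.1]).1) (fun j _ => Nat.zero_le _) (mem_univ i)
        exact (h1.trans (Nat.le_add_right _ _)).trans (hM ▸ Nat.le_mul_of_pos_left _ hpos))
    have h := (isCoord_alt hA hN _).rel_gamma isSpecial_line hA hz (n := e + 1 + i) (le_of_eq hM.symm)
    have hc := (Rel.intCast_mul ((-1 : ℤ) ^ (e + i) * ((e + i).factorial : ℤ)) hz).mono
      (Nat.le_mul_of_pos_left _ hpos)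
    have hrel := h.sub (by simpa using hc)
    have hw := gamma_leading_line (m := e + 1 + i) (by omega) (Ideal.pow_le_pow_right (by omega) hzw)
    rw [show e + 1 + i - 1 = e + i by omega] at hw
    obtain ⟨b, hb, hbT⟩ := exists_lamAlt_mul hA hrel hw
      (sub_mem (gamma_mem_of_lam_mem (fun j hj => lam_mem_span_X _ hzd (by omega)) (by omega))
        (Ideal.mul_mem_left _ _ hzd))
    refine Ideal.mem_span_singleton_mul.mpr ⟨b, ?_, hb.symm⟩
    have := hbT _ hT (hα M)
    rwa [show e + 1 + i + 1 - (e + 1) = i + 1 by omega] at this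

variable [LambdaOps K] [BinomialRing K] [Algebra K A]

/-- `γ^k(x ℓ) ∈ ℓ F^(k - d)`. -/
theorem gamma_mul_lamAlt_mem (hKb : IsBinomial K) (hA : IsSpecial A) (ε : A →ₐ[K] K) (hε : IsAugLambdaAlg K A ε)
    {e : ℕ} {N : A} (hN : ∀ i : ℕ, e + 1 < i → LambdaOps.lam i N = 0) (hNε : ε N = ((e + 1 : ℕ) : K)) (x : A)
    {k : ℕ} (hk : 1 ≤ k) :
    LambdaRing.gamma k (x * ∑ j ∈ range (e + 1 + 1), (-1 : A) ^ j * LambdaOps.lam j N) ∈
      Ideal.span {∑ j ∈ range (e + 1 + 1), (-1 : A) ^ j * LambdaOps.lam j N} *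
        gammaFil (ε : A →+* K) (k - (e + 1)) := by
  have hF := gammaFil_isMulFiltration (ε : A →+* K)
  have hN0 : (ε : A →+* K) (N - ((e + 1 : ℕ) : A)) = 0 := by
    rw [RingHom.coe_coe, map_sub, map_natCast, hNε, sub_self]
  have hℓmem : (∑ j ∈ range (e + 1 + 1), (-1 : A) ^ j * LambdaOps.lam j N) ∈ gammaFil (ε : A →+* K) (e + 1) := by
    rw [lamAlt_eq_gamma hA.lam_one_eq_zero]
    exact Ideal.mul_mem_left _ _ (gamma_mem_gammaFil hN0 _)
  generalize hℓ : (∑ j ∈ range (e + 1 + 1), (-1 : A) ^ j * LambdaOps.lam j N) = ℓ at hℓmem ⊢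
  let T : ℕ → Ideal A := fun j => if j = 0 then ⊤ else Ideal.span {ℓ} * gammaFil (ε : A →+* K) (j - (e + 1))
  have hT : IsMulFiltration T := by
    refine ⟨by simp [T], fun a b hab => ?_, fun {a b u v} hu hv => ?_⟩
    · simp only [T]
      split_ifs with h1 h2 h3
      · exact le_rfl
      · omega
      · exact le_top
      · exact Ideal.mul_mono_right (hF.anti (by omega))
    · simp only [T] at hu hv ⊢
      rcases eq_or_ne a 0 with rfl | ha
      · rw [zero_add]; exact Ideal.mul_mem_left _ _ hv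
      rcases eq_or_ne b 0 with rfl | hb
      · rw [add_zero]; exact Ideal.mul_mem_right _ _ hu
      rw [if_neg ha, Ideal.mem_span_singleton_mul] at hu
      rw [if_neg hb, Ideal.mem_span_singleton_mul] at hv
      rw [if_neg (by omega), Ideal.mem_span_singleton_mul]
      obtain ⟨p, hp, rfl⟩ := hu
      obtain ⟨q, hq, rfl⟩ := hv
      exact ⟨ℓ * (p * q), hF.anti (by omega) (hF.mul_mem hℓmem (hF.mul_mem hp hq)), by ring⟩
  have hgen : ∀ l : List (ℕ × A), (∀ p ∈ l, (ε : A →+* K) p.2 = 0) →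
      (l.map fun p => LambdaRing.gamma p.1 p.2).prod * ℓ ∈ hT.gammaSubgroup := by
    intro l hl
    rw [hT.mem_gammaSubgroup]
    intro j
    simp only [T]
    split_ifs with hj
    · trivial
    have h := (gamma_prod_mul_lamAlt hA (ε : A →+* K) hN hN0 l hl (i := 0) (Nat.zero_le _)).1 j (by omega)
    rw [hℓ] at h
    exact Ideal.mul_mono_right (hF.anti (by omega)) h
  have h0 := hgen [(1, x - algebraMap K A (ε x))] (by simp)
  have h1 := hgen [] (by simp)
  simp only [List.map_cons, List.map_nil, List.prod_cons, List.prod_nil, gamma_one, mul_one, one_mul] at h0 h1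
  have hx := AddSubgroup.add_mem _ h0 (hT.algebraMap_mul_mem hKb hA hε.isLambdaAlg (ε x) h1)
  rw [← add_mul, sub_add_cancel, hT.mem_gammaSubgroup] at hx
  have := hx k
  simp only [T, if_neg (show k ≠ 0 by omega)] at this
  exact this

/-- The leading term of `γ^(d+i)(x ℓ)`, `x ∈ F^i`. -/
theorem gamma_mul_lamAlt_leading (hKb : IsBinomial K) (hA : IsSpecial A) (ε : A →ₐ[K] K)
    (hε : IsAugLambdaAlg K A ε) {e : ℕ} {N : A} (hN : ∀ i : ℕ, e + 1 < i → LambdaOps.lam i N = 0)
    (hNε : ε N = ((e + 1 : ℕ) : K)) {i : ℕ} {x : A} (hx : x ∈ gammaFil (ε : A →+* K) i) :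
    LambdaRing.gamma (e + 1 + i) (x * ∑ j ∈ range (e + 1 + 1), (-1 : A) ^ j * LambdaOps.lam j N) -
      (-1 : A) ^ (e + i) * ((e + i).factorial : A) * (x * ∑ j ∈ range (e + 1 + 1), (-1 : A) ^ j * LambdaOps.lam j N) ∈
      Ideal.span {∑ j ∈ range (e + 1 + 1), (-1 : A) ^ j * LambdaOps.lam j N} *
        gammaFil (ε : A →+* K) (i + 1) := by
  have hF := gammaFil_isMulFiltration (ε : A →+* K)
  have hN0 : (ε : A →+* K) (N - ((e + 1 : ℕ) : A)) = 0 := by
    rw [RingHom.coe_coe, map_sub, map_natCast, hNε, sub_self]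
  have hℓmem : (∑ j ∈ range (e + 1 + 1), (-1 : A) ^ j * LambdaOps.lam j N) ∈ gammaFil (ε : A →+* K) (e + 1) := by
    rw [lamAlt_eq_gamma hA.lam_one_eq_zero]
    exact Ideal.mul_mem_left _ _ (gamma_mem_gammaFil hN0 _)
  have hcore := fun l hl (hi : i ≤ ((l : List (ℕ × A)).map Prod.fst).sum) =>
    gamma_prod_mul_lamAlt hA (ε : A →+* K) hN hN0 l hl hi
  generalize (∑ j ∈ range (e + 1 + 1), (-1 : A) ^ j * LambdaOps.lam j N) = ℓ at hℓmem hcore ⊢
  have hprod : ∀ {u v : A}, u ∈ Ideal.span {ℓ} * gammaFil (ε : A →+* K) i →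
      v ∈ Ideal.span {ℓ} * gammaFil (ε : A →+* K) i → u * v ∈ Ideal.span {ℓ} * gammaFil (ε : A →+* K) (i + 1) := by
    intro u v hu hv
    rw [Ideal.mem_span_singleton_mul] at hu hv ⊢
    obtain ⟨p, hp, rfl⟩ := hu
    obtain ⟨q, hq, rfl⟩ := hv
    exact ⟨ℓ * (p * q), hF.anti (by omega) (hF.mul_mem hℓmem (hF.mul_mem hp hq)), by ring⟩
  have hmain : (∀ k, 1 ≤ k → LambdaRing.gamma k (x * ℓ) ∈ Ideal.span {ℓ} * gammaFil (ε : A →+* K) i) ∧
      LambdaRing.gamma (e + 1 + i) (x * ℓ) - (-1 : A) ^ (e + i) * ((e + i).factorial : A) * (x * ℓ) ∈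
        Ideal.span {ℓ} * gammaFil (ε : A →+* K) (i + 1) := by
    have hx' := mem_span_gens ε hx
    clear hx
    induction hx' using Submodule.span_induction with
    | mem y hy =>
      obtain ⟨l, hl, hs, rfl⟩ := hy
      exact ⟨fun k hk => Ideal.mul_mono_right (hF.anti (by omega)) ((hcore l hl hs).1 k hk), (hcore l hl hs).2⟩
    | zero =>
      refine ⟨fun k hk => ?_, ?_⟩
      · rw [zero_mul, gamma_zero_right (by omega)]; exact zero_mem _
      · rw [zero_mul, gamma_zero_right (by omega)]; simp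
    | add a b _ _ iha ihb =>
      rw [add_mul]
      refine ⟨fun k hk => ?_, ?_⟩
      · rw [gamma_add]
        refine sum_mem fun j hj => ?_
        rcases eq_or_ne j 0 with rfl | hj0
        · rw [gamma_zero, one_mul]; exact ihb.1 _ (by omega)
        · exact Ideal.mul_mem_right _ _ (iha.1 j (by omega))
      · obtain ⟨p, hp⟩ : ∃ p, e + 1 + i = p + 1 := ⟨e + i, by omega⟩
        rw [hp] at iha ihb ⊢
        rw [gamma_add, sum_range_succ, sum_range_succ', Nat.sub_self, Nat.sub_zero, gamma_zero, gamma_zero, one_mul,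
          mul_one]
        have hrest : ∑ j ∈ range p, LambdaRing.gamma (j + 1) (a * ℓ) * LambdaRing.gamma (p + 1 - (j + 1)) (b * ℓ) ∈
            Ideal.span {ℓ} * gammaFil (ε : A →+* K) (i + 1) := by
          refine sum_mem fun j hj => ?_
          rw [mem_range] at hj
          exact hprod (iha.1 _ (by omega)) (ihb.1 _ (by omega))
        convert add_mem hrest (add_mem iha.2 ihb.2) using 1
        ring
    | smul c y _ ih =>
      have hg : ∀ r, PowerSeries.coeff r (gammaSeries (y * ℓ) - 1) ∈ Ideal.span {ℓ} * gammaFil (ε : A →+* K) i := by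
        intro r
        rcases r with _ | r
        · simp [constantCoeff_gammaSeries]
        · rw [map_sub, coeff_gammaSeries, PowerSeries.coeff_one, if_neg (Nat.succ_ne_zero r), sub_zero]
          exact ih.1 _ (by omega)
      rw [Algebra.smul_def, mul_assoc]
      refine ⟨fun k hk => ?_, ?_⟩
      · rw [gamma_algebraMap_mul hKb hA hε.isLambdaAlg]
        refine sum_mem fun j _ => ?_
        rcases j with _ | j
        · rw [pow_zero, PowerSeries.coeff_one, if_neg (by omega), mul_zero]; exact zero_mem _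
        · rw [pow_succ, PowerSeries.coeff_mul]
          exact Ideal.mul_mem_left _ _ (sum_mem fun q _ => Ideal.mul_mem_left _ _ (hg _))
      · obtain ⟨p, hp⟩ : ∃ p, e + 1 + i = p + 1 := ⟨e + i, by omega⟩
        rw [hp] at ih ⊢
        rw [gamma_algebraMap_mul hKb hA hε.isLambdaAlg, sum_range_succ', sum_range_succ']
        simp only [zero_add, pow_zero, pow_one, PowerSeries.coeff_one, Nat.succ_ne_zero, if_false, mul_zero,
          add_zero, LambdaOps.lam_one]
        rw [map_sub, coeff_gammaSeries, PowerSeries.coeff_one, if_neg (Nat.succ_ne_zero p), sub_zero]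
        have hrest : ∑ j ∈ range p, algebraMap K A (LambdaOps.lam (j + 1 + 1) c) *
            PowerSeries.coeff (p + 1) ((gammaSeries (y * ℓ) - 1) ^ (j + 1 + 1)) ∈
            Ideal.span {ℓ} * gammaFil (ε : A →+* K) (i + 1) := by
          refine sum_mem fun j _ => Ideal.mul_mem_left _ _ ?_
          rw [pow_succ, pow_succ, mul_assoc, PowerSeries.coeff_mul]
          refine sum_mem fun q _ => Ideal.mul_mem_left _ _ ?_
          rw [PowerSeries.coeff_mul]
          exact sum_mem fun q _ => hprod (hg _) (hg _)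
        convert add_mem hrest (Ideal.mul_mem_left _ (algebraMap K A c) ih.2) using 1
        ring
  exact hmain.2

end Results

end Groth.Agent.Lambda
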