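import Groth.Agent.Lambda.SymmEval
import Groth.Agent.Lambda.GammaFil

/-!
# A λ-ring with positive structure and splitting is special
-/

universe u

open MvPolynomial Finset LambdaRing

namespace Groth.Agent.Lambda

theorem ringHom_aeval_int {A B : Type*} [CommRing A] [CommRing B] {ι : Type*} (φ : A →+* B) (g : ι → A)
    (Q : MvPolynomial ι ℤ) : φ (aeval g Q) = aeval (fun i => φ (g i)) Q := by
  induction Q using MvPolynomial.induction_on with
  | C r => simp
  | add p q hp hq => simp [hp, hq]
  | mul_X p i hp => simp [hp]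

/-- The index set of all line elements. -/
abbrev LineIdx {L : Type u} [CommRing L] [LambdaOps L] (Q : PosStructure L) : Type u := {x : L // Q.IsLine x}

variable {K : Type u} [CommRing K] [LambdaOps K] {P : PosStructure K}

/-- `w_v ↦ v - 1`. -/
noncomputable def lineHom (Q : PosStructure K) : MvPolynomial (LineIdx Q) ℤ →ₐ[ℤ] K :=
  aeval fun v => (v : K) - 1

theorem lineHom_lineMon_isLine (c : LineIdx P →₀ ℕ) : P.IsLine (lineHom P (lineMon c)) := by
  rw [lineMon_eq, lineHom, map_finsuppProd, Finsupp.prod]
  induction c.support using Finset.cons_induction with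
  | empty => simpa using isLine_one P
  | cons a s ha ih =>
    rw [prod_cons]
    refine isLine_mul ?_ ih
    rw [map_pow, map_add, map_one, aeval_X, add_sub_cancel]
    exact isLine_pow a.2 _

/-- `lineHom` is a λ-homomorphism. -/
theorem lineHom_lam (i : ℕ) (p : MvPolynomial (LineIdx P) ℤ) :
    lineHom P (LambdaOps.lam i p) = LambdaOps.lam i (lineHom P p) := by
  suffices h : ∀ p, PowerSeries.map (lineHom P).toRingHom (lamSeries p) = lamSeries (lineHom P p) by
    have := congrArg (PowerSeries.coeff i) (h p)
    simpa [coeff_lamSeries] using this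
  let G : AddSubgroup (MvPolynomial (LineIdx P) ℤ) :=
    { carrier := {p | PowerSeries.map (lineHom P).toRingHom (lamSeries p) = lamSeries (lineHom P p)}
      zero_mem' := by simp
      add_mem' := fun {a b} ha hb => by
        simp only [Set.mem_ofPred_eq] at ha hb ⊢
        rw [lamSeries_add, map_mul, map_add, lamSeries_add, ha, hb]
      neg_mem' := fun {a} ha => by
        simp only [Set.mem_ofPred_eq] at ha ⊢
        have h := congrArg (PowerSeries.map (lineHom P).toRingHom) (lamSeries_neg_mul_self a)
        rw [map_mul, map_one, ha] at h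
        rw [map_neg]
        exact left_inv_eq_right_inv h ((mul_comm _ _).trans (lamSeries_neg_mul_self _)) }
  refine fun p => line_induction (S := G) (fun c => ?_) p
  show PowerSeries.map (lineHom P).toRingHom (lamSeries (lineMon c)) = lamSeries (lineHom P (lineMon c))
  rw [lamSeries_eq_lineSeries, lineSeries_lineMon, lamSeries_line (lineHom_lineMon_isLine c)]
  simp

theorem lineHom_surj_lines_sum {s : Multiset K} (hs : ∀ u ∈ s, P.IsLine u) :
    s.sum ∈ (lineHom P).range := by
  refine multiset_sum_mem _ fun u hu => ?_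
  exact ⟨1 + X ⟨u, hs u hu⟩, by simp [lineHom]⟩

/-- Finitely many elements come from `ℤ[w]` in some extension. -/
theorem exists_lift_list (hK : HasSplitting K P) (xs : List K) :
    ∃ (L : PosLambdaRing.{u}) (f : K →+* L.carrier), IsExtension P L.posStr f ∧
      ∀ x ∈ xs, ∃ p, lineHom L.posStr p = f x := by
  choose e g he hg hx using P.exists_sub
  obtain ⟨L, f, hf, -, h⟩ := exists_split_list hK (xs.map e ++ xs.map g) (by
    intro z hz
    rcases List.mem_append.mp hz with h | h <;> obtain ⟨a, -, rfl⟩ := List.mem_map.mp h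
    exacts [he a, hg a])
  refine ⟨L, f, hf, fun x hxs => ?_⟩
  obtain ⟨s, hs, hse⟩ := h (e x) (by simp; exact Or.inl ⟨x, hxs, rfl⟩)
  obtain ⟨t, ht, hte⟩ := h (g x) (by simp; exact Or.inr ⟨x, hxs, rfl⟩)
  obtain ⟨p, hp⟩ := lineHom_surj_lines_sum hs
  obtain ⟨q, hq⟩ := lineHom_surj_lines_sum ht
  refine ⟨p - q, ?_⟩
  rw [map_sub, hx x, map_sub, ← hse, ← hte]
  exact congrArg₂ (· - ·) hp hq

/-- Splitting implies special. -/
theorem isSpecial_of_hasSplitting (hK : HasSplitting K P) : IsSpecial K := by
  have hU := fun (L : PosLambdaRing.{u}) => isSpecial_line (σ := LineIdx L.posStr)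
  refine ⟨lam_one_eq_zero P, fun n Q hQ x y => ?_, fun i j Q hQ x => ?_⟩
  · obtain ⟨L, f, hf, h⟩ := exists_lift_list hK [x, y]
    obtain ⟨p, hp⟩ := h x (by simp)
    obtain ⟨q, hq⟩ := h y (by simp)
    apply hf.injective
    rw [hf.isLambdaHom, map_mul, ← hp, ← hq, ← map_mul, ← lineHom_lam, (hU L).lam_mul n Q hQ p q,
      show ∀ z, lineHom L.posStr z = (lineHom L.posStr).toRingHom z from fun _ => rfl, ringHom_aeval_int,
      ringHom_aeval_int]
    congr 2
    funext k
    rcases k with k | k
    · simp only [Sum.elim_inl, AlgHom.toRingHom_eq_coe, RingHom.coe_coe, lineHom_lam, hp]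
      exact (hf.isLambdaHom _ _).symm
    · simp only [Sum.elim_inr, AlgHom.toRingHom_eq_coe, RingHom.coe_coe, lineHom_lam, hq]
      exact (hf.isLambdaHom _ _).symm
  · obtain ⟨L, f, hf, h⟩ := exists_lift_list hK [x]
    obtain ⟨p, hp⟩ := h x (by simp)
    apply hf.injective
    rw [hf.isLambdaHom, hf.isLambdaHom, ← hp, ← lineHom_lam, ← lineHom_lam, (hU L).lam_lam i j Q hQ p,
      show ∀ z, lineHom L.posStr z = (lineHom L.posStr).toRingHom z from fun _ => rfl, ringHom_aeval_int,
      ringHom_aeval_int]
    congr 2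
    funext k
    simp only [AlgHom.toRingHom_eq_coe, RingHom.coe_coe, lineHom_lam, hp]
    exact (hf.isLambdaHom _ _).symm

/-- The binomial structure on `ℤ`. -/
noncomputable abbrev intLambdaOps : LambdaOps ℤ where
  lam n x := Ring.choose x n
  lam_zero x := Ring.choose_zero_right x
  lam_one x := Ring.choose_one_right x
  lam_add k x y := by
    rw [Ring.add_choose_eq k (Commute.all x y), Finset.Nat.sum_antidiagonal_eq_sum_range_succ_mk]

theorem aug_lam_eq_choose (hK : HasSplitting K P) (n : ℕ) (x : K) :
    P.aug (LambdaOps.lam n x) = Ring.choose (P.aug x) n := by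
  letI := intLambdaOps
  have hpos : ∀ e ∈ P.pos, ∀ n, P.aug (LambdaOps.lam n e) = LambdaOps.lam n (P.aug e) := fun e he n => by
    rw [aug_lam hK he]
    conv_rhs => rw [← aug_toNat he]
    exact (Ring.choose_natCast _ _).symm
  obtain ⟨e, g, he, hg, rfl⟩ := P.exists_sub x
  show P.aug (LambdaOps.lam n (e - g)) = LambdaOps.lam n (P.aug (e - g))
  induction n using Nat.strong_induction_on with
  | _ n ih =>
    have h1 := congrArg P.aug (LambdaOps.lam_add n (e - g) g)
    rw [sub_add_cancel, hpos e he, map_sum, sum_range_succ, Nat.sub_self, LambdaOps.lam_zero, mul_one] at h1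
    have h2 := LambdaOps.lam_add n (P.aug (e - g)) (P.aug g)
    rw [← map_add, sub_add_cancel, sum_range_succ, Nat.sub_self, LambdaOps.lam_zero, mul_one] at h2
    have hs : ∀ i ∈ range n, P.aug (LambdaOps.lam i (e - g) * LambdaOps.lam (n - i) g) =
        LambdaOps.lam i (P.aug (e - g)) * LambdaOps.lam (n - i) (P.aug g) := fun i hi => by
      rw [map_mul, hpos g hg, ih i (mem_range.mp hi)]
    rw [sum_congr rfl hs] at h1
    exact add_left_cancel (h1.symm.trans h2)

theorem isBinomial_int : letI := intLambdaOps; IsBinomial ℤ := fun _ _ => rfl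

theorem mem_gammaFil_iff (P : PosStructure K) {n : ℕ} {x : K} :
    x ∈ gammaFil P.aug n ↔ x ∈ gammaFiltration P n := by
  constructor
  · intro hx
    have hle : gammaFil P.aug n ≤ gammaIdeal P n := by
      rw [gammaFil_eq_span, Ideal.span_le]
      exact fun y hy => mem_of_mem_gens hy
    exact hle hx
  · intro hx
    rcases eq_or_ne n 0 with rfl | hn
    · rw [(gammaFil_isMulFiltration P.aug).zero]; trivial
    rw [gammaFiltration_of_ne_zero P hn] at hx
    induction hx using AddSubgroup.closure_induction with
    | mem y hy => exact Ideal.subset_span hy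
    | zero => exact zero_mem _
    | add a b _ _ ha hb => exact add_mem ha hb
    | neg a _ ha => exact neg_mem ha

/-- The augmentation as a map of `ℤ`-algebras. -/
noncomputable abbrev augAlgHom (P : PosStructure K) : K →ₐ[ℤ] ℤ := P.aug.toIntAlgHom

theorem isAugLambdaAlg_aug (hK : HasSplitting K P) :
    letI := intLambdaOps; IsAugLambdaAlg ℤ K (augAlgHom P) := by
  letI := intLambdaOps
  refine ⟨?_, fun n a => aug_lam_eq_choose hK n a⟩
  intro n c
  rw [algebraMap_int_eq, eq_intCast, eq_intCast]
  refine Eq.symm ?_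
  show LambdaOps.lam n (c : K) = ((Ring.choose c n : ℤ) : K)
  induction n using Nat.strong_induction_on generalizing c with
  | _ n ih =>
    induction c using Int.induction_on with
    | zero =>
      rcases eq_or_ne n 0 with rfl | hn
      · simp [LambdaOps.lam_zero]
      · rw [Int.cast_zero, lam_zero_right hn, Ring.choose_zero_pos ℤ (Nat.pos_of_ne_zero hn), Int.cast_zero]
    | succ i _ =>
      rw [show ((i : ℤ) + 1) = ((i + 1 : ℕ) : ℤ) by simp, Int.cast_natCast, lam_natCast (lam_one_eq_zero P),
        Ring.choose_natCast, Int.cast_natCast]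
    | pred i hi =>
      rcases n with _ | m
      · simp [LambdaOps.lam_zero]
      have h1 := LambdaOps.lam_add (m + 1) ((-(i : ℤ) - 1 : ℤ) : K) 1
      have h2 := LambdaOps.lam_add (m + 1) (-(i : ℤ) - 1) (1 : ℤ)
      rw [sum_range_succ, sum_range_succ, sum_eq_zero fun k hk => by
        rw [mem_range] at hk
        rw [lam_one_eq_zero P _ (by omega), mul_zero], Nat.sub_self, Nat.add_sub_cancel_left, LambdaOps.lam_zero,
        LambdaOps.lam_one, zero_add, mul_one, mul_one] at h1
      rw [sum_range_succ, sum_range_succ, sum_eq_zero fun k hk => by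
        rw [mem_range] at hk
        show _ * Ring.choose (1 : ℤ) (m + 1 - k) = 0
        rw [← Nat.cast_one (R := ℤ), Ring.choose_natCast, Nat.choose_eq_zero_of_lt (by omega), Nat.cast_zero, mul_zero],
        Nat.sub_self, Nat.add_sub_cancel_left, LambdaOps.lam_zero,
        LambdaOps.lam_one, zero_add, mul_one, mul_one] at h2
      rw [show ((-(i : ℤ) - 1 : ℤ) : K) + 1 = ((-(i : ℤ) : ℤ) : K) by push_cast; ring, hi,
        ih m (Nat.lt_succ_self m)] at h1
      rw [sub_add_cancel] at h2
      rw [eq_sub_of_add_eq' h1.symm]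
      rw [← Int.cast_sub]
      congr 1
      exact (eq_sub_of_add_eq' h2.symm).symm

end Groth.Agent.Lambda
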