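import Groth.Prelude.Def_KGr
import Groth.Agent.Lambda.Theta
import Groth.Agent.Lambda.LamAlt
import Mathlib.Algebra.Module.LocalizedModule.IsLocalization

/-!
# The associated graded ring of the γ-filtration and the Chern character
-/

universe u

open Finset LambdaRing
open scoped TensorProduct

namespace Groth.Agent.Lambda

variable {K : Type u} [CommRing K] [LambdaOps K] {P : PosStructure K}

theorem gammaIdeal_isMulFiltration (P : PosStructure K) : IsMulFiltration (gammaIdeal P) where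
  zero := by ext x; simp [gammaFiltration_zero]
  anti _ _ h := gammaFiltration_anti h
  mul_mem hx hy := mul_mem_add hx hy

/-! ## Classes -/

section Class

open LaurentPolynomial

theorem monomial_mem_rees {n : ℕ} {x : K} (hx : x ∈ gammaFiltration P n) :
    C x * T (-(n : ℤ)) ∈ KGr.rees P :=
  Subring.subset_closure (Set.mem_insert_of_mem _ ⟨n, x, hx, rfl⟩)

theorem grK_eq {n : ℕ} {x : K} (hx : x ∈ gammaFiltration P n) :
    KGr.grK P (n : ℤ) x = (1 : ℚ) ⊗ₜ[ℤ] Ideal.Quotient.mk _ ⟨C x * T (-(n : ℤ)), monomial_mem_rees hx⟩ := by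
  have h : ∃ N : ℕ, 1 ≤ N ∧ C ((N : K) * x) * T (-(n : ℤ)) ∈ KGr.rees P :=
    ⟨1, le_rfl, by simpa using monomial_mem_rees hx⟩
  rw [KGr.grK, dif_pos h]
  have heq : (⟨C (((h.choose : ℕ) : K) * x) * T (-(n : ℤ)), h.choose_spec.2⟩ : KGr.rees P) =
      (h.choose : ℤ) • ⟨C x * T (-(n : ℤ)), monomial_mem_rees hx⟩ := by
    ext1
    simp only [natCast_zsmul, map_mul, map_natCast, nsmul_eq_mul, mul_assoc]
    simp
  rw [heq, map_zsmul, ← TensorProduct.smul_tmul, zsmul_eq_mul, Int.cast_natCast,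
    mul_one_div_cancel (Nat.cast_ne_zero.mpr (Nat.one_le_iff_ne_zero.mp h.choose_spec.1))]

theorem grK_add {n : ℕ} {x y : K} (hx : x ∈ gammaFiltration P n) (hy : y ∈ gammaFiltration P n) :
    KGr.grK P (n : ℤ) (x + y) = KGr.grK P (n : ℤ) x + KGr.grK P (n : ℤ) y := by
  rw [grK_eq hx, grK_eq hy, grK_eq (add_mem hx hy), ← TensorProduct.tmul_add, ← map_add]
  congr 2
  ext1
  show C (x + y) * T _ = _ + _
  rw [map_add, add_mul]

theorem grK_zero (P : PosStructure K) (n : ℕ) : KGr.grK P (n : ℤ) 0 = 0 := by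
  have h := grK_add (P := P) (n := n) (zero_mem _) (zero_mem _)
  rw [add_zero] at h
  exact left_eq_add.mp h

theorem grK_neg {n : ℕ} {x : K} (hx : x ∈ gammaFiltration P n) :
    KGr.grK P (n : ℤ) (-x) = -KGr.grK P (n : ℤ) x := by
  refine eq_neg_of_add_eq_zero_left ?_
  rw [← grK_add (neg_mem hx) hx, neg_add_cancel, grK_zero]

theorem grK_sub {n : ℕ} {x y : K} (hx : x ∈ gammaFiltration P n) (hy : y ∈ gammaFiltration P n) :
    KGr.grK P (n : ℤ) (x - y) = KGr.grK P (n : ℤ) x - KGr.grK P (n : ℤ) y := by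
  rw [sub_eq_add_neg, grK_add hx (neg_mem hy), grK_neg hy, ← sub_eq_add_neg]

theorem grK_sum {ι : Type*} (s : Finset ι) {n : ℕ} {f : ι → K} (hf : ∀ i ∈ s, f i ∈ gammaFiltration P n) :
    KGr.grK P (n : ℤ) (∑ i ∈ s, f i) = ∑ i ∈ s, KGr.grK P (n : ℤ) (f i) := by
  classical
  induction s using Finset.induction_on with
  | empty => simp [grK_zero]
  | insert a s ha ih =>
    rw [sum_insert ha, sum_insert ha, grK_add (hf a (mem_insert_self a s))
      (sum_mem fun i hi => hf i (mem_insert_of_mem hi)), ih fun i hi => hf i (mem_insert_of_mem hi)]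

theorem grK_nsmul {n : ℕ} {x : K} (hx : x ∈ gammaFiltration P n) (c : ℕ) :
    KGr.grK P (n : ℤ) ((c : K) * x) = (c : KGr.Gr P) * KGr.grK P (n : ℤ) x := by
  induction c with
  | zero => simp [grK_zero]
  | succ c ih =>
    rw [Nat.cast_succ, add_mul, one_mul, grK_add (mul_mem_left _ hx) hx, ih, Nat.cast_succ, add_mul, one_mul]

theorem grK_mul {a b : ℕ} {x y : K} (hx : x ∈ gammaFiltration P a) (hy : y ∈ gammaFiltration P b) :
    KGr.grK P ((a + b : ℕ) : ℤ) (x * y) = KGr.grK P (a : ℤ) x * KGr.grK P (b : ℤ) y := by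
  rw [grK_eq hx, grK_eq hy, grK_eq (mul_mem_add hx hy), Algebra.TensorProduct.tmul_mul_tmul, one_mul, ← map_mul]
  congr 2
  ext1
  show C (x * y) * T _ = (C x * T _) * (C y * T _)
  rw [map_mul, mul_mul_mul_comm, ← T_add]
  congr 2
  push_cast
  ring

theorem grK_eq_zero {n : ℕ} {x : K} (hx : x ∈ gammaFiltration P (n + 1)) : KGr.grK P (n : ℤ) x = 0 := by
  rw [grK_eq (gammaFiltration_anti (Nat.le_succ n) hx)]
  rw [show (Ideal.Quotient.mk (Ideal.span {KGr.tGen P})
    ⟨C x * T (-(n : ℤ)), monomial_mem_rees (gammaFiltration_anti (Nat.le_succ n) hx)⟩) = 0 from ?_,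
    TensorProduct.tmul_zero]
  rw [Ideal.Quotient.eq_zero_iff_mem, Ideal.mem_span_singleton']
  refine ⟨⟨_, monomial_mem_rees hx⟩, ?_⟩
  ext1
  show C x * T _ * T 1 = C x * T _
  rw [mul_T_assoc]
  congr 2
  push_cast
  ring

theorem grK_one (P : PosStructure K) : KGr.grK P ((0 : ℕ) : ℤ) 1 = 1 := by
  rw [grK_eq (show (1 : K) ∈ gammaFiltration P 0 by rw [gammaFiltration_zero]; trivial),
    Algebra.TensorProduct.one_def]
  congr 1
  rw [show (⟨C (1 : K) * T (-((0 : ℕ) : ℤ)), monomial_mem_rees (show (1 : K) ∈ gammaFiltration P 0 by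
    rw [gammaFiltration_zero]; trivial)⟩ : KGr.rees P) = 1 from Subtype.ext (by simp), map_one]

theorem grK_intCast (P : PosStructure K) (c : ℤ) : KGr.grK P ((0 : ℕ) : ℤ) (c : K) = (c : KGr.Gr P) := by
  have h0 : ∀ x : K, x ∈ gammaFiltration P 0 := fun x => by rw [gammaFiltration_zero]; trivial
  induction c using Int.induction_on with
  | zero => simpa using grK_zero P 0
  | succ i hi => rw [Int.cast_add, Int.cast_one, grK_add (h0 _) (h0 _), hi, grK_one]; simp
  | pred i hi => rw [Int.cast_sub, Int.cast_one, grK_sub (h0 _) (h0 _), hi, grK_one]; simp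

/-- The Laurent polynomials with `k`-th coefficient in `F^(-k)`. -/
theorem coeff_mem_of_mem_rees {p : LaurentPolynomial K} (hp : p ∈ KGr.rees P) (k : ℤ) :
    p.coeff k ∈ gammaFiltration P (-k).toNat := by
  induction hp using Subring.closure_induction generalizing k with
  | mem q hq =>
    rcases hq with rfl | ⟨n, x, hx, rfl⟩
    · rw [T_apply]
      split_ifs with h
      · subst h; simp [gammaFiltration_zero]
      · exact zero_mem _
    · rw [← single_eq_C_mul_T, AddMonoidAlgebra.coeff_single, Finsupp.single_apply]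
      split_ifs with h
      · subst h; rwa [neg_neg, Int.toNat_natCast]
      · exact zero_mem _
  | zero => simp
  | one =>
    rw [← T_zero, T_apply]
    split_ifs with h
    · subst h; simp [gammaFiltration_zero]
    · exact zero_mem _
  | add p q _ _ hp hq =>
    rw [AddMonoidAlgebra.coeff_add, Finsupp.add_apply]
    exact add_mem (hp k) (hq k)
  | neg p _ hp =>
    rw [AddMonoidAlgebra.coeff_neg, Finsupp.neg_apply]
    exact neg_mem (hp k)
  | mul p q _ _ hp hq =>
    classical
    rw [AddMonoidAlgebra.coeff_mul]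
    simp only [Finsupp.sum]
    refine sum_mem fun a _ => sum_mem fun b _ => ?_
    split_ifs with h
    · exact gammaFiltration_anti (by omega) (mul_mem_add (hp a) (hq b))
    · exact zero_mem _

/-- The component of degree `n`. -/
noncomputable def component (P : PosStructure K) (n : ℕ) : KGr.GrZ P →+ K ⧸ gammaIdeal P (n + 1) :=
  QuotientAddGroup.lift (Ideal.span {KGr.tGen P}).toAddSubgroup
    (AddMonoidHom.mk' (fun p : KGr.rees P => Ideal.Quotient.mk _ ((p : LaurentPolynomial K).coeff (-(n : ℤ))))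
      (fun p q => by simp [AddMonoidAlgebra.coeff_add]))
    (by
      intro p hp
      obtain ⟨q, rfl⟩ := Ideal.mem_span_singleton'.mp hp
      rw [AddMonoidHom.mem_ker, AddMonoidHom.mk'_apply, Ideal.Quotient.eq_zero_iff_mem]
      show ((q : LaurentPolynomial K) * T 1).coeff (-(n : ℤ)) ∈ gammaFiltration P (n + 1)
      have h : ((q : LaurentPolynomial K) * T 1).coeff (-(n : ℤ)) = (q : LaurentPolynomial K).coeff (-((n + 1 : ℕ) : ℤ)) := by
        rw [T, AddMonoidAlgebra.coeff_mul_single_eq_coeff_mul (-((n + 1 : ℕ) : ℤ))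
          (fun m' _ => by push_cast; omega), mul_one]
      rw [h]
      simpa using coeff_mem_of_mem_rees q.2 (-((n + 1 : ℕ) : ℤ)))

theorem component_grK {n m : ℕ} {x : K} (hx : x ∈ gammaFiltration P m) :
    component P n (Ideal.Quotient.mk _ ⟨C x * T (-(m : ℤ)), monomial_mem_rees hx⟩) =
      if n = m then Ideal.Quotient.mk _ x else 0 := by
  show Ideal.Quotient.mk _ ((C x * T (-(m : ℤ))).coeff (-(n : ℤ))) = _
  rw [← single_eq_C_mul_T, AddMonoidAlgebra.coeff_single, Finsupp.single_apply]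
  rcases eq_or_ne n m with rfl | h
  · simp
  · rw [if_neg h, if_neg (by omega), map_zero]

theorem grZ_mem_span (P : PosStructure K) (z : KGr.GrZ P) :
    z ∈ AddSubgroup.closure {y | ∃ (n : ℕ) (x : K) (hx : x ∈ gammaFiltration P n),
      y = Ideal.Quotient.mk _ ⟨C x * T (-(n : ℤ)), monomial_mem_rees hx⟩} := by
  classical
  obtain ⟨p, rfl⟩ := Ideal.Quotient.mk_surjective z
  obtain ⟨p, hp⟩ := p
  have hsingle : ∀ k : ℤ, C (p.coeff k) * T k ∈ KGr.rees P := by
    intro k
    have hT : T 1 ∈ KGr.rees P := Subring.subset_closure (Set.mem_insert _ _)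
    rcases le_or_gt k 0 with hk | hk
    · have := monomial_mem_rees (coeff_mem_of_mem_rees hp k)
      rwa [Int.toNat_of_nonneg (by omega), neg_neg] at this
    · have h0 := monomial_mem_rees (P := P) (n := 0) (x := p.coeff k) (by rw [gammaFiltration_zero]; trivial)
      have := Subring.mul_mem _ h0 (Subring.pow_mem _ hT k.toNat)
      simpa [T_pow, Int.toNat_of_nonneg hk.le] using this
  have hsum : (⟨p, hp⟩ : KGr.rees P) = ∑ k ∈ p.coeff.support, (⟨_, hsingle k⟩ : KGr.rees P) := by
    ext1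
    rw [AddSubmonoidClass.coe_finsetSum]
    simp only [← single_eq_C_mul_T]
    exact (AddMonoidAlgebra.sum_coeff_single p).symm
  rw [hsum, map_sum]
  refine sum_mem fun k _ => ?_
  rcases le_or_gt k 0 with hk | hk
  · refine AddSubgroup.subset_closure ⟨(-k).toNat, p.coeff k, coeff_mem_of_mem_rees hp k, ?_⟩
    congr 1
    ext1
    show C (p.coeff k) * T k = C (p.coeff k) * T (-((-k).toNat : ℤ))
    rw [Int.toNat_of_nonneg (by omega), neg_neg]
  · rw [Ideal.Quotient.eq_zero_iff_mem.mpr]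
    · exact zero_mem _
    refine Ideal.mem_span_singleton'.mpr ⟨⟨C (p.coeff k) * T (k - 1), ?_⟩, ?_⟩
    · have hT : T 1 ∈ KGr.rees P := Subring.subset_closure (Set.mem_insert _ _)
      have h0 := monomial_mem_rees (P := P) (n := 0) (x := p.coeff k) (by rw [gammaFiltration_zero]; trivial)
      have := Subring.mul_mem _ h0 (Subring.pow_mem _ hT (k - 1).toNat)
      rw [T_pow, Int.toNat_of_nonneg (show 0 ≤ k - 1 by omega), mul_one] at this
      simpa using this
    · ext1
      show C (p.coeff k) * T (k - 1) * T 1 = C (p.coeff k) * T k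
      rw [mul_T_assoc, sub_add_cancel]

end Class

/-! ## Power sums of the γ-series -/

section Power

/-- The power sums `p_k` of `γ_t(x - ε x)`. -/
noncomputable def psG (P : PosStructure K) (x : K) (k : ℕ) : K :=
  psiS (gammaSeries (x - (P.aug x : K))) k

theorem psiS_succ_eq {A : Type*} [CommRing A] {f : PowerSeries A} (hf : PowerSeries.constantCoeff f = 1) (p : ℕ) :
    psiS f (p + 1) = (-1) ^ p * (((p + 1 : ℕ) : A) * PowerSeries.coeff (p + 1) f -
      ∑ i ∈ range p, (-1) ^ i * psiS f (i + 1) * PowerSeries.coeff (p - i) f) := by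
  rw [newton hf p, sum_range_succ, Nat.sub_self, PowerSeries.coeff_zero_eq_constantCoeff_apply, hf, mul_one,
    add_sub_cancel_left, ← mul_assoc, ← mul_pow]
  simp

theorem algHom_psiS {R A B : Type*} [CommRing R] [CommRing A] [CommRing B] [Algebra R A] [Algebra R B]
    (φ : A →ₐ[R] B) {N : ℕ} (a : Fin N → A) (k : ℕ) :
    φ (psiS (genSer a) k) = psiS (genSer fun i => φ (a i)) k := by
  have h := map_psiS φ.toRingHom (constantCoeff_genSer a) k
  rw [map_genSer] at h
  exact h

theorem psiS_mem_of_coeff_mem {A : Type*} [CommRing A] {T : ℕ → Ideal A} (hT : IsMulFiltration T)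
    {f : PowerSeries A} (hf : PowerSeries.constantCoeff f = 1) (h : f ∈ hT.series) (k : ℕ) : psiS f k ∈ T k := by
  induction k using Nat.strong_induction_on with
  | _ k ih =>
    rcases k with _ | p
    · simp [hT.zero]
    rw [psiS_succ_eq hf]
    refine Ideal.mul_mem_left _ _ (sub_mem (Ideal.mul_mem_left _ _ (h (p + 1))) (sum_mem fun i hi => ?_))
    rw [mem_range] at hi
    rw [mul_assoc]
    refine Ideal.mul_mem_left _ _ ?_
    simpa only [show i + 1 + (p - i) = p + 1 by omega] using hT.mul_mem (ih (i + 1) (by omega)) (h (p - i))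

theorem aug_sub_aug (P : PosStructure K) (x : K) : P.aug (x - (P.aug x : K)) = 0 := by
  rw [map_sub, map_intCast, Int.cast_id, sub_self]

theorem psG_mem (P : PosStructure K) (x : K) (k : ℕ) : psG P x k ∈ gammaFiltration P k :=
  psiS_mem_of_coeff_mem (gammaIdeal_isMulFiltration P) (constantCoeff_gammaSeries _)
    (fun r => by rw [coeff_gammaSeries]; exact gamma_mem (aug_sub_aug P x) r) k

theorem psG_add (P : PosStructure K) (x y : K) (k : ℕ) : psG P (x + y) k = psG P x k + psG P y k := by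
  rw [psG, psG, psG, map_add, Int.cast_add, add_sub_add_comm, gammaSeries_add,
    psiS_mul (constantCoeff_gammaSeries _) (constantCoeff_gammaSeries _)]

theorem psG_intCast (P : PosStructure K) (c : ℤ) (k : ℕ) : psG P (c : K) k = 0 := by
  rw [psG, map_intCast, Int.cast_id, sub_self, gammaSeries_zero, psiS_one]

theorem psG_of_aug_eq_zero {x : K} (hx : P.aug x = 0) (k : ℕ) : psG P x k = psiS (gammaSeries x) k := by
  rw [psG, hx, Int.cast_zero, sub_zero]

/-- The Chern series. -/
noncomputable def chernSeries (P : PosStructure K) (x : K) : PowerSeries (KGr.Gr P) :=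
  PowerSeries.mk fun i => KGr.chern P i x

theorem constantCoeff_chernSeries (P : PosStructure K) (x : K) :
    PowerSeries.constantCoeff (chernSeries P x) = 1 := by
  rw [← PowerSeries.coeff_zero_eq_constantCoeff_apply, chernSeries, PowerSeries.coeff_mk, KGr.chern, gamma_zero,
    grK_one]

/-- `psiS` commutes with the passage to classes. -/
theorem psiS_mk_classes {A B : Type*} [CommRing A] [CommRing B] {T : ℕ → Ideal A} (hT : IsMulFiltration T)
    (θ : ℕ → A → B) (h0 : θ 0 1 = 1)
    (hadd : ∀ n x y, x ∈ T n → y ∈ T n → θ n (x + y) = θ n x + θ n y)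
    (hmul : ∀ a b x y, x ∈ T a → y ∈ T b → θ (a + b) (x * y) = θ a x * θ b y)
    {f : PowerSeries A} (hf : PowerSeries.constantCoeff f = 1) (hfT : f ∈ hT.series) {k : ℕ} (hk : k ≠ 0) :
    psiS (PowerSeries.mk fun i => θ i (PowerSeries.coeff i f)) k = θ k (psiS f k) := by
  let L : (n : ℕ) → T n →+ B := fun n => AddMonoidHom.mk' (fun x => θ n x) fun x y => hadd n x y x.2 y.2
  have hg : PowerSeries.constantCoeff (PowerSeries.mk fun i => θ i (PowerSeries.coeff i f)) = 1 := by
    rw [← PowerSeries.coeff_zero_eq_constantCoeff_apply, PowerSeries.coeff_mk,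
      PowerSeries.coeff_zero_eq_constantCoeff_apply, hf, h0]
  induction k using Nat.strong_induction_on with
  | _ k ih =>
    obtain ⟨p, rfl⟩ : ∃ p, k = p + 1 := ⟨k - 1, by omega⟩
    have hterm : ∀ i ∈ range p, psiS f (i + 1) * PowerSeries.coeff (p - i) f ∈ T (p + 1) := fun i hi => by
      rw [mem_range] at hi
      simpa only [show i + 1 + (p - i) = p + 1 by omega] using
        hT.mul_mem (psiS_mem_of_coeff_mem hT hf hfT (i + 1)) (hfT (p - i))
    have hterm' : ∀ i ∈ range p, θ (p + 1) (psiS f (i + 1) * PowerSeries.coeff (p - i) f) =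
        θ (i + 1) (psiS f (i + 1)) * θ (p - i) (PowerSeries.coeff (p - i) f) := fun i hi => by
      rw [mem_range] at hi
      have := hmul _ _ _ _ (psiS_mem_of_coeff_mem hT hf hfT (i + 1)) (hfT (p - i))
      rwa [show i + 1 + (p - i) = p + 1 by omega] at this
    have hrw : psiS f (p + 1) = ((-1 : ℤ) ^ p) • (((p + 1) • PowerSeries.coeff (p + 1) f) -
        ∑ i ∈ range p, ((-1 : ℤ) ^ i) • (psiS f (i + 1) * PowerSeries.coeff (p - i) f)) := by
      rw [psiS_succ_eq hf]
      simp only [zsmul_eq_mul, nsmul_eq_mul, Int.cast_pow, Int.cast_neg, Int.cast_one, mul_assoc]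
    rw [psiS_succ_eq hg]
    have hval : θ (p + 1) (psiS f (p + 1)) = L (p + 1) (((-1 : ℤ) ^ p) • (((p + 1) • ⟨_, hfT (p + 1)⟩) -
        ∑ i ∈ (range p).attach, ((-1 : ℤ) ^ (i : ℕ)) • ⟨_, hterm i i.2⟩)) := by
      show _ = θ (p + 1) _
      congr 1
      rw [hrw, ← Finset.sum_attach (range p)]
      simp
    rw [hval, map_zsmul, map_sub, map_nsmul, map_sum]
    simp only [map_zsmul, L, AddMonoidHom.mk'_apply, zsmul_eq_mul, nsmul_eq_mul, PowerSeries.coeff_mk]
    rw [Finset.sum_attach (range p) (fun i => (((-1 : ℤ) ^ i : ℤ) : B) * θ (p + 1) (psiS f (i + 1) * PowerSeries.coeff (p - i) f))]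
    push_cast
    congr 2
    refine sum_congr rfl fun i hi => ?_
    rw [hterm' i hi, ih (i + 1) (by rw [mem_range] at hi; omega) (by omega)]
    ring

theorem psiS_chernSeries (P : PosStructure K) (x : K) {k : ℕ} (hk : k ≠ 0) :
    psiS (chernSeries P x) k = KGr.grK P (k : ℤ) (psG P x k) := by
  have h := psiS_mk_classes (gammaIdeal_isMulFiltration P) (fun n y => KGr.grK P (n : ℤ) y) (grK_one P)
    (fun n a b ha hb => grK_add ha hb) (fun a b u v hu hv => grK_mul hu hv)
    (constantCoeff_gammaSeries (x - (P.aug x : K)))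
    (fun r => by rw [coeff_gammaSeries]; exact gamma_mem (aug_sub_aug P x) r) hk
  simpa only [chernSeries, KGr.chern, coeff_gammaSeries, psG] using h

/-- `CH_d` through power sums. -/
theorem chPoly_eq (d : ℕ) :
    KGr.chPoly d = MvPolynomial.C (d : ℚ) + ∑ k ∈ range d, MvPolynomial.C (1 / ((k + 1).factorial : ℚ)) *
      psiS (genSer fun i : Fin d => (MvPolynomial.X i : MvPolynomial (Fin d) ℚ)) (k + 1) := by
  apply (MvPolynomial.esymmAlgEquiv (Fin d) ℚ (Fintype.card_fin d)).injective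
  rw [KGr.chPoly, AlgEquiv.apply_symm_apply]
  apply Subtype.ext
  show ∑ i : Fin d, Polynomial.aeval (MvPolynomial.X i) (KGr.expTrunc d) =
    ((MvPolynomial.esymmAlgHom (Fin d) ℚ d) _ : MvPolynomial (Fin d) ℚ)
  rw [MvPolynomial.esymmAlgHom_apply]
  simp only [map_add, map_sum, map_mul, MvPolynomial.aeval_C]
  have hps : ∀ k, (MvPolynomial.aeval fun i : Fin d => MvPolynomial.esymm (Fin d) ℚ ((i : ℕ) + 1))
      (psiS (genSer fun i : Fin d => (MvPolynomial.X i : MvPolynomial (Fin d) ℚ)) (k + 1)) =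
      ∑ i : Fin d, MvPolynomial.X i ^ (k + 1) := fun k => by
    rw [algHom_psiS,
      show (fun i : Fin d => MvPolynomial.aeval (fun i : Fin d => MvPolynomial.esymm (Fin d) ℚ ((i : ℕ) + 1))
        (MvPolynomial.X i : MvPolynomial (Fin d) ℚ)) = fun i : Fin d =>
        ((Finset.univ : Finset (Fin d)).val.map fun a => (MvPolynomial.X a : MvPolynomial (Fin d) ℚ)).esymm ((i : ℕ) + 1)
        from funext fun i => by simp [MvPolynomial.esymm_eq_multiset_esymm],
      genSer_esymm _ (by simp), psiS_mk_esymm _ (Nat.succ_ne_zero k), Multiset.map_map, Finset.sum_eq_multiset_sum]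
    rfl
  simp only [hps, mul_sum]
  rw [sum_comm]
  simp only [KGr.expTrunc, map_sum, map_mul, Polynomial.aeval_C, map_pow, Polynomial.aeval_X]
  simp only [sum_range_succ', sum_add_distrib, Nat.factorial_zero, Nat.cast_one, div_one, map_one, pow_zero, one_mul,
    sum_const, card_univ, Fintype.card_fin, nsmul_eq_mul, mul_one, map_natCast]
  ring

/-- The component of degree `k` of `ch`. -/
noncomputable def chC (P : PosStructure K) (x : K) : ℕ → KGr.Gr P
  | 0 => algebraMap ℚ (KGr.Gr P) (P.aug x : ℚ)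
  | k + 1 => algebraMap ℚ (KGr.Gr P) (1 / ((k + 1).factorial : ℚ)) *
      KGr.grK P ((k + 1 : ℕ) : ℤ) (psG P x (k + 1))

theorem aeval_chPoly {B : Type*} [CommRing B] [Algebra ℚ B] (d : ℕ) {f : PowerSeries B}
    (hf : PowerSeries.constantCoeff f = 1) :
    MvPolynomial.aeval (fun i : Fin d => PowerSeries.coeff ((i : ℕ) + 1) f) (KGr.chPoly d) =
      algebraMap ℚ B (d : ℚ) + ∑ k ∈ range d, algebraMap ℚ B (1 / ((k + 1).factorial : ℚ)) * psiS f (k + 1) := by
  rw [chPoly_eq, map_add, map_sum, MvPolynomial.aeval_C]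
  congr 1
  refine sum_congr rfl fun k hk => ?_
  rw [mem_range] at hk
  rw [map_mul, MvPolynomial.aeval_C, algHom_psiS,
    psiS_congr (constantCoeff_genSer _) hf (n := d) (fun m hm => ?_) (by omega)]
  simp only [genSer, PowerSeries.coeff_mk, MvPolynomial.aeval_X]
  split_ifs with h h'
  · rw [h, PowerSeries.coeff_zero_eq_constantCoeff_apply, hf]
  · simp [show m - 1 + 1 = m by omega]
  · omega

theorem chK_eq (P : PosStructure K) (d : ℕ) (x : K) :
    KGr.chK P d x = ∑ k ∈ range (d + 1), chC P x k := by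
  have h := aeval_chPoly (B := KGr.Gr P) d (f := chernSeries P x) (constantCoeff_chernSeries P x)
  simp only [chernSeries, PowerSeries.coeff_mk] at h
  rw [KGr.chK, h, sum_range_succ', map_sub]
  simp only [chC]
  rw [sum_congr rfl (g := fun k => algebraMap ℚ (KGr.Gr P) (1 / ((k + 1).factorial : ℚ)) *
    KGr.grK P ((k + 1 : ℕ) : ℤ) (psG P x (k + 1))) fun k _ => ?_]
  · ring
  · rw [show (PowerSeries.mk fun i => KGr.chern P i x) = chernSeries P x from rfl,
      psiS_chernSeries P x (Nat.succ_ne_zero k)]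

theorem chC_add (P : PosStructure K) (x y : K) (k : ℕ) : chC P (x + y) k = chC P x k + chC P y k := by
  rcases k with _ | k
  · simp only [chC]
    rw [map_add, Int.cast_add, map_add]
  · simp only [chC]
    rw [psG_add, grK_add (psG_mem P x _) (psG_mem P y _), mul_add]

theorem chK_add (P : PosStructure K) (d : ℕ) (x y : K) :
    KGr.chK P d (x + y) = KGr.chK P d x + KGr.chK P d y := by
  simp only [chK_eq, chC_add, sum_add_distrib]

theorem chK_intCast (P : PosStructure K) (d : ℕ) (c : ℤ) :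
    KGr.chK P d (c : K) = algebraMap ℚ (KGr.Gr P) (c : ℚ) := by
  rw [chK_eq, sum_eq_single 0]
  · simp [chC]
  · intro k _ hk
    obtain ⟨k, rfl⟩ : ∃ k', k = k' + 1 := ⟨k - 1, by omega⟩
    rw [chC, psG_intCast, grK_zero, mul_zero]
  · intro h; simp at h

end Power

/-! ## Multiplicativity -/

section Mul

open MvPolynomial

theorem rel_psiS {U : Type} {A : Type u} [CommRing U] [CommRing A] {ι : Type*} {wt : ι → ℕ} {ζ : ι → U} {α : ι → A}
    {c : ℕ} {f : PowerSeries U} {g : PowerSeries A} (hf : PowerSeries.constantCoeff f = 1)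
    (hg : PowerSeries.constantCoeff g = 1) {m : ℕ}
    (h : ∀ l ≤ m, Rel wt ζ α (l * c) (PowerSeries.coeff l f) (PowerSeries.coeff l g)) :
    ∀ k ≤ m, Rel wt ζ α (k * c) (psiS f k) (psiS g k) := by
  intro k
  induction k using Nat.strong_induction_on with
  | _ k ih =>
    intro hk
    rcases k with _ | p
    · simpa [psiS] using rel_zero 0
    rw [psiS_succ_eq hf, psiS_succ_eq hg]
    have hcast : ∀ i : ℕ, Rel wt ζ α 0 ((-1 : U) ^ i) ((-1 : A) ^ i) := fun i => by
      simpa using rel_intCast (wt := wt) (ζ := ζ) (α := α) ((-1 : ℤ) ^ i)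
    refine ((hcast p).mul ((((rel_natCast (p + 1)).mul (h (p + 1) hk)).mono (le_of_eq (zero_add _))).sub
      (rel_sum _ fun i hi => ?_))).mono (le_of_eq (zero_add _))
    rw [mem_range] at hi
    refine (((hcast i).mul (ih (i + 1) (by omega) (by omega))).mul (h (p - i) (by omega))).mono ?_
    rw [zero_add, ← add_mul, show i + 1 + (p - i) = p + 1 by omega]

theorem add_pow_sub_pow_mem {A : Type*} [CommRing A] {I : Ideal A} {p q : A} (hp : p ∈ I) (hq : q ∈ I ^ 2) (j : ℕ) :
    (p + q) ^ j - p ^ j ∈ I ^ (j + 1) := by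
  induction j with
  | zero => simp
  | succ j ih =>
    rw [show (p + q) ^ (j + 1) - p ^ (j + 1) = ((p + q) ^ j - p ^ j) * (p + q) + p ^ j * q by ring]
    refine add_mem ?_ ?_
    · rw [pow_succ]
      exact Ideal.mul_mem_mul ih (add_mem hp (Ideal.pow_le_self two_ne_zero hq))
    · rw [show j + 1 + 1 = j + 2 by omega, pow_add]
      exact Ideal.mul_mem_mul (Ideal.pow_mem_pow hp j) hq

theorem psiS_gammaSeries_mul_mem (hK : HasSplitting K P) {x y : K} (hx : P.aug x = 0) (hy : P.aug y = 0)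
    (p : ℕ) :
    psiS (gammaSeries (x * y)) (p + 1) - ∑ i ∈ range p, ((p + 1).choose (i + 1) : K) *
      (psiS (gammaSeries x) (i + 1) * psiS (gammaSeries y) (p - i)) ∈ gammaFiltration P (p + 1 + 1) := by
  have hsp := isSpecial_of_hasSplitting hK
  obtain ⟨N, hN⟩ : ∃ N, N = 2 * (p + 1) := ⟨_, rfl⟩
  have hc := isCoord_fam (N := N) ![x, y] hsp
  have hN1 : 1 ≤ N := by omega
  have hX : Rel (famWeight 2 N) (famVar 2 N) (famVal ![x, y]) 1 (famElt 2 N 0) x := rel_famElt ![x, y] hN1 0
  have hY : Rel (famWeight 2 N) (famVar 2 N) (famVal ![x, y]) 1 (famElt 2 N 1) y := rel_famElt ![x, y] hN1 1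
  have hps : ∀ {w : ℕ} {z : MvPolynomial (Fin 2 × Fin N) ℤ} {a : K}, w ≤ 2 →
      Rel (famWeight 2 N) (famVar 2 N) (famVal ![x, y]) w z a → ∀ k ≤ p + 1,
      Rel (famWeight 2 N) (famVar 2 N) (famVal ![x, y]) (k * w) (psiS (gammaSeries z) k) (psiS (gammaSeries a) k) := by
    intro w z a hw hr
    refine rel_psiS (constantCoeff_gammaSeries _) (constantCoeff_gammaSeries _) fun l hl => ?_
    rw [coeff_gammaSeries, coeff_gammaSeries]
    refine hc.rel_gamma isSpecial_line hsp hr ?_
    calc l * w ≤ (p + 1) * 2 := Nat.mul_le_mul hl hw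
      _ = N := by omega
  have hrel := (hps le_rfl (hX.mul hY) (p + 1) le_rfl).sub (rel_sum (range p) fun i hi =>
    (((rel_natCast ((p + 1).choose (i + 1))).mul ((hps one_le_two hX (i + 1) (by rw [mem_range] at hi; omega)).mul
      (hps one_le_two hY (p - i) (by omega)))).mono (by rw [mem_range] at hi; omega)))
  suffices hz : _ ∈ wIdeal (Fin 2 × Fin N) ^ (p + 1 + 1) by
    obtain ⟨Q, hQ, hQa⟩ := exists_poly_ge ![x, y] hrel hz
    rw [← hQa, ← mem_gammaIdeal]
    refine (gammaIdeal_isMulFiltration P).aeval_mem (fun v => ?_) Q hQ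
    rw [mem_gammaIdeal]
    obtain ⟨i, k⟩ := v
    refine gamma_mem ?_ _
    fin_cases i
    exacts [hx, hy]
  -- the congruence in `ℤ[w]`
  have hsub : ∀ {u : MvPolynomial (Fin 2 × Fin N) ℤ}, (∀ i, 2 ≤ i → LambdaOps.lam i u = 0) → ∀ k,
      psiS (gammaSeries (u - 1)) (k + 1) = (u - 1) ^ (k + 1) := fun hu k => by
    rw [gammaSeries_sub_one lam_one_line hu, psiS_one_add_C_mul_X _ _ (Nat.succ_ne_zero k)]
  obtain ⟨h, hh⟩ : ∃ h : ℕ → (MvPolynomial (Fin 2 × Fin N) ℤ →+ MvPolynomial (Fin 2 × Fin N) ℤ),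
      ∀ k z, h k z = psiS (gammaSeries z) k :=
    ⟨fun k => AddMonoidHom.mk' (fun z => psiS (gammaSeries z) k) fun a b => by
      rw [gammaSeries_add, psiS_mul (constantCoeff_gammaSeries _) (constantCoeff_gammaSeries _)], fun _ _ => rfl⟩
  have hfam : ∀ (r : Fin 2) k, psiS (gammaSeries (famElt 2 N r)) (k + 1) = ∑ a : Fin N, X (r, a) ^ (k + 1) := by
    intro r k
    rw [← hh, famElt, map_sum]
    refine sum_congr rfl fun a _ => ?_
    have := hsub (lam_one_add_X (r, a)) k
    rw [hh]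
    simpa using this
  have hcross : ∀ a b : Fin N, psiS (gammaSeries (X (0, a) * X (1, b) : MvPolynomial (Fin 2 × Fin N) ℤ)) (p + 1) =
      (X (0, a) + X (1, b) + X (0, a) * X (1, b)) ^ (p + 1) - X (0, a) ^ (p + 1) - X (1, b) ^ (p + 1) := by
    intro a b
    have huv : ∀ i, 2 ≤ i → LambdaOps.lam i (lineMon (Finsupp.single ((0 : Fin 2), a) 1 + Finsupp.single (1, b) 1)) = 0 :=
      lam_lineMon _
    have hm : lineMon (Finsupp.single ((0 : Fin 2), a) 1 + Finsupp.single (1, b) 1) =
        ((1 + X (0, a)) * (1 + X (1, b)) : MvPolynomial (Fin 2 × Fin N) ℤ) := by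
      rw [lineMon_eq, Finsupp.prod_add_index' (h := fun a k => (1 + X a : MvPolynomial (Fin 2 × Fin N) ℤ) ^ k)
        (fun i => pow_zero _) (fun i m n => pow_add _ m n)]
      simp
    have e1 := hsub huv p
    have e2 := hsub (lam_one_add_X ((0 : Fin 2), a)) p
    have e3 := hsub (lam_one_add_X ((1 : Fin 2), b)) p
    rw [hm] at e1
    rw [← hh, show (X (0, a) * X (1, b) : MvPolynomial (Fin 2 × Fin N) ℤ) =
      ((1 + X (0, a)) * (1 + X (1, b)) - 1) - (1 + X (0, a) - 1) - (1 + X (1, b) - 1) by ring, map_sub, map_sub]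
    rw [hh, hh, hh, e1, e2, e3]
    ring
  have hprod : psiS (gammaSeries (famElt 2 N 0 * famElt 2 N 1)) (p + 1) =
      ∑ a : Fin N, ∑ b : Fin N, ((X (0, a) + X (1, b) + X (0, a) * X (1, b)) ^ (p + 1) - X (0, a) ^ (p + 1) -
        X (1, b) ^ (p + 1) : MvPolynomial (Fin 2 × Fin N) ℤ) := by
    rw [← hh]
    simp only [famElt, sum_mul, mul_sum, map_sum]
    rw [sum_comm]
    exact sum_congr rfl fun a _ => sum_congr rfl fun b _ => (hh _ _).trans (hcross a b)
  have hsum : ∑ i ∈ range p, ((p + 1).choose (i + 1) : MvPolynomial (Fin 2 × Fin N) ℤ) *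
      (psiS (gammaSeries (famElt 2 N 0)) (i + 1) * psiS (gammaSeries (famElt 2 N 1)) (p - i)) =
      ∑ a : Fin N, ∑ b : Fin N, ((X (0, a) + X (1, b)) ^ (p + 1) - X (0, a) ^ (p + 1) - X (1, b) ^ (p + 1)) := by
    have hbin : ∀ u v : MvPolynomial (Fin 2 × Fin N) ℤ, (u + v) ^ (p + 1) - u ^ (p + 1) - v ^ (p + 1) =
        ∑ i ∈ range p, ((p + 1).choose (i + 1) : MvPolynomial (Fin 2 × Fin N) ℤ) * (u ^ (i + 1) * v ^ (p - i)) := by
      intro u v
      rw [add_pow, sum_range_succ, sum_range_succ']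
      simp only [Nat.sub_self, Nat.sub_zero, Nat.choose_self, Nat.choose_zero_right, pow_zero, Nat.cast_one, mul_one,
        one_mul, add_sub_cancel_right]
      refine sum_congr rfl fun i _ => ?_
      rw [show p + 1 - (i + 1) = p - i by omega]
      ring
    rw [sum_congr rfl fun a _ => sum_congr rfl fun b _ => hbin (X (0, a)) (X (1, b)),
      sum_congr rfl fun a _ => sum_comm, sum_comm]
    refine sum_congr rfl fun i hi => ?_
    rw [mem_range] at hi
    rw [hfam 0 i, show p - i = (p - i - 1) + 1 by omega, hfam 1 (p - i - 1), sum_mul_sum, mul_sum]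
    exact sum_congr rfl fun a _ => by rw [mul_sum]
  rw [hprod, hsum, ← sum_sub_distrib]
  refine sum_mem fun a _ => ?_
  rw [← sum_sub_distrib]
  refine sum_mem fun b _ => ?_
  have hI : ∀ v, (X v : MvPolynomial (Fin 2 × Fin N) ℤ) ∈ wIdeal (Fin 2 × Fin N) := fun v => Ideal.subset_span ⟨v, rfl⟩
  simp only [sub_sub_sub_cancel_right]
  exact add_pow_sub_pow_mem (add_mem (hI _) (hI _)) (by rw [sq]; exact Ideal.mul_mem_mul (hI _) (hI _)) _

theorem grK_natCast_mul (P : PosStructure K) {n : ℕ} {x : K} (hx : x ∈ gammaFiltration P n) (c : ℕ) :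
    KGr.grK P (n : ℤ) ((c : K) * x) = algebraMap ℚ (KGr.Gr P) (c : ℚ) * KGr.grK P (n : ℤ) x := by
  rw [grK_nsmul hx, map_natCast]

theorem chC_mul_of_aug_eq_zero (hK : HasSplitting K P) {x y : K} (hx : P.aug x = 0) (hy : P.aug y = 0) (j : ℕ) :
    chC P (x * y) j = ∑ i ∈ range (j + 1), chC P x i * chC P y (j - i) := by
  rcases j with _ | p
  · simp [chC, hx, hy]
  rw [sum_range_succ, sum_range_succ', show p + 1 - (p + 1) = 0 by omega]
  simp only [chC, hx, hy, Int.cast_zero, map_zero, zero_mul, mul_zero, add_zero]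
  have hxy : P.aug (x * y) = 0 := by rw [map_mul, hx, zero_mul]
  have hterm : ∀ i ∈ range p, ((p + 1).choose (i + 1) : K) *
      (psiS (gammaSeries x) (i + 1) * psiS (gammaSeries y) (p - i)) ∈ gammaFiltration P (p + 1) := fun i hi => by
    rw [mem_range] at hi
    refine mul_mem_left _ ?_
    simpa only [psG_of_aug_eq_zero hx, psG_of_aug_eq_zero hy, show i + 1 + (p - i) = p + 1 by omega] using
      mul_mem_add (psG_mem P x (i + 1)) (psG_mem P y (p - i))
  have h := grK_eq_zero (psiS_gammaSeries_mul_mem hK hx hy p)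
  rw [grK_sub (by simpa only [psG_of_aug_eq_zero hxy] using psG_mem P (x * y) (p + 1)) (sum_mem hterm),
    sub_eq_zero, grK_sum _ hterm] at h
  rw [psG_of_aug_eq_zero hxy, h, mul_sum]
  refine sum_congr rfl fun i hi => ?_
  rw [mem_range] at hi
  obtain ⟨c, rfl⟩ : ∃ c, p = i + (c + 1) := ⟨p - i - 1, by omega⟩
  rw [show i + (c + 1) + 1 - (i + 1) = c + 1 by omega, show i + (c + 1) - i = c + 1 by omega]
  simp only [chC]
  rw [show i + (c + 1) + 1 = (i + 1) + (c + 1) by omega]
  rw [show psiS (gammaSeries x) (i + 1) = psG P x (i + 1) from (psG_of_aug_eq_zero hx _).symm,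
    show psiS (gammaSeries y) (c + 1) = psG P y (c + 1) from (psG_of_aug_eq_zero hy _).symm,
    grK_natCast_mul P (mul_mem_add (psG_mem P x (i + 1)) (psG_mem P y (c + 1))),
    grK_mul (psG_mem P x (i + 1)) (psG_mem P y (c + 1)), ← mul_assoc, ← map_mul]
  have hq : (1 : ℚ) / ((i + 1 + (c + 1)).factorial : ℚ) * ((i + 1 + (c + 1)).choose (i + 1) : ℚ) =
      1 / ((i + 1).factorial : ℚ) * (1 / ((c + 1).factorial : ℚ)) := by
    rw [Nat.cast_choose ℚ (Nat.le_add_right _ _), Nat.add_sub_cancel_left]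
    field_simp
  rw [hq, map_mul]
  ring

theorem chC_eq_zero {d : ℕ} (hd : gammaFiltration P (d + 1) = ⊥) (x : K) {k : ℕ} (hk : d < k) :
    chC P x k = 0 := by
  obtain ⟨k, rfl⟩ : ∃ k', k = k' + 1 := ⟨k - 1, by omega⟩
  have h : psG P x (k + 1) = 0 := by
    have := gammaFiltration_anti hk (psG_mem P x (k + 1))
    rwa [hd, AddSubgroup.mem_bot] at this
  rw [chC, h, grK_zero, mul_zero]

theorem chC_mul_eq_zero {d : ℕ} (hd : gammaFiltration P (d + 1) = ⊥) (x y : K) {a b : ℕ} (h : d < a + b) :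
    chC P x a * chC P y b = 0 := by
  rcases a with _ | a
  · rw [chC_eq_zero hd y (show d < b by omega), mul_zero]
  rcases b with _ | b
  · rw [chC_eq_zero hd x (show d < a + 1 by omega), zero_mul]
  have hr : chC P x (a + 1) * chC P y (b + 1) =
      algebraMap ℚ (KGr.Gr P) (1 / ((a + 1).factorial : ℚ)) * algebraMap ℚ (KGr.Gr P) (1 / ((b + 1).factorial : ℚ)) *
        (KGr.grK P ((a + 1 : ℕ) : ℤ) (psG P x (a + 1)) * KGr.grK P ((b + 1 : ℕ) : ℤ) (psG P y (b + 1))) := by
    simp only [chC]; ring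
  rw [hr, ← grK_mul (psG_mem P x (a + 1)) (psG_mem P y (b + 1))]
  have h0 : psG P x (a + 1) * psG P y (b + 1) = 0 := by
    have := gammaFiltration_anti (show d + 1 ≤ a + 1 + (b + 1) by omega) (mul_mem_add (psG_mem P x (a + 1)) (psG_mem P y (b + 1)))
    rwa [hd, AddSubgroup.mem_bot] at this
  rw [h0, grK_zero, mul_zero]

theorem chK_mul_of_aug_eq_zero (hK : HasSplitting K P) {d : ℕ} (hd : gammaFiltration P (d + 1) = ⊥) {x y : K}
    (hx : P.aug x = 0) (hy : P.aug y = 0) : KGr.chK P d (x * y) = KGr.chK P d x * KGr.chK P d y := by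
  simp only [chK_eq, chC_mul_of_aug_eq_zero hK hx hy]
  rw [sum_range_diag_flip (d + 1) (fun a b => chC P x a * chC P y b), sum_mul_sum]
  refine sum_congr rfl fun a _ => sum_subset (by intro b; simp; omega) fun b hb hb' => ?_
  rw [mem_range] at hb hb'
  exact chC_mul_eq_zero hd x y (by omega)

/-- `ch` is multiplicative. -/
theorem chK_mul (hK : HasSplitting K P) {d : ℕ} (hd : gammaFiltration P (d + 1) = ⊥) (x y : K) :
    KGr.chK P d (x * y) = KGr.chK P d x * KGr.chK P d y := by
  have hint : ∀ (c : ℤ) (z : K), KGr.chK P d ((c : K) * z) = algebraMap ℚ (KGr.Gr P) (c : ℚ) * KGr.chK P d z := by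
    intro c z
    rw [← zsmul_eq_mul, show KGr.chK P d (c • z) = AddMonoidHom.mk' (KGr.chK P d) (chK_add P d) (c • z) from rfl,
      map_zsmul, zsmul_eq_mul, AddMonoidHom.mk'_apply, map_intCast]
  have key := chK_mul_of_aug_eq_zero hK hd (aug_sub_aug P x) (aug_sub_aug P y)
  generalize hx0 : x - (P.aug x : K) = x0 at key
  generalize hy0 : y - (P.aug y : K) = y0 at key
  generalize P.aug x = m at hx0
  generalize P.aug y = n at hy0
  obtain rfl : x = x0 + (m : K) := by rw [← hx0, sub_add_cancel]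
  obtain rfl : y = y0 + (n : K) := by rw [← hy0, sub_add_cancel]
  rw [show (x0 + (m : K)) * (y0 + (n : K)) = x0 * y0 + (m : K) * y0 + (n : K) * x0 + ((m * n : ℤ) : K) by push_cast; ring]
  simp only [chK_add, key, hint, chK_intCast]
  simp only [map_intCast, Int.cast_mul, map_mul]
  ring

theorem chK_one (P : PosStructure K) (d : ℕ) : KGr.chK P d 1 = 1 := by
  rw [← Int.cast_one (R := K), chK_intCast, Int.cast_one, map_one]

end Mul

end Groth.Agent.Lambda
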