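import Groth.Agent.Lambda.GrIso
import Groth.Agent.Lambda.Inv
import Mathlib.NumberTheory.Bernoulli
import Mathlib.RingTheory.PowerSeries.Exp

/-!
# The Todd class against `ch(λ_{-1})`
-/

universe u

open MvPolynomial Finset LambdaRing

namespace Groth.Agent.Lambda

/-! ## Truncated exponentials -/

section Trunc

variable {B : Type*} [CommRing B] [Algebra ℚ B]

/-- `exp_{≤ d}`. -/
noncomputable def expD (d : ℕ) (x : B) : B :=
  ∑ k ∈ range (d + 1), algebraMap ℚ B (1 / (k.factorial : ℚ)) * x ^ k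

theorem expD_eq (d : ℕ) (x : B) : Polynomial.aeval x (KGr.expTrunc d) = expD d x := by
  simp [KGr.expTrunc, expD, map_sum]

theorem expD_zero (d : ℕ) : expD d (0 : B) = 1 := by
  rw [expD, sum_eq_single 0] <;> simp +contextual

theorem expD_add_sub_mem {I : Ideal B} {x y : B} (hx : x ∈ I) (hy : y ∈ I) (d : ℕ) :
    expD d (x + y) - expD d x * expD d y ∈ I ^ (d + 1) := by
  have hbin : expD d (x + y) = ∑ j ∈ range (d + 1), ∑ i ∈ range (j + 1),
      (algebraMap ℚ B (1 / (i.factorial : ℚ)) * x ^ i) * (algebraMap ℚ B (1 / ((j - i).factorial : ℚ)) * y ^ (j - i)) := by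
    rw [expD]
    refine sum_congr rfl fun j _ => ?_
    rw [add_pow, mul_sum]
    refine sum_congr rfl fun i hi => ?_
    rw [mem_range] at hi
    rw [← map_natCast (algebraMap ℚ B) (j.choose i)]
    have hq : (1 : ℚ) / (j.factorial : ℚ) * (j.choose i : ℚ) =
        1 / (i.factorial : ℚ) * (1 / ((j - i).factorial : ℚ)) := by
      rw [Nat.cast_choose ℚ (Nat.lt_succ_iff.mp hi)]
      field_simp
    have := congrArg (algebraMap ℚ B) hq
    rw [map_mul, map_mul] at this
    linear_combination (x ^ i * y ^ (j - i)) * this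
  rw [hbin, sum_range_diag_flip (d + 1)
    (fun a b => (algebraMap ℚ B (1 / (a.factorial : ℚ)) * x ^ a) * (algebraMap ℚ B (1 / (b.factorial : ℚ)) * y ^ b)),
    expD, expD, sum_mul_sum, ← sum_sub_distrib]
  refine sum_mem fun a ha => ?_
  rw [mem_range] at ha
  rw [← sum_range_add_sum_Ico _ (show d + 1 - a ≤ d + 1 by omega), sub_add_cancel_left, neg_mem_iff]
  refine sum_mem fun b hb => ?_
  rw [mem_Ico] at hb
  rw [mul_mul_mul_comm]
  refine Ideal.mul_mem_left _ _ (Ideal.pow_le_pow_right (show d + 1 ≤ a + b by omega) ?_)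
  rw [pow_add]
  exact Ideal.mul_mem_mul (Ideal.pow_mem_pow hx a) (Ideal.pow_mem_pow hy b)

theorem expD_sum_sub_mem {I : Ideal B} {ι : Type*} (s : Finset ι) {x : ι → B} (hx : ∀ i, x i ∈ I) (d : ℕ) :
    expD d (∑ i ∈ s, x i) - ∏ i ∈ s, expD d (x i) ∈ I ^ (d + 1) := by
  classical
  induction s using Finset.induction_on with
  | empty => simp [expD_zero]
  | insert a s ha ih =>
    rw [sum_insert ha, prod_insert ha]
    have := add_mem (expD_add_sub_mem (hx a) (sum_mem (t := s) fun i _ => hx i) d) (Ideal.mul_mem_left _ (expD d (x a)) ih)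
    convert this using 1
    ring

theorem toddTrunc_mul_sub_dvd (d : ℕ) :
    (Polynomial.X : Polynomial ℚ) ^ (d + 1) ∣
      KGr.toddTrunc d * (KGr.expTrunc d - 1) - Polynomial.X * KGr.expTrunc d := by
  rw [Polynomial.X_pow_dvd_iff]
  intro n hn
  have hE : ∀ m ≤ d, PowerSeries.coeff m ((KGr.expTrunc d : Polynomial ℚ) : PowerSeries ℚ) =
      PowerSeries.coeff m (PowerSeries.exp ℚ) := fun m hm => by
    rw [Polynomial.coeff_coe, PowerSeries.coeff_exp, KGr.expTrunc, Polynomial.finsetSum_coeff, sum_eq_single m]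
    · simp
    · intro k _ hk; simp [Polynomial.coeff_X_pow, Ne.symm hk]
    · intro h; simp at h; omega
  have hB : ∀ m ≤ d, PowerSeries.coeff m ((KGr.toddTrunc d : Polynomial ℚ) : PowerSeries ℚ) =
      PowerSeries.coeff m (bernoulli'PowerSeries ℚ) := fun m hm => by
    rw [Polynomial.coeff_coe, bernoulli'PowerSeries, PowerSeries.coeff_mk, KGr.toddTrunc, Polynomial.finsetSum_coeff,
      sum_eq_single m]
    · simp
    · intro k _ hk; simp [Polynomial.coeff_X_pow, Ne.symm hk]
    · intro h; simp at h; omega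
  rw [← Polynomial.coeff_coe, Polynomial.coe_sub, Polynomial.coe_mul, Polynomial.coe_mul, Polynomial.coe_sub,
    Polynomial.coe_X, Polynomial.coe_one, map_sub, sub_eq_zero]
  have h := congrArg (PowerSeries.coeff n) (bernoulli'PowerSeries_mul_exp_sub_one (A := ℚ))
  rw [PowerSeries.coeff_mul, PowerSeries.coeff_mul] at h ⊢
  have e1 : ∀ p ∈ antidiagonal n,
      PowerSeries.coeff p.1 ((KGr.toddTrunc d : Polynomial ℚ) : PowerSeries ℚ) *
        PowerSeries.coeff p.2 (((KGr.expTrunc d : Polynomial ℚ) : PowerSeries ℚ) - 1) =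
      PowerSeries.coeff p.1 (bernoulli'PowerSeries ℚ) * PowerSeries.coeff p.2 (PowerSeries.exp ℚ - 1) := fun p hp => by
    rw [mem_antidiagonal] at hp
    rw [hB _ (by omega), map_sub, map_sub, hE _ (by omega)]
  have e2 : ∀ p ∈ antidiagonal n,
      PowerSeries.coeff p.1 (PowerSeries.X : PowerSeries ℚ) *
        PowerSeries.coeff p.2 ((KGr.expTrunc d : Polynomial ℚ) : PowerSeries ℚ) =
      PowerSeries.coeff p.1 (PowerSeries.X : PowerSeries ℚ) * PowerSeries.coeff p.2 (PowerSeries.exp ℚ) := fun p hp => by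
    rw [mem_antidiagonal] at hp
    rw [hE _ (by omega)]
  rw [sum_congr rfl e1, sum_congr rfl e2]
  exact h

theorem todd_mul_expD_sub_mem {I : Ideal B} {x : B} (hx : x ∈ I) (d : ℕ) :
    Polynomial.aeval x (KGr.toddTrunc d) * (expD d x - 1) - x * expD d x ∈ I ^ (d + 1) := by
  obtain ⟨c, hc⟩ := toddTrunc_mul_sub_dvd d
  have := congrArg (Polynomial.aeval x) hc
  rw [map_sub, map_mul, map_sub, map_one, map_mul, map_mul, map_pow, Polynomial.aeval_X, expD_eq] at this
  rw [this]
  exact Ideal.mul_mem_right _ _ (Ideal.pow_mem_pow hx _)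

end Trunc

/-! ## Classes of polynomials in `γ^k(e - ε e)` -/

section Theta

variable {K : Type u} [CommRing K] [LambdaOps K] {P : PosStructure K}

theorem gamma_mem_sub_aug (P : PosStructure K) (e : K) (i : ℕ) :
    LambdaRing.gamma i (e - (P.aug e : K)) ∈ gammaFiltration P i :=
  gamma_mem (aug_sub_aug P e) i

/-- `X_k ↦ c^{k+1}(e)`. -/
noncomputable def theta (P : PosStructure K) (e : K) (m : ℕ) : MvPolynomial (Fin m) ℚ →ₐ[ℚ] KGr.Gr P :=
  aeval fun k : Fin m => KGr.chern P ((k : ℕ) + 1) e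

theorem prod_pow_mem (P : PosStructure K) (e : K) {m : ℕ} (s : Fin m →₀ ℕ) :
    (s.prod fun k n => LambdaRing.gamma ((k : ℕ) + 1) (e - (P.aug e : K)) ^ n) ∈
      gammaFiltration P (Finsupp.weight (esymmWeight m) s) := by
  rw [Finsupp.weight_apply, Finsupp.sum, Finsupp.prod]
  refine prod_mem _ _ _ fun k _ => ?_
  simpa [esymmWeight] using pow_mem (gamma_mem_sub_aug P e ((k : ℕ) + 1)) (s k)

theorem grK_prod_pow (P : PosStructure K) (e : K) {m : ℕ} (s : Fin m →₀ ℕ) :
    KGr.grK P ((Finsupp.weight (esymmWeight m) s : ℕ) : ℤ)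
        (s.prod fun k n => LambdaRing.gamma ((k : ℕ) + 1) (e - (P.aug e : K)) ^ n) =
      s.prod fun k n => KGr.chern P ((k : ℕ) + 1) e ^ n := by
  classical
  rw [Finsupp.weight_apply, Finsupp.sum, Finsupp.prod, Finsupp.prod]
  have hpow : ∀ (k : Fin m) (b : ℕ), KGr.grK P ((b * ((k : ℕ) + 1) : ℕ) : ℤ)
      (LambdaRing.gamma ((k : ℕ) + 1) (e - (P.aug e : K)) ^ b) = KGr.chern P ((k : ℕ) + 1) e ^ b := by
    intro k b
    induction b with
    | zero => simpa using grK_one P
    | succ b ihb =>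
      rw [pow_succ, pow_succ, Nat.succ_mul,
        grK_mul (pow_mem (gamma_mem_sub_aug P e ((k : ℕ) + 1)) b) (gamma_mem_sub_aug P e _), ihb]
      rfl
  induction s.support using Finset.induction_on with
  | empty => simpa using grK_one P
  | insert a t ha ih =>
    rw [sum_insert ha, prod_insert ha, prod_insert ha, smul_eq_mul, esymmWeight,
      grK_mul (pow_mem (gamma_mem_sub_aug P e ((a : ℕ) + 1)) (s a))
        (prod_mem _ _ _ fun k _ => by simpa [esymmWeight] using pow_mem (gamma_mem_sub_aug P e ((k : ℕ) + 1)) (s k)),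
      hpow, ← ih]

theorem theta_monomial_eq_zero {d : ℕ} (hd : gammaFiltration P (d + 1) = ⊥) (e : K) {m : ℕ} (s : Fin m →₀ ℕ) (c : ℚ)
    (hs : d < Finsupp.weight (esymmWeight m) s) : theta P e m (monomial s c) = 0 := by
  have h0 : (s.prod fun k n => LambdaRing.gamma ((k : ℕ) + 1) (e - (P.aug e : K)) ^ n) = 0 := by
    have := gammaFiltration_anti (show d + 1 ≤ _ from hs) (prod_pow_mem P e s)
    rwa [hd, AddSubgroup.mem_bot] at this
  rw [theta, aeval_monomial, ← grK_prod_pow, h0, grK_zero, mul_zero]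

/-- `Θ` kills what is of order `> d` in the roots. -/
theorem theta_eq_zero {d : ℕ} (hd : gammaFiltration P (d + 1) = ⊥) (e : K) {m : ℕ} {Q : MvPolynomial (Fin m) ℚ}
    (hQ : esymmEval (Fin m) ℚ m Q ∈ idealOfVars (Fin m) ℚ ^ (d + 1)) : theta P e m Q = 0 := by
  classical
  rw [Q.as_sum, map_sum]
  refine sum_eq_zero fun s hs => ?_
  refine theta_monomial_eq_zero hd e s _ ?_
  by_contra! hle
  have h : weightedHomogeneousComponent (esymmWeight m) (Finsupp.weight (esymmWeight m) s) Q = 0 := by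
    refine esymmEval_injective (R := ℚ) (σ := Fin m) (by simp) ?_
    rw [map_zero, ← component_esymmEval]
    exact component_eq_zero_of_mem_pow hQ _ (Nat.lt_succ_of_le hle)
  have := congrArg (coeff s) h
  rw [coeff_weightedHomogeneousComponent, if_pos rfl, coeff_zero] at this
  exact mem_support_iff.mp hs this

theorem theta_congr {d : ℕ} (hd : gammaFiltration P (d + 1) = ⊥) (e : K) {m : ℕ} {Q Q' : MvPolynomial (Fin m) ℚ}
    (hQ : esymmEval (Fin m) ℚ m Q - esymmEval (Fin m) ℚ m Q' ∈ idealOfVars (Fin m) ℚ ^ (d + 1)) :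
    theta P e m Q = theta P e m Q' := by
  rw [← sub_eq_zero, ← map_sub]
  exact theta_eq_zero hd e (by rwa [map_sub])

theorem map_esymmEval {m : ℕ} (Q : MvPolynomial (Fin m) ℤ) :
    MvPolynomial.map (Int.castRingHom ℚ) (esymmEval (Fin m) ℤ m Q) =
      esymmEval (Fin m) ℚ m (MvPolynomial.map (Int.castRingHom ℚ) Q) := by
  induction Q using MvPolynomial.induction_on with
  | C r => simp [esymmEval]
  | add p q hp hq => simp only [map_add, hp, hq]
  | mul_X p i hp => simp only [map_mul, hp, map_X]; simp [esymmEval, map_esymm]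

/-- The class of a homogeneous polynomial in the `γ^k(e - ε e)`. -/
theorem grK_aeval (P : PosStructure K) (e : K) {m j : ℕ} {Q : MvPolynomial (Fin m) ℤ}
    (hQ : IsWeightedHomogeneous (esymmWeight m) Q j) :
    KGr.grK P (j : ℤ) (aeval (fun k : Fin m => LambdaRing.gamma ((k : ℕ) + 1) (e - (P.aug e : K))) Q) =
      theta P e m (MvPolynomial.map (Int.castRingHom ℚ) Q) := by
  classical
  have h0 : ∀ c : ℤ, (c : K) ∈ gammaFiltration P 0 := fun c => by rw [gammaFiltration_zero]; trivial
  rw [Q.as_sum, map_sum, map_sum, map_sum, grK_sum]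
  · refine sum_congr rfl fun s hs => ?_
    have hw := hQ (mem_support_iff.mp hs)
    subst hw
    rw [aeval_monomial, map_monomial, theta, aeval_monomial, algebraMap_int_eq, eq_intCast]
    have := grK_mul (h0 (coeff s Q)) (prod_pow_mem P e s)
    rw [zero_add, grK_intCast, grK_prod_pow] at this
    rw [this]
    simp
  · intro s hs
    have hw := hQ (mem_support_iff.mp hs)
    subst hw
    rw [aeval_monomial]
    exact mul_mem_left _ (prod_pow_mem P e s)

end Theta

/-! ## `ch γ^k(e - ε e)` -/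

section ChGamma

variable {K : Type u} [CommRing K] [LambdaOps K] {P : PosStructure K}

theorem prod_X_eq_alt_sum {R : Type*} [CommRing R] {r : ℕ} (E : Fin r → R) (S : Finset (Fin r)) :
    ∏ a ∈ S, (E a - 1) = ∑ T ∈ S.powerset, (-1) ^ (S \ T).card * ∏ a ∈ T, E a := by
  rw [prod_congr rfl fun a _ => sub_eq_add_neg (E a) 1, prod_add]
  refine sum_congr rfl fun T _ => ?_
  rw [prod_const, mul_comm]

theorem exists_chC_gamma (hK : HasSplitting K P) (e : K) {r : ℕ}
    (hr : P.aug e = r) (hlam : ∀ i, r < i → LambdaOps.lam i e = 0) {k : ℕ} (hk : k ≠ 0) (p : ℕ) :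
    ∃ Q : MvPolynomial (Fin r) ℚ,
      theta P e r Q = chC P (LambdaRing.gamma k (e - (P.aug e : K))) (p + 1) ∧
      esymmEval (Fin r) ℚ r Q = algebraMap ℚ _ (1 / ((p + 1).factorial : ℚ)) *
        ∑ S ∈ (univ : Finset (Fin r)).powersetCard k, ∑ T ∈ S.powerset,
          (-1) ^ (S \ T).card * (∑ a ∈ T, X a) ^ (p + 1) := by
  classical
  have hsp := isSpecial_of_hasSplitting hK
  have he0 : e - (P.aug e : K) = e - (r : K) := by rw [hr, Int.cast_natCast]
  let α : Fin r → K := fun i => LambdaRing.gamma ((i : ℕ) + 1) (e - (P.aug e : K))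
  let ζ : Fin r → MvPolynomial (Fin r) ℤ := fun i => esymm (Fin r) ℤ ((i : ℕ) + 1)
  have hgx : ∀ l, LambdaRing.gamma l (∑ a : Fin r, X a : MvPolynomial (Fin r) ℤ) = esymm (Fin r) ℤ l := fun l => by
    have h := gamma_sum_X (σ := Fin r) (id : Fin r → Fin r) l
    rwa [rename_id_apply] at h
  have hgam : ∀ l, Rel (esymmWeight r) ζ α l (LambdaRing.gamma l (∑ a : Fin r, X a : MvPolynomial (Fin r) ℤ))
      (LambdaRing.gamma l (e - (P.aug e : K))) := by
    intro l
    rcases l with _ | q
    · simpa [gamma_zero] using rel_one 0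
    rw [hgx]
    rcases lt_or_ge q r with hq | hq
    · exact rel_var (wt := esymmWeight r) (ζ := ζ) (α := α) (⟨q, hq⟩ : Fin r)
    · rw [he0, gamma_sub_natCast_eq_zero (lam_one_eq_zero P) hlam (by omega), esymm,
        powersetCard_eq_empty.mpr (by simp; omega), sum_empty]
      exact rel_zero _
  obtain ⟨N, hN⟩ : ∃ N, N = (p + 1) * k := ⟨_, rfl⟩
  have hc : IsCoord (esymmWeight r) ζ α N := fun v => by
    have h := lamRel_gamma (N := N) isSpecial_line hsp (fun l _ => hgam l) ((v : ℕ) + 1)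
    rw [hgx] at h
    exact h
  have hps := rel_psiS (wt := esymmWeight r) (ζ := ζ) (α := α) (c := k)
    (f := gammaSeries (LambdaRing.gamma k (∑ a : Fin r, X a : MvPolynomial (Fin r) ℤ)))
    (g := gammaSeries (LambdaRing.gamma k (e - (P.aug e : K))))
    (constantCoeff_gammaSeries _) (constantCoeff_gammaSeries _) (m := p + 1) (fun l hl => by
    rw [coeff_gammaSeries, coeff_gammaSeries]
    exact hc.rel_gamma isSpecial_line hsp (hgam k) (n := l) (hN ▸ Nat.mul_le_mul_right k hl)) (p + 1) le_rfl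
  have hz : LambdaRing.gamma k (∑ a : Fin r, X a : MvPolynomial (Fin r) ℤ) = esymm (Fin r) ℤ k := by
    rw [hgx]
  -- in `ℤ[w]`
  have hsub : ∀ {u : MvPolynomial (Fin r) ℤ}, (∀ i, 2 ≤ i → LambdaOps.lam i u = 0) →
      psiS (gammaSeries (u - 1)) (p + 1) = (u - 1) ^ (p + 1) := fun hu => by
    rw [gammaSeries_sub_one lam_one_line hu, psiS_one_add_C_mul_X _ _ (Nat.succ_ne_zero p)]
  obtain ⟨h, hh⟩ : ∃ h : MvPolynomial (Fin r) ℤ →+ MvPolynomial (Fin r) ℤ,
      ∀ z, h z = psiS (gammaSeries (dropConst (Fin r) z)) (p + 1) :=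
    ⟨AddMonoidHom.mk' (fun z => psiS (gammaSeries (dropConst (Fin r) z)) (p + 1)) fun a b => by
      rw [map_add, gammaSeries_add, psiS_mul (constantCoeff_gammaSeries _) (constantCoeff_gammaSeries _)],
      fun _ => rfl⟩
  have hI : ∀ a, (X a : MvPolynomial (Fin r) ℤ) ∈ wIdeal (Fin r) := fun a => Ideal.subset_span ⟨a, rfl⟩
  have hline : ∀ T : Finset (Fin r), h (∏ a ∈ T, (1 + X a)) = (∏ a ∈ T, (1 + X a : MvPolynomial (Fin r) ℤ) - 1) ^ (p + 1) := by
    intro T
    have hcc : constantCoeff (∏ a ∈ T, (1 + X a : MvPolynomial (Fin r) ℤ)) = 1 := by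
      rw [map_prod]; exact prod_eq_one fun a _ => by simp
    rw [hh, dropConst_apply, hcc, map_one]
    refine hsub ?_
    clear hcc
    have hm : lineMon (∑ a ∈ T, Finsupp.single a 1) = ∏ a ∈ T, (1 + X a : MvPolynomial (Fin r) ℤ) := by
      induction T using Finset.induction_on with
      | empty => simp [lineMon_zero]
      | insert a T ha ih =>
        rw [sum_insert ha, prod_insert ha, lineMon_eq, Finsupp.prod_add_index'
          (h := fun a k => (1 + X a : MvPolynomial (Fin r) ℤ) ^ k) (fun i => pow_zero _) (fun i m n => pow_add _ m n),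
          ← lineMon_eq, ← lineMon_eq, ih, lineMon_eq]
        simp
    exact hm ▸ lam_lineMon _
  have hmem : psiS (gammaSeries (LambdaRing.gamma k (∑ a : Fin r, X a : MvPolynomial (Fin r) ℤ))) (p + 1) -
      ∑ S ∈ (univ : Finset (Fin r)).powersetCard k, ∑ T ∈ S.powerset,
        (-1) ^ (S \ T).card * (∑ a ∈ T, X a) ^ (p + 1) ∈ wIdeal (Fin r) ^ (p + 1 + 1) := by
    have hcc : constantCoeff (esymm (Fin r) ℤ k) = 0 := by
      rw [esymm, map_sum]
      refine sum_eq_zero fun S hS => ?_
      obtain ⟨a, ha⟩ := Finset.card_pos.mp (show 0 < S.card by rw [(mem_powersetCard.mp hS).2]; omega)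
      rw [map_prod, prod_eq_zero ha (constantCoeff_X ℤ _)]
    have hexp : psiS (gammaSeries (LambdaRing.gamma k (∑ a : Fin r, X a : MvPolynomial (Fin r) ℤ))) (p + 1) =
        ∑ S ∈ (univ : Finset (Fin r)).powersetCard k, ∑ T ∈ S.powerset,
          (-1) ^ (S \ T).card * (∏ a ∈ T, (1 + X a : MvPolynomial (Fin r) ℤ) - 1) ^ (p + 1) := by
      have h1 : h (esymm (Fin r) ℤ k) = psiS (gammaSeries (LambdaRing.gamma k (∑ a : Fin r, X a : MvPolynomial (Fin r) ℤ))) (p + 1) := by
        rw [hh, dropConst_apply, hcc, map_zero, sub_zero, hz]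
      rw [← h1, esymm, map_sum]
      refine sum_congr rfl fun S _ => ?_
      have h2 := prod_X_eq_alt_sum (fun a => (1 + X a : MvPolynomial (Fin r) ℤ)) S
      simp only [add_sub_cancel_left] at h2
      rw [h2, map_sum]
      refine sum_congr rfl fun T _ => ?_
      rcases neg_one_pow_eq_or (MvPolynomial (Fin r) ℤ) (S \ T).card with hs | hs <;>
        simp only [hs, one_mul, neg_one_mul, map_neg, hline]
    rw [hexp, ← sum_sub_distrib]
    refine sum_mem fun S _ => ?_
    rw [← sum_sub_distrib]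
    refine sum_mem fun T hT => ?_
    rw [← mul_sub]
    refine Ideal.mul_mem_left _ _ ?_
    clear hT
    have hlin : (∏ a ∈ T, (1 + X a : MvPolynomial (Fin r) ℤ)) - 1 - ∑ a ∈ T, X a ∈ wIdeal (Fin r) ^ 2 := by
      induction T using Finset.induction_on with
      | empty => simp
      | insert a T ha ih =>
        rw [prod_insert ha, sum_insert ha,
          show (1 + X a) * ∏ a ∈ T, (1 + X a : MvPolynomial (Fin r) ℤ) - 1 - (X a + ∑ a ∈ T, X a) =
            (∏ a ∈ T, (1 + X a) - 1 - ∑ a ∈ T, X a) * (1 + X a) + X a * ∑ a ∈ T, X a by ring]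
        exact add_mem (Ideal.mul_mem_right _ _ ih) (by rw [sq]; exact Ideal.mul_mem_mul (hI a) (sum_mem fun b _ => hI b))
    have := add_pow_sub_pow_mem (sum_mem (t := T) fun a _ => hI a) hlin (p + 1)
    rwa [add_sub_cancel] at this
  obtain ⟨Q, -, hQz, hQa⟩ := hps
  have hsumhom : IsWeightedHomogeneous (fun _ : Fin r => 1) (∑ S ∈ (univ : Finset (Fin r)).powersetCard k,
      ∑ T ∈ S.powerset, (-1 : MvPolynomial (Fin r) ℤ) ^ (S \ T).card * (∑ a ∈ T, X a) ^ (p + 1)) (p + 1) := by
    refine IsWeightedHomogeneous.sum _ _ _ fun S _ => IsWeightedHomogeneous.sum _ _ _ fun T _ => ?_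
    have h1 : IsWeightedHomogeneous (fun _ : Fin r => 1) ((∑ a ∈ T, X a : MvPolynomial (Fin r) ℤ) ^ (p + 1)) (p + 1) := by
      have h0 := (IsWeightedHomogeneous.sum T (fun a => (X a : MvPolynomial (Fin r) ℤ)) 1
        (fun a _ => isWeightedHomogeneous_X ℤ (fun _ : Fin r => 1) a)).pow (p + 1)
      rwa [smul_eq_mul, mul_one] at h0
    have h2 := h1.C_mul ((-1 : ℤ) ^ (S \ T).card)
    simpa using h2
  have hcomp : weightedHomogeneousComponent (fun _ : Fin r => 1) (p + 1) (esymmEval (Fin r) ℤ r Q) =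
      ∑ S ∈ (univ : Finset (Fin r)).powersetCard k,
        ∑ T ∈ S.powerset, (-1 : MvPolynomial (Fin r) ℤ) ^ (S \ T).card * (∑ a ∈ T, X a) ^ (p + 1) := by
    have h0 := component_eq_zero_of_mem_pow hmem (p + 1) (Nat.lt_succ_self _)
    rw [map_sub, sub_eq_zero, hsumhom.weightedHomogeneousComponent_same] at h0
    exact (congrArg _ (show esymmEval (Fin r) ℤ r Q = _ from hQz)).trans h0
  rw [component_esymmEval] at hcomp
  refine ⟨C (1 / ((p + 1).factorial : ℚ)) *
    MvPolynomial.map (Int.castRingHom ℚ) (weightedHomogeneousComponent (esymmWeight r) (p + 1) Q), ?_, ?_⟩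
  · have hx : P.aug (LambdaRing.gamma k (e - (P.aug e : K))) = 0 := aug_gamma hK (aug_sub_aug P e) hk
    simp only [chC]
    rw [psG_of_aug_eq_zero hx, ← hQa, map_mul, ← grK_aeval P e (weightedHomogeneousComponent_isWeightedHomogeneous _ _),
      theta, aeval_C]
    congr 1
    have hlow : esymmEval (Fin r) ℤ r Q ∈ wIdeal (Fin r) ^ (p + 1) := by
      rw [show esymmEval (Fin r) ℤ r Q = _ from hQz]
      exact psiS_mem_of_coeff_mem (T := fun i => wIdeal (Fin r) ^ i)
        ⟨by simp, fun a b hab => Ideal.pow_le_pow_right hab, fun hx hy => by rw [pow_add]; exact Ideal.mul_mem_mul hx hy⟩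
        (constantCoeff_gammaSeries _) (fun l => by
          rw [coeff_gammaSeries]
          exact gamma_mem_wIdeal_pow (by
            rw [hz]
            refine mem_wIdeal_of_constantCoeff ?_
            rw [esymm, map_sum]
            refine sum_eq_zero fun S hS => ?_
            obtain ⟨a, ha⟩ := Finset.card_pos.mp (show 0 < S.card by rw [(mem_powersetCard.mp hS).2]; omega)
            rw [map_prod, prod_eq_zero ha (constantCoeff_X ℤ _)]) l) (p + 1)
    have hsupp : ∀ s ∈ Q.support, p + 1 ≤ Finsupp.weight (esymmWeight r) s := by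
      intro s hs
      by_contra! hlt
      have h0 : weightedHomogeneousComponent (esymmWeight r) (Finsupp.weight (esymmWeight r) s) Q = 0 := by
        refine esymmEval_injective (R := ℤ) (σ := Fin r) (by simp) ?_
        rw [map_zero, ← component_esymmEval]
        exact component_eq_zero_of_mem_pow (show esymmEval (Fin r) ℤ r Q ∈ _ from hlow) _ hlt
      have := congrArg (coeff s) h0
      rw [coeff_weightedHomogeneousComponent, if_pos rfl, coeff_zero] at this
      exact mem_support_iff.mp hs this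
    have hj : aeval α (weightedHomogeneousComponent (esymmWeight r) (p + 1) Q) ∈ gammaFiltration P (p + 1) := by
      refine aeval_gamma_mem (aug_sub_aug P e) _ fun s hs => le_of_eq ?_
      exact ((weightedHomogeneousComponent_isWeightedHomogeneous (w := esymmWeight r) (p + 1) Q)
        (mem_support_iff.mp hs)).symm
    have hdiff : aeval α (Q - weightedHomogeneousComponent (esymmWeight r) (p + 1) Q) ∈ gammaFiltration P (p + 1 + 1) := by
      refine aeval_gamma_mem (aug_sub_aug P e) _ fun s hs => ?_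
      rw [mem_support_iff, coeff_sub, coeff_weightedHomogeneousComponent] at hs
      split_ifs at hs with hw
      · exact absurd (sub_self _) hs
      · rw [sub_zero] at hs
        have := hsupp s (mem_support_iff.mpr hs)
        omega
    have hQmem : aeval α Q ∈ gammaFiltration P (p + 1) := aeval_gamma_mem (aug_sub_aug P e) _ hsupp
    have h0 := grK_eq_zero hdiff
    rw [map_sub, grK_sub hQmem hj, sub_eq_zero] at h0
    exact h0.symm
  · rw [map_mul, ← map_esymmEval, hcomp]
    congr 1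
    · simp [esymmEval]
    · simp [map_sum]

/-- `ch(γ^k(e - ε e))` is `e_k(exp(w) - 1)`. -/
theorem exists_chK_gamma (hK : HasSplitting K P) (e : K) {r : ℕ}
    (hr : P.aug e = r) (hlam : ∀ i, r < i → LambdaOps.lam i e = 0) (d k : ℕ) :
    ∃ Q : MvPolynomial (Fin r) ℚ,
      theta P e r Q = KGr.chK P d (LambdaRing.gamma k (e - (P.aug e : K))) ∧
      esymmEval (Fin r) ℚ r Q - ∑ S ∈ (univ : Finset (Fin r)).powersetCard k, ∏ a ∈ S, (expD d (X a) - 1) ∈
        idealOfVars (Fin r) ℚ ^ (d + 1) := by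
  classical
  rcases eq_or_ne k 0 with rfl | hk
  · refine ⟨1, by rw [map_one, gamma_zero, chK_one], ?_⟩
    simp
  choose Q hQ1 hQ2 using exists_chC_gamma hK e hr hlam hk
  refine ⟨∑ p ∈ range d, Q p, ?_, ?_⟩
  · rw [map_sum, chK_eq, sum_range_succ', sum_congr rfl fun p _ => hQ1 p]
    simp only [chC]
    rw [aug_gamma hK (aug_sub_aug P e) hk, Int.cast_zero, map_zero, add_zero]
  have hI : ∀ a, (X a : MvPolynomial (Fin r) ℚ) ∈ idealOfVars (Fin r) ℚ := fun a => Ideal.subset_span ⟨a, rfl⟩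
  have hval : esymmEval (Fin r) ℚ r (∑ p ∈ range d, Q p) =
      ∑ S ∈ (univ : Finset (Fin r)).powersetCard k, ∑ T ∈ S.powerset,
        (-1 : MvPolynomial (Fin r) ℚ) ^ (S \ T).card * expD d (∑ a ∈ T, X a) := by
    rw [map_sum, sum_congr rfl fun p _ => hQ2 p]
    simp only [expD, mul_sum]
    rw [sum_comm]
    refine sum_congr rfl fun S hS => ?_
    rw [sum_comm]
    simp only [sum_range_succ', sum_add_distrib]
    have hzero : ∑ T ∈ S.powerset, (-1 : MvPolynomial (Fin r) ℚ) ^ (S \ T).card *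
        (algebraMap ℚ (MvPolynomial (Fin r) ℚ) (1 / ((0 : ℕ).factorial : ℚ)) * (∑ a ∈ T, X a) ^ 0) = 0 := by
      have h := prod_X_eq_alt_sum (fun _ => (1 : MvPolynomial (Fin r) ℚ)) S
      obtain ⟨a, ha⟩ := Finset.card_pos.mp (show 0 < S.card by rw [(mem_powersetCard.mp hS).2]; omega)
      rw [prod_eq_zero ha (sub_self _)] at h
      simpa using h.symm
    rw [hzero, add_zero]
    exact sum_congr rfl fun T _ => sum_congr rfl fun p _ => by ring
  rw [hval, ← sum_sub_distrib]
  refine sum_mem fun S _ => ?_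
  rw [prod_X_eq_alt_sum, ← sum_sub_distrib]
  refine sum_mem fun T _ => ?_
  rw [← mul_sub]
  exact Ideal.mul_mem_left _ _ (expD_sum_sub_mem T hI d)

end ChGamma

/-! ## The Todd class -/

section Todd

variable {K : Type u} [CommRing K] [LambdaOps K] {P : PosStructure K}

theorem exists_tdK {d : ℕ} (hd : gammaFiltration P (d + 1) = ⊥) (e : K) {r : ℕ} (hr : P.aug e = r)
    (hlam : ∀ i, r < i → LambdaOps.lam i e = 0) :
    ∃ Q : MvPolynomial (Fin r) ℚ, theta P e r Q = KGr.tdK P d e ∧
      esymmEval (Fin r) ℚ r Q = ∏ a : Fin r, Polynomial.aeval (X a) (KGr.toddTrunc d) := by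
  classical
  obtain ⟨N, hN⟩ : ∃ N, N = r + d := ⟨_, rfl⟩
  obtain ⟨PN, hPN⟩ := exists_esymmEval_eq (R := ℚ) (σ := Fin N) (N := N) (by simp)
    (KGr.isSymmetric_prod_aeval N (KGr.toddTrunc d))
  have hβ : Polynomial.aeval (0 : MvPolynomial (Fin N) ℚ) (KGr.toddTrunc d) = 1 := by
    rw [KGr.toddTrunc, map_sum, sum_eq_single 0] <;> simp +contextual
  let kill : (m : ℕ) → MvPolynomial (Fin N) ℚ →ₐ[ℚ] MvPolynomial (Fin m) ℚ := fun m =>
    aeval fun a : Fin N => if h : (a : ℕ) < m then X ⟨a, h⟩ else 0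
  have hes : ∀ m, m ≤ N → ∀ l, kill m (esymm (Fin N) ℚ l) = esymm (Fin m) ℚ l := by
    intro m hm l
    rw [esymm_eq_multiset_esymm, esymm_eq_multiset_esymm, map_multiset_esymm, Multiset.map_map]
    refine esymm_map_of_zero _ Finset.univ (Fin.castLEEmb hm) _ _ (subset_univ _) (fun b _ => ?_) (fun a _ ha => ?_) l
    · simp [kill]
    · simp [kill, not_mem_map_castLE hm ha]
  have hcomm : ∀ m, m ≤ N → esymmEval (Fin m) ℚ m (kill m PN) = ∏ a : Fin m, Polynomial.aeval (X a) (KGr.toddTrunc d) := by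
    intro m hm
    have h1 : (esymmEval (Fin m) ℚ m).comp (kill m) = (kill m).comp (esymmEval (Fin N) ℚ N) := by
      refine MvPolynomial.algHom_ext fun a => ?_
      simp only [AlgHom.comp_apply, esymmEval, aeval_X, hes m hm]
      by_cases h : (a : ℕ) < m
      · simp [kill, h]
      · simp only [kill, aeval_X, dif_neg h, map_zero]
        rw [esymm, powersetCard_eq_empty.mpr (by simp; omega), sum_empty]
    have h2 := AlgHom.congr_fun h1 PN
    rw [AlgHom.comp_apply, AlgHom.comp_apply, hPN, map_prod] at h2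
    rw [h2, ← Finset.prod_subset (subset_univ ((univ : Finset (Fin m)).map (Fin.castLEEmb hm)))
      (fun a _ ha => by
        rw [← Polynomial.aeval_algHom_apply]
        simp only [kill, aeval_X, dif_neg (not_mem_map_castLE hm ha)]
        rw [KGr.toddTrunc, map_sum, sum_eq_single 0] <;> simp +contextual), prod_map]
    refine prod_congr rfl fun a _ => ?_
    rw [← Polynomial.aeval_algHom_apply]
    simp [kill]
  have hchern : ∀ i, min r d < i → KGr.chern P i e = 0 := by
    intro i hi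
    have h0 : LambdaRing.gamma i (e - (P.aug e : K)) = 0 := by
      rcases min_lt_iff.mp hi with h | h
      · rw [hr, Int.cast_natCast, gamma_sub_natCast_eq_zero (lam_one_eq_zero P) hlam h]
      · have := gammaFiltration_anti h (gamma_mem_sub_aug P e i)
        rwa [hd, AddSubgroup.mem_bot] at this
    rw [KGr.chern, h0, grK_zero]
  have htheta : ∀ m, min r d ≤ m → theta P e N PN = theta P e m (kill m PN) := by
    intro m hm
    rw [← AlgHom.comp_apply]
    congr 1
    refine MvPolynomial.algHom_ext fun a => ?_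
    simp only [AlgHom.comp_apply, theta, kill, aeval_X]
    split_ifs with h
    · simp
    · rw [map_zero, hchern _ (by omega)]
  refine ⟨kill r PN, ?_, hcomm r (by omega)⟩
  rw [← htheta r (min_le_left r d), htheta d (min_le_right r d), KGr.tdK]
  have : kill d PN = KGr.toddPoly d := by
    refine esymmEval_injective (R := ℚ) (σ := Fin d) (by simp) ?_
    rw [hcomm d (by omega)]
    have h := congrArg Subtype.val (AlgEquiv.apply_symm_apply (esymmAlgEquiv (Fin d) ℚ (Fintype.card_fin d))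
      ⟨∏ i : Fin d, Polynomial.aeval (X i) (KGr.toddTrunc d), KGr.isSymmetric_prod_aeval d (KGr.toddTrunc d)⟩)
    refine h.symm.trans ?_
    show ((esymmAlgHom (Fin d) ℚ d) _ : MvPolynomial (Fin d) ℚ) = _
    rw [esymmAlgHom_apply]
    rfl
  rw [this]
  rfl

theorem lam_top_eq_sum_gamma (hK : HasSplitting K P) {e : K} (he : e ∈ P.pos) :
    LambdaOps.lam (P.aug e).toNat e =
      ∑ i ∈ range ((P.aug e).toNat + 1), LambdaRing.gamma i (e - ((P.aug e).toNat : K)) := by
  have h := gamma_eq_lam_add_sub_one (lam_one_eq_zero P)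
  obtain ⟨L, f, hf, -, s, hs, hse, hcard⟩ := exists_split hK he
  obtain ⟨n, v, hn, hv⟩ := exists_enum s
  have hn' : (P.aug e).toNat = n := hcard ▸ hn
  have hvl : ∀ a, L.posStr.IsLine (v a) := fun a =>
    hs _ (by rw [← hv]; exact Multiset.mem_map_of_mem v (Finset.mem_univ_val a))
  apply hf.injective
  rw [map_sum, hf.isLambdaHom, ← hse, lam_lines_sum hs, hn']
  simp only [map_gamma hf.isLambdaHom, map_sub, map_natCast]
  rw [← hse]
  conv_rhs => enter [2, i]; rw [← hn, gamma_lines_sum_sub_card hs]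
  rw [← hv, Multiset.map_map, Finset.esymm_map_val]
  simp only [Finset.esymm_map_val]
  rw [sum_powersetCard_top]
  conv_lhs => rw [show (∏ a, v a) = ∏ a, ((v a - 1) + 1) by simp]
  rw [prod_add_one, Finset.sum_powerset, card_univ, Fintype.card_fin]
  rfl

theorem tdK_mul_chK_gamma_top (hK : HasSplitting K P) {d : ℕ} (hd : gammaFiltration P (d + 1) = ⊥)
    {e : K} (he : e ∈ P.pos) :
    KGr.tdK P d e * KGr.chK P d (LambdaRing.gamma (P.aug e).toNat (e - ((P.aug e).toNat : K))) =
      KGr.chern P (P.aug e).toNat e * KGr.chK P d (LambdaOps.lam (P.aug e).toNat e) := by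
  classical
  have htop := lam_top_eq_sum_gamma hK he
  generalize hrdef : (P.aug e).toNat = r at htop ⊢
  have hr : P.aug e = r := by rw [← hrdef, aug_toNat he]
  have hlam : ∀ i, r < i → LambdaOps.lam i e = 0 := fun i hi => lam_eq_zero_of_toNat_lt he (by omega)
  have hγ : ∀ i, LambdaRing.gamma i (e - (r : K)) = LambdaRing.gamma i (e - (P.aug e : K)) := fun i => by
    rw [hr, Int.cast_natCast]
  obtain ⟨T, hT, hTι⟩ := exists_tdK hd e hr hlam
  choose Q hQ hQι using exists_chK_gamma hK e hr hlam d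
  obtain ⟨E, hE, hEι⟩ : ∃ E : MvPolynomial (Fin r) ℚ, theta P e r E = KGr.chern P r e ∧
      esymmEval (Fin r) ℚ r E = ∏ a, X a := by
    rcases r with _ | q
    · refine ⟨1, ?_, by simp⟩
      rw [map_one, KGr.chern, gamma_zero, grK_one]
    · refine ⟨X (Fin.last q), by simp [theta], ?_⟩
      rw [esymmEval, aeval_X, esymm, Fin.val_last]
      exact sum_powersetCard_top (fun a : Fin (q + 1) => (X a : MvPolynomial (Fin (q + 1)) ℚ))
  have hch : KGr.chK P d (LambdaOps.lam r e) = theta P e r (∑ i ∈ range (r + 1), Q i) := by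
    rw [htop, map_sum, show KGr.chK P d (∑ i ∈ range (r + 1), LambdaRing.gamma i (e - (r : K))) =
      AddMonoidHom.mk' (KGr.chK P d) (chK_add P d) (∑ i ∈ range (r + 1), LambdaRing.gamma i (e - (r : K))) from rfl,
      map_sum]
    refine sum_congr rfl fun i _ => ?_
    rw [AddMonoidHom.mk'_apply, hQ, hγ]
  rw [hγ, hch, ← hT, ← hQ, ← hE, ← map_mul, ← map_mul]
  refine theta_congr hd e ?_
  rw [map_mul, map_mul, hTι, hEι, map_sum, ← Ideal.Quotient.eq, map_mul, map_mul, map_sum]
  have hI : ∀ a, (X a : MvPolynomial (Fin r) ℚ) ∈ idealOfVars (Fin r) ℚ := fun a => Ideal.subset_span ⟨a, rfl⟩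
  have hq : ∀ i, (Ideal.Quotient.mk (idealOfVars (Fin r) ℚ ^ (d + 1))) (esymmEval (Fin r) ℚ r (Q i)) =
      (Ideal.Quotient.mk (idealOfVars (Fin r) ℚ ^ (d + 1)))
        (∑ S ∈ (univ : Finset (Fin r)).powersetCard i, ∏ a ∈ S, (expD d (X a) - 1)) :=
    fun i => Ideal.Quotient.eq.mpr (hQι i)
  rw [hq, sum_congr rfl fun i _ => hq i, sum_powersetCard_top, ← map_sum]
  have hsum : ∑ i ∈ range (r + 1), ∑ S ∈ (univ : Finset (Fin r)).powersetCard i,
      ∏ a ∈ S, (expD d (X a : MvPolynomial (Fin r) ℚ) - 1) = ∏ a : Fin r, expD d (X a : MvPolynomial (Fin r) ℚ) := by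
    conv_rhs => rw [show (∏ a : Fin r, expD d (X a : MvPolynomial (Fin r) ℚ)) =
      ∏ a : Fin r, ((expD d (X a) - 1) + 1) by simp]
    rw [prod_add_one, Finset.sum_powerset, card_univ, Fintype.card_fin]
  rw [hsum, ← map_mul, ← map_mul, ← prod_mul_distrib, ← prod_mul_distrib, map_prod, map_prod]
  exact prod_congr rfl fun a _ => Ideal.Quotient.eq.mpr (todd_mul_expD_sub_mem (hI a) d)

end Todd

end Groth.Agent.Lambda
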