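import Groth.Agent.Lambda.SymmEval
import Mathlib.LinearAlgebra.Eigenspace.Basic
import Mathlib.RingTheory.TensorProduct.Maps
import Mathlib.Algebra.Polynomial.Derivative

/-!
# Eigenspace decomposition for the Adams operations on `ℚ ⊗ K`
-/

universe u

open Finset LambdaRing
open scoped TensorProduct

namespace Groth.Agent.Lambda

section Abstract

variable {k V : Type*} [Field k] [AddCommGroup V] [Module k V] {Ψ : Module.End k V}
  {F : ℕ → Submodule k V} {c : ℕ → k} {d : ℕ}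

theorem eigen_mem_succ (hΨ : ∀ n, ∀ v ∈ F n, Ψ v - c n • v ∈ F (n + 1))
    (hc : Function.Injective c) {m n : ℕ} (hne : n ≠ m) {v : V}
    (hv : v ∈ Ψ.eigenspace (c m)) (hvn : v ∈ F n) : v ∈ F (n + 1) := by
  have h := hΨ n v hvn
  rw [Module.End.mem_eigenspace_iff.mp hv, ← sub_smul] at h
  exact ((F (n + 1)).smul_mem_iff (sub_ne_zero.mpr fun h' => hne (hc h').symm)).mp h

theorem eigenspace_le (h0 : F 0 = ⊤) (hΨ : ∀ n, ∀ v ∈ F n, Ψ v - c n • v ∈ F (n + 1))
    (hc : Function.Injective c) (m : ℕ) : Ψ.eigenspace (c m) ≤ F m := by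
  intro v hv
  suffices ∀ n ≤ m, v ∈ F n from this m le_rfl
  intro n
  induction n with
  | zero => simp [h0]
  | succ n ih => exact fun hn => eigen_mem_succ hΨ hc (m := m) (n := n) (by omega) hv (ih (by omega))

theorem eigenspace_inf_eq_bot (hanti : Antitone F) (hbot : F (d + 1) = ⊥)
    (hΨ : ∀ n, ∀ v ∈ F n, Ψ v - c n • v ∈ F (n + 1)) (hc : Function.Injective c) (m : ℕ) :
    Ψ.eigenspace (c m) ⊓ F (m + 1) = ⊥ := by
  rw [eq_bot_iff]
  rintro v ⟨hv, hvm⟩
  have : ∀ k, v ∈ F (m + 1 + k) := fun k => by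
    induction k with
    | zero => exact hvm
    | succ k ih => exact eigen_mem_succ hΨ hc (show m + 1 + k ≠ m by omega) hv ih
  exact hbot ▸ hanti (show d + 1 ≤ m + 1 + d by omega) (this d)

theorem le_iSup_eigenspace (hanti : Antitone F) (hbot : F (d + 1) = ⊥)
    (hΨ : ∀ n, ∀ v ∈ F n, Ψ v - c n • v ∈ F (n + 1)) (hc : Function.Injective c) (m : ℕ) :
    F m ≤ ⨆ n ∈ Set.Icc m d, Ψ.eigenspace (c n) := by
  by_cases hm : d < m
  · exact (hbot ▸ hanti hm).trans bot_le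
  · induction hk : d - m generalizing m with
    | zero =>
      obtain rfl : m = d := by omega
      refine le_trans ?_ (le_iSup₂_of_le m (Set.mem_Icc.mpr ⟨le_rfl, le_rfl⟩) le_rfl)
      intro v hv
      have := hΨ m v hv
      rw [hbot, Submodule.mem_bot, sub_eq_zero] at this
      exact Module.End.mem_eigenspace_iff.mpr this
    | succ p ih =>
      intro v hv
      set S : Submodule k V := ⨆ n ∈ Set.Icc (m + 1) d, Ψ.eigenspace (c n)
      have hS : S ≤ S.map (Ψ - c m • 1) := by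
        refine iSup₂_le fun n hn w hw => ?_
        refine ⟨(c n - c m)⁻¹ • w, Submodule.smul_mem _ _
          (Submodule.mem_iSup_of_mem n (Submodule.mem_iSup_of_mem hn hw)), ?_⟩
        have hne : c n - c m ≠ 0 := sub_ne_zero.mpr fun h => absurd (hc h) (by have := hn.1; omega)
        rw [map_smul, LinearMap.sub_apply, LinearMap.smul_apply, Module.End.one_apply,
          Module.End.mem_eigenspace_iff.mp hw, ← sub_smul, inv_smul_smul₀ hne]
      obtain ⟨w, hw, hweq⟩ := hS (ih (m + 1) (by omega) (by omega) (hΨ m v hv))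
      rw [show v = (v - w) + w by abel]
      refine add_mem (Submodule.mem_iSup_of_mem m (Submodule.mem_iSup_of_mem ⟨le_rfl, by omega⟩ ?_)) ?_
      · rw [LinearMap.sub_apply, LinearMap.smul_apply, Module.End.one_apply] at hweq
        rw [Module.End.mem_eigenspace_iff, map_sub, smul_sub]
        linear_combination (norm := abel) -hweq
      · exact (show S ≤ ⨆ n ∈ Set.Icc m d, Ψ.eigenspace (c n) from
          iSup₂_le fun n hn => le_iSup₂_of_le n ⟨by have := hn.1; omega, hn.2⟩ le_rfl) hw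

theorem eigenspace_sup_eq (hanti : Antitone F) (h0 : F 0 = ⊤) (hbot : F (d + 1) = ⊥)
    (hΨ : ∀ n, ∀ v ∈ F n, Ψ v - c n • v ∈ F (n + 1)) (hc : Function.Injective c) (m : ℕ) :
    Ψ.eigenspace (c m) ⊔ F (m + 1) = F m := by
  refine le_antisymm (sup_le (eigenspace_le h0 hΨ hc m) (hanti (Nat.le_succ m))) ?_
  refine (le_iSup_eigenspace hanti hbot hΨ hc m).trans (iSup₂_le fun n hn => ?_)
  rcases eq_or_lt_of_le hn.1 with h | h
  · subst h; exact le_sup_left
  · exact le_sup_of_le_right ((eigenspace_le h0 hΨ hc n).trans (hanti h))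

theorem iSup_eigenspace_eq_top (hanti : Antitone F) (h0 : F 0 = ⊤) (hbot : F (d + 1) = ⊥)
    (hΨ : ∀ n, ∀ v ∈ F n, Ψ v - c n • v ∈ F (n + 1)) (hc : Function.Injective c) :
    (⨆ m ∈ range (d + 1), Ψ.eigenspace (c m)) = ⊤ := by
  rw [eq_top_iff, ← h0]
  exact (le_iSup_eigenspace hanti hbot hΨ hc 0).trans
    (iSup₂_le fun n hn => le_iSup₂_of_le n (mem_range.mpr (by have := hn.2; omega)) le_rfl)

end Abstract

variable {K : Type u} [CommRing K] [LambdaOps K] {P : PosStructure K}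

/-- `ℚ F^n`. -/
def ratFiltration (P : PosStructure K) (n : ℕ) : Submodule ℚ (ℚ ⊗[ℤ] K) :=
  Submodule.span ℚ ((fun x : K => (1 : ℚ) ⊗ₜ[ℤ] x) '' (gammaFiltration P n : Set K))

theorem ratFiltration_antitone (P : PosStructure K) : Antitone (ratFiltration P) := fun _ _ h =>
  Submodule.span_mono (Set.image_mono (gammaFiltration_anti h))

theorem ratFiltration_zero (P : PosStructure K) : ratFiltration P 0 = ⊤ := by
  rw [ratFiltration, gammaFiltration_zero, eq_top_iff]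
  rintro z -
  induction z using TensorProduct.induction_on with
  | zero => exact zero_mem _
  | tmul q x =>
    rw [show q ⊗ₜ[ℤ] x = q • ((1 : ℚ) ⊗ₜ[ℤ] x) by rw [TensorProduct.smul_tmul', smul_eq_mul, mul_one]]
    exact Submodule.smul_mem _ _ (Submodule.subset_span ⟨x, trivial, rfl⟩)
  | add a b ha hb => exact add_mem ha hb

theorem ratFiltration_bot {n : ℕ} (h : gammaFiltration P n = ⊥) : ratFiltration P n = ⊥ := by
  simp [ratFiltration, h]

theorem sub_smul_mem_ratFiltration (hK : HasSplitting K P) (j : ℕ)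
    (Ψ : ℚ ⊗[ℤ] K →ₗ[ℚ] ℚ ⊗[ℤ] K)
    (hΨ : ∀ x : K, Ψ (1 ⊗ₜ[ℤ] x) = 1 ⊗ₜ[ℤ] LambdaRing.adams P j x) (n : ℕ)
    {v : ℚ ⊗[ℤ] K} (hv : v ∈ ratFiltration P n) :
    Ψ v - ((j : ℚ) ^ n) • v ∈ ratFiltration P (n + 1) := by
  unfold ratFiltration at hv
  induction hv using Submodule.span_induction with
  | mem x hx =>
    obtain ⟨x, hx, rfl⟩ := hx
    simp only
    have : ((j : ℚ) ^ n) • ((1 : ℚ) ⊗ₜ[ℤ] x) = (1 : ℚ) ⊗ₜ[ℤ] ((j : K) ^ n * x) := by
      rw [show ((j : K) ^ n * x) = ((j ^ n : ℕ) : ℤ) • x by rw [zsmul_eq_mul]; push_cast; ring,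
        TensorProduct.tmul_smul, ← Int.cast_smul_eq_zsmul ℚ]
      push_cast; rfl
    rw [hΨ, this, ← TensorProduct.tmul_sub]
    exact Submodule.subset_span ⟨_, adams_sub_pow_mul_mem hK j n hx, rfl⟩
  | zero => simp
  | add a b _ _ ha hb => rw [map_add, smul_add, add_sub_add_comm]; exact add_mem ha hb
  | smul q a _ ha => rw [map_smul, smul_comm, ← smul_sub]; exact Submodule.smul_mem _ _ ha

theorem natCast_pow_injective {j : ℕ} (hj : 2 ≤ j) : Function.Injective fun n : ℕ => (j : ℚ) ^ n := by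
  intro a b h
  have : j ^ a = j ^ b := by exact_mod_cast (show (j : ℚ) ^ a = (j : ℚ) ^ b from h)
  exact Nat.pow_right_injective hj this

theorem ratFiltration_eigenspace_sup (hK : HasSplitting K P) {d : ℕ}
    (hd : gammaFiltration P (d + 1) = ⊥) {j : ℕ} (hj : 2 ≤ j)
    (Ψ : ℚ ⊗[ℤ] K →ₗ[ℚ] ℚ ⊗[ℤ] K)
    (hΨ : ∀ x : K, Ψ (1 ⊗ₜ[ℤ] x) = 1 ⊗ₜ[ℤ] LambdaRing.adams P j x) (m : ℕ) :
    Module.End.eigenspace Ψ ((j : ℚ) ^ m) ⊔ ratFiltration P (m + 1) = ratFiltration P m ∧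
      Module.End.eigenspace Ψ ((j : ℚ) ^ m) ⊓ ratFiltration P (m + 1) = ⊥ :=
  ⟨eigenspace_sup_eq (c := fun n => (j : ℚ) ^ n) (ratFiltration_antitone P) (ratFiltration_zero P)
      (ratFiltration_bot hd) (fun n _ h => sub_smul_mem_ratFiltration hK j Ψ hΨ n h)
      (natCast_pow_injective hj) m,
    eigenspace_inf_eq_bot (c := fun n => (j : ℚ) ^ n) (ratFiltration_antitone P)
      (ratFiltration_bot hd) (fun n _ h => sub_smul_mem_ratFiltration hK j Ψ hΨ n h)
      (natCast_pow_injective hj) m⟩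

theorem eigenspace_le_eigenspace (hK : HasSplitting K P) {d : ℕ}
    (hd : gammaFiltration P (d + 1) = ⊥) {j l : ℕ} (hj : 2 ≤ j)
    (Ψj Ψl : ℚ ⊗[ℤ] K →ₗ[ℚ] ℚ ⊗[ℤ] K)
    (hΨj : ∀ x : K, Ψj (1 ⊗ₜ[ℤ] x) = 1 ⊗ₜ[ℤ] LambdaRing.adams P j x)
    (hΨl : ∀ x : K, Ψl (1 ⊗ₜ[ℤ] x) = 1 ⊗ₜ[ℤ] LambdaRing.adams P l x) (m : ℕ) :
    Module.End.eigenspace Ψj ((j : ℚ) ^ m) ≤ Module.End.eigenspace Ψl ((l : ℚ) ^ m) := by
  have hcomm : ∀ z, Ψj (Ψl z) = Ψl (Ψj z) := by
    intro z
    induction z using TensorProduct.induction_on with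
    | zero => simp
    | tmul q x =>
      rw [show q ⊗ₜ[ℤ] x = q • ((1 : ℚ) ⊗ₜ[ℤ] x) by rw [TensorProduct.smul_tmul', smul_eq_mul, mul_one]]
      simp only [map_smul, hΨj, hΨl, adams_adams hK, mul_comm]
    | add a b ha hb => simp only [map_add, ha, hb]
  intro v hv
  have hv' := Module.End.mem_eigenspace_iff.mp hv
  have hvF : v ∈ ratFiltration P m := by
    rw [← (ratFiltration_eigenspace_sup hK hd hj Ψj hΨj m).1]
    exact Submodule.mem_sup_left hv
  have hmem : Ψl v - ((l : ℚ) ^ m) • v ∈ Module.End.eigenspace Ψj ((j : ℚ) ^ m) ⊓ ratFiltration P (m + 1) := by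
    refine ⟨Module.End.mem_eigenspace_iff.mpr ?_, sub_smul_mem_ratFiltration hK l Ψl hΨl m hvF⟩
    rw [map_sub, map_smul, hcomm, hv', map_smul, smul_sub, smul_comm ((j : ℚ) ^ m) ((l : ℚ) ^ m)]
  rw [(ratFiltration_eigenspace_sup hK hd hj Ψj hΨj m).2, Submodule.mem_bot, sub_eq_zero] at hmem
  exact Module.End.mem_eigenspace_iff.mpr hmem

/-- Truncated `log (1 + X)`. -/
noncomputable def logPoly (d : ℕ) : Polynomial ℚ :=
  ∑ n ∈ range (d + 1), Polynomial.C ((-1 : ℚ) ^ n / ((n : ℚ) + 1)) * Polynomial.X ^ (n + 1)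

open Polynomial in
theorem derivative_logPoly (d : ℕ) :
    (1 + X) * derivative (logPoly d) = 1 - (-X) ^ (d + 1) := by
  rw [logPoly, map_sum, show (1 + X : ℚ[X]) = 1 - -X by ring, mul_comm]
  have : ∀ n ∈ range (d + 1), derivative (C ((-1 : ℚ) ^ n / ((n : ℚ) + 1)) * X ^ (n + 1)) = (-X) ^ n := by
    intro n _
    rw [derivative_C_mul_X_pow, Nat.add_sub_cancel, Nat.cast_succ,
      div_mul_cancel₀ _ (by positivity : ((n : ℚ) + 1) ≠ 0), map_pow, map_neg, map_one, ← mul_pow, neg_one_mul]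
  rw [sum_congr rfl this, geom_sum_mul_neg]

open Polynomial in
theorem X_pow_dvd_logPoly_comp (d j : ℕ) :
    (X : ℚ[X]) ^ (d + 1) ∣ (logPoly d).comp ((1 + X) ^ j - 1) - (j : ℚ[X]) * logPoly d := by
  set G := (logPoly d).comp ((1 + X) ^ j - 1) - (j : ℚ[X]) * logPoly d with hG
  have hY : (X : ℚ[X]) ∣ (1 + X) ^ j - 1 := by
    have h := sub_dvd_pow_sub_pow (1 + X : ℚ[X]) 1 j
    rwa [add_sub_cancel_left, one_pow] at h
  have hdiv : (X : ℚ[X]) ^ (d + 1) ∣ (1 + X) * derivative G := by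
    rcases j with _ | p
    · simp [hG, logPoly]
    have e : (1 + X) * derivative G =
        ((p + 1 : ℕ) : ℚ[X]) * ((-X) ^ (d + 1) - (-((1 + X) ^ (p + 1) - 1)) ^ (d + 1)) := by
      have h1 := congrArg (fun q : ℚ[X] => q.comp ((1 + X) ^ (p + 1) - 1)) (derivative_logPoly d)
      simp only [mul_comp, add_comp, one_comp, X_comp, sub_comp, pow_comp, neg_comp] at h1
      rw [add_sub_cancel] at h1
      rw [hG, derivative_sub, derivative_comp, derivative_sub, derivative_one, derivative_mul,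
        derivative_natCast, derivative_pow, derivative_add, derivative_one, derivative_X]
      simp only [sub_zero, zero_mul, zero_add, mul_one, Nat.add_sub_cancel, map_natCast]
      linear_combination ((p + 1 : ℕ) : ℚ[X]) * h1 - ((p + 1 : ℕ) : ℚ[X]) * derivative_logPoly d
    rw [e]
    exact dvd_mul_of_dvd_right (dvd_sub (pow_dvd_pow_of_dvd (dvd_neg.mpr dvd_rfl) _)
      (pow_dvd_pow_of_dvd (dvd_neg.mpr hY) _)) _
  have hG0 : G.coeff 0 = 0 := by
    simp [hG, coeff_zero_eq_eval_zero, logPoly, eval_finsetSum]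
  rw [X_pow_dvd_iff] at hdiv ⊢
  intro n hn
  induction n with
  | zero => exact hG0
  | succ n ih =>
    have h := hdiv n (by omega)
    rw [add_mul, one_mul, coeff_add, coeff_derivative] at h
    rcases n with _ | n
    · simpa [coeff_X_mul_zero] using h
    · rw [coeff_X_mul, coeff_derivative, ih (by omega), zero_mul, add_zero] at h
      exact (mul_eq_zero.mp h).resolve_right (by positivity)

theorem logSeries_line (hK : HasSplitting K P) {d : ℕ} (hd : gammaFiltration P (d + 1) = ⊥) (j : ℕ)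
    (Ψ : ℚ ⊗[ℤ] K →ₗ[ℚ] ℚ ⊗[ℤ] K)
    (hΨ : ∀ x : K, Ψ (1 ⊗ₜ[ℤ] x) = 1 ⊗ₜ[ℤ] LambdaRing.adams P j x)
    {u : K} (hu : P.IsLine u) :
    (∑ n ∈ range (d + 1), ((-1 : ℚ) ^ n / ((n : ℚ) + 1)) ⊗ₜ[ℤ] ((u - 1) ^ (n + 1))) ∈
        Module.End.eigenspace Ψ (j : ℚ) ∧
      (∑ n ∈ range (d + 1), ((-1 : ℚ) ^ n / ((n : ℚ) + 1)) ⊗ₜ[ℤ] ((u - 1) ^ (n + 1))) -
          (1 : ℚ) ⊗ₜ[ℤ] (u - 1) ∈ ratFiltration P 2 := by
  have h1 : u - 1 ∈ gammaFiltration P 1 := mem_one_of_aug_eq_zero (by simp [hu.2])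
  refine ⟨?_, ?_⟩
  · set w : ℚ ⊗[ℤ] K := (1 : ℚ) ⊗ₜ[ℤ] (u - 1)
    have hsum : (∑ n ∈ range (d + 1), ((-1 : ℚ) ^ n / ((n : ℚ) + 1)) ⊗ₜ[ℤ] ((u - 1) ^ (n + 1))) =
        Polynomial.aeval w (logPoly d) := by
      rw [logPoly, map_sum]
      refine sum_congr rfl fun n _ => ?_
      rw [map_mul, Polynomial.aeval_C, map_pow, Polynomial.aeval_X, Algebra.TensorProduct.tmul_pow,
        one_pow, Algebra.TensorProduct.algebraMap_apply, Algebra.algebraMap_self, RingHom.id_apply,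
        Algebra.TensorProduct.tmul_mul_tmul, mul_one, one_mul]
    have hΨsum : Ψ (∑ n ∈ range (d + 1), ((-1 : ℚ) ^ n / ((n : ℚ) + 1)) ⊗ₜ[ℤ] ((u - 1) ^ (n + 1))) =
        Polynomial.aeval w ((logPoly d).comp ((1 + Polynomial.X) ^ j - 1)) := by
      rw [Polynomial.aeval_comp, logPoly, map_sum, map_sum]
      refine sum_congr rfl fun n _ => ?_
      rw [map_mul, Polynomial.aeval_C, map_pow, Polynomial.aeval_X, map_sub, map_one, map_pow, map_add,
        map_one, Polynomial.aeval_X]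
      rw [show ((-1 : ℚ) ^ n / ((n : ℚ) + 1)) ⊗ₜ[ℤ] ((u - 1) ^ (n + 1)) =
          ((-1 : ℚ) ^ n / ((n : ℚ) + 1)) • ((1 : ℚ) ⊗ₜ[ℤ] ((u - 1) ^ (n + 1))) by
          rw [TensorProduct.smul_tmul', smul_eq_mul, mul_one], map_smul, hΨ,
        show adams P j ((u - 1) ^ (n + 1)) = (u ^ j - 1) ^ (n + 1) from by
          show adamsRingHom hK j _ = _
          rw [map_pow, map_sub, map_one]
          exact congrArg (fun z => (z - 1) ^ (n + 1)) (adams_line hu j),
        Algebra.TensorProduct.algebraMap_apply, Algebra.algebraMap_self, RingHom.id_apply,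
        TensorProduct.smul_tmul', smul_eq_mul, mul_one]
      have hone : (1 : ℚ ⊗[ℤ] K) = (1 : ℚ) ⊗ₜ[ℤ] (1 : K) := rfl
      rw [hone, ← TensorProduct.tmul_add, add_sub_cancel, Algebra.TensorProduct.tmul_pow, one_pow,
        ← TensorProduct.tmul_sub, Algebra.TensorProduct.tmul_pow, one_pow,
        Algebra.TensorProduct.tmul_mul_tmul, mul_one, one_mul]
    rw [Module.End.mem_eigenspace_iff, hΨsum, hsum]
    obtain ⟨q, hq⟩ := X_pow_dvd_logPoly_comp d j
    have := congrArg (Polynomial.aeval w) hq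
    rw [map_sub, map_mul, map_mul, map_pow, Polynomial.aeval_X, map_natCast] at this
    have hw : w ^ (d + 1) = 0 := by
      rw [Algebra.TensorProduct.tmul_pow, one_pow]
      have := pow_mem h1 (d + 1)
      rw [mul_one, hd, AddSubgroup.mem_bot] at this
      rw [this, TensorProduct.tmul_zero]
    rw [hw, zero_mul, sub_eq_zero] at this
    rw [this, Nat.cast_smul_eq_nsmul, nsmul_eq_mul]
  · rw [sum_range_succ', pow_zero, Nat.cast_zero, zero_add, div_one, pow_one, add_sub_cancel_right]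
    refine sum_mem fun n _ => ?_
    rw [show ∀ (q : ℚ) (x : K), q ⊗ₜ[ℤ] x = q • ((1 : ℚ) ⊗ₜ[ℤ] x) from fun q x => by
      rw [TensorProduct.smul_tmul', smul_eq_mul, mul_one]]
    refine Submodule.smul_mem _ _ (Submodule.subset_span ⟨_, gammaFiltration_anti ?_ (pow_mem h1 _), rfl⟩)
    omega

end Groth.Agent.Lambda
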