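import Groth.Agent.Lambda.Filtration
import Mathlib.RingTheory.Polynomial.Vieta

/-!
# The determinant `K → Kˣ`
-/

universe u

open Finset LambdaRing

namespace Groth.Agent.Lambda

variable {K : Type u} [CommRing K] [LambdaOps K] {P : PosStructure K}

open Classical in
/-- `det e = λ^{ε e} e` as a unit. -/
noncomputable def detUnit (P : PosStructure K) (e : K) : Kˣ :=
  if h : IsUnit (LambdaOps.lam (P.aug e).toNat e) then h.unit else 1

theorem detUnit_val {e : K} (he : e ∈ P.pos) : (detUnit P e : K) = LambdaOps.lam (P.aug e).toNat e := by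
  rw [detUnit, dif_pos (P.isUnit_lam e he), IsUnit.unit_spec]

theorem detUnit_add {e g : K} (he : e ∈ P.pos) (hg : g ∈ P.pos) :
    detUnit P (e + g) = detUnit P e * detUnit P g := by
  ext
  rw [Units.val_mul, detUnit_val (P.add_mem e g he hg), detUnit_val he, detUnit_val hg, map_add,
    Int.toNat_add (P.aug_pos e he).le (P.aug_pos g hg).le, LambdaOps.lam_add, sum_eq_single (P.aug e).toNat]
  · rw [Nat.add_sub_cancel_left]
  · intro i hi hne
    rw [mem_range] at hi
    rcases lt_or_gt_of_ne hne with h | h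
    · rw [lam_eq_zero_of_toNat_lt hg (by omega), mul_zero]
    · rw [lam_eq_zero_of_toNat_lt he h, zero_mul]
  · intro h; simp at h

theorem detUnit_div_eq {e g e' g' : K} (he : e ∈ P.pos) (hg : g ∈ P.pos) (he' : e' ∈ P.pos) (hg' : g' ∈ P.pos)
    (h : e - g = e' - g') : detUnit P e / detUnit P g = detUnit P e' / detUnit P g' := by
  rw [div_eq_div_iff_mul_eq_mul, ← detUnit_add he hg', ← detUnit_add he' hg,
    show e + g' = e' + g by linear_combination h]

/-- The two parts of a difference. -/
noncomputable def detFun (P : PosStructure K) (x : K) : Kˣ :=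
  detUnit P (P.exists_sub x).choose / detUnit P (P.exists_sub x).choose_spec.choose

theorem detFun_sub {e g : K} (he : e ∈ P.pos) (hg : g ∈ P.pos) :
    detFun P (e - g) = detUnit P e / detUnit P g :=
  have h := (P.exists_sub (e - g)).choose_spec.choose_spec
  detUnit_div_eq h.1 h.2.1 he hg h.2.2.symm

/-- The determinant as an additive map. -/
noncomputable def detHom (P : PosStructure K) : K →+ Additive Kˣ :=
  AddMonoidHom.mk' (fun x => Additive.ofMul (detFun P x)) fun x y => by
    obtain ⟨e, g, he, hg, rfl⟩ := P.exists_sub x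
    obtain ⟨e', g', he', hg', rfl⟩ := P.exists_sub y
    rw [← ofMul_mul, sub_add_sub_comm, detFun_sub (P.add_mem _ _ he he') (P.add_mem _ _ hg hg'), detFun_sub he hg,
      detFun_sub he' hg', detUnit_add he he', detUnit_add hg hg', mul_div_mul_comm]

theorem detHom_pos {e : K} (he : e ∈ P.pos) : detHom P e = Additive.ofMul (detUnit P e) := by
  have h1 := one_mem_pos P
  show Additive.ofMul (detFun P e) = _
  rw [show e = (e + 1) - 1 by ring, detFun_sub (P.add_mem _ _ he h1) h1, detUnit_add he h1, mul_div_cancel_right,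
    add_sub_cancel_right]

theorem detUnit_line {u : K} (hu : P.IsLine u) : (detUnit P u : K) = u := by
  rw [detUnit_val hu.1, hu.2]
  exact LambdaOps.lam_one u

section Map

variable {K' : Type u} [CommRing K'] [LambdaOps K'] {P' : PosStructure K'} {f : K →+* K'}

theorem map_detUnit (hf : IsExtension P P' f) {e : K} (he : e ∈ P.pos) :
    Units.map (f : K →* K') (detUnit P e) = detUnit P' (f e) := by
  ext
  rw [Units.coe_map, detUnit_val (hf.pos_subset e he), hf.aug_comp, MonoidHom.coe_coe, detUnit_val he]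
  exact hf.isLambdaHom _ _

theorem map_detHom (hf : IsExtension P P' f) (x : K) :
    detHom P' (f x) = MonoidHom.toAdditive (Units.map (f : K →* K')) (detHom P x) := by
  obtain ⟨e, g, he, hg, rfl⟩ := P.exists_sub x
  simp only [map_sub, detHom_pos he, detHom_pos hg, detHom_pos (hf.pos_subset e he),
    detHom_pos (hf.pos_subset g hg), ← map_detUnit hf he, ← map_detUnit hf hg]
  rfl

theorem detHom_eq_zero_of_map (hf : IsExtension P P' f) {x : K} (h : detHom P' (f x) = 0) :
    detHom P x = 0 := by
  rw [map_detHom hf] at h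
  have hinj : Function.Injective (MonoidHom.toAdditive (Units.map (f : K →* K'))) :=
    Units.map_injective hf.injective
  exact hinj (h.trans (map_zero _).symm)

end Map

theorem detHom_lines_sum {s : Multiset K} (hs : ∀ u ∈ s, P.IsLine u) :
    detHom P s.sum = (s.map fun u => Additive.ofMul (detUnit P u)).sum := by
  rw [map_multiset_sum]
  exact congrArg _ (Multiset.map_congr rfl fun u hu => detHom_pos (hs u hu).1)

theorem detUnit_mul_line {u v : K} (hu : P.IsLine u) (hv : P.IsLine v) :
    detUnit P (u * v) = detUnit P u * detUnit P v := by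
  ext
  rw [Units.val_mul, detUnit_line hu, detUnit_line hv, detUnit_line (isLine_mul hu hv)]

/-- `det (xy) = det(x)^{ε y} det(y)^{ε x}`. -/
theorem detHom_mul (hK : HasSplitting K P) (x y : K) :
    detHom P (x * y) = P.aug y • detHom P x + P.aug x • detHom P y := by
  have key : ∀ e ∈ P.pos, ∀ g ∈ P.pos, detHom P (e * g) = P.aug g • detHom P e + P.aug e • detHom P g := by
    intro e he g hg
    obtain ⟨L, f, hf, -, h⟩ := exists_split_list hK [e, g] (by simp [he, hg])
    obtain ⟨s, hs, hse⟩ := h e (by simp)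
    obtain ⟨t, ht, hte⟩ := h g (by simp)
    have hinj : Function.Injective (MonoidHom.toAdditive (Units.map (f : K →* L.carrier))) :=
      Units.map_injective hf.injective
    apply hinj
    rw [map_add, map_zsmul, map_zsmul, ← map_detHom hf, ← map_detHom hf, ← map_detHom hf, map_mul, ← hse, ← hte,
      ← hf.aug_comp e, ← hf.aug_comp g, ← hse, ← hte, aug_lines_sum hs, aug_lines_sum ht, ← sum_product_mul]
    have hl : ∀ u ∈ (s.product t).map fun p => p.1 * p.2, L.posStr.IsLine u := by
      intro u hu
      obtain ⟨⟨a, b⟩, hab, rfl⟩ := Multiset.mem_map.mp hu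
      obtain ⟨ha, hb⟩ := Multiset.mem_product.mp hab
      exact isLine_mul (hs a ha) (ht b hb)
    rw [detHom_lines_sum hl, detHom_lines_sum hs, detHom_lines_sum ht, Multiset.map_map,
      Multiset.map_congr rfl (g := fun p : L.carrier × L.carrier =>
        Additive.ofMul (detUnit L.posStr p.1) + Additive.ofMul (detUnit L.posStr p.2)) fun p hp => by
          obtain ⟨ha, hb⟩ := Multiset.mem_product.mp hp
          rw [Function.comp_apply, detUnit_mul_line (hs _ ha) (ht _ hb), ofMul_mul]]
    simp [Multiset.product, Multiset.map_bind, Multiset.sum_bind, Multiset.map_map, Function.comp_def,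
      Multiset.sum_map_add, Multiset.sum_map_nsmul]
  obtain ⟨e, g, he, hg, rfl⟩ := P.exists_sub x
  obtain ⟨e', g', he', hg', rfl⟩ := P.exists_sub y
  simp only [sub_mul, mul_sub, map_sub, key e he e' he', key e he g' hg', key g hg e' he', key g hg g' hg',
    sub_smul, smul_sub]
  abel

theorem detHom_mul_eq_zero (hK : HasSplitting K P) {x y : K} (hx : P.aug x = 0) (hy : P.aug y = 0) :
    detHom P (x * y) = 0 := by
  rw [detHom_mul hK, hx, hy, zero_smul, zero_smul, add_zero]

theorem detHom_esymm_eq_zero (hK : HasSplitting K P) {s : Multiset K} (hs : ∀ w ∈ s, P.aug w = 0) {r : ℕ}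
    (hr : 2 ≤ r) : detHom P (s.esymm r) = 0 := by
  rw [Multiset.esymm, map_multiset_sum, Multiset.sum_eq_zero]
  intro z hz
  obtain ⟨_, hz', rfl⟩ := Multiset.mem_map.mp hz
  obtain ⟨t, ht, rfl⟩ := Multiset.mem_map.mp hz'
  obtain ⟨hts, htc⟩ := Multiset.mem_powersetCard.mp ht
  have hmem : ∀ w ∈ t, P.aug w = 0 := fun w hw => hs w (Multiset.mem_of_le hts hw)
  obtain ⟨a, ha⟩ := Multiset.card_pos_iff_exists_mem.mp (show 0 < Multiset.card t by omega)
  obtain ⟨t', rfl⟩ := Multiset.exists_cons_of_mem ha
  rw [Multiset.card_cons] at htc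
  obtain ⟨b, hb⟩ := Multiset.card_pos_iff_exists_mem.mp (show 0 < Multiset.card t' by omega)
  obtain ⟨t'', rfl⟩ := Multiset.exists_cons_of_mem hb
  rw [Multiset.prod_cons, Multiset.prod_cons]
  exact detHom_mul_eq_zero hK (hmem a (by simp)) (by rw [map_mul, hmem b (by simp), zero_mul])

theorem detHom_gamma_eq_zero (hK : HasSplitting K P) {x : K} (hx : P.aug x = 0) {r : ℕ} (hr : 2 ≤ r) :
    detHom P (LambdaRing.gamma r x) = 0 := by
  let G : AddSubgroup K :=
    { carrier := {x | P.aug x = 0 ∧ ∀ r, 2 ≤ r → detHom P (LambdaRing.gamma r x) = 0}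
      zero_mem' := ⟨map_zero _, fun r hr => by rw [gamma_zero_right (by omega), map_zero]⟩
      add_mem' := fun {a b} ha hb => ⟨by rw [map_add, ha.1, hb.1, add_zero], fun r hr => by
        rw [gamma_add, map_sum]
        refine sum_eq_zero fun i hi => ?_
        rw [mem_range] at hi
        rcases eq_or_ne i 0 with rfl | hi0
        · rw [gamma_zero, one_mul]; exact hb.2 r hr
        rcases eq_or_ne i r with rfl | hir
        · rw [Nat.sub_self, gamma_zero, mul_one]; exact ha.2 i hr
        exact detHom_mul_eq_zero hK (aug_gamma hK ha.1 hi0) (aug_gamma hK hb.1 (by omega))⟩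
      neg_mem' := fun {a} ha => ⟨by rw [map_neg, ha.1, neg_zero], fun r hr => by
        have h := gamma_add r (-a) a
        rw [neg_add_cancel, gamma_zero_right (by omega), sum_range_succ, Nat.sub_self, gamma_zero, mul_one] at h
        rw [eq_neg_of_add_eq_zero_right h.symm, map_neg, map_sum, neg_eq_zero]
        refine sum_eq_zero fun i hi => ?_
        rw [mem_range] at hi
        rcases eq_or_ne i 0 with rfl | hi0
        · rw [gamma_zero, one_mul]; exact ha.2 r hr
        exact detHom_mul_eq_zero hK (aug_gamma hK (by rw [map_neg, ha.1, neg_zero]) hi0)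
          (aug_gamma hK ha.1 (by omega))⟩ }
  have hgen : ∀ e ∈ P.pos, e - ((P.aug e).toNat : K) ∈ G := by
    intro e he
    refine ⟨by rw [map_sub, map_natCast, aug_toNat he, sub_self], fun r hr => ?_⟩
    obtain ⟨L, f, hf, hL, s, hs, hse, hcard⟩ := exists_split hK he
    refine detHom_eq_zero_of_map hf ?_
    rw [map_gamma hf.isLambdaHom, map_sub, map_natCast, ← hse, ← hcard, gamma_lines_sum_sub_card hs]
    refine detHom_esymm_eq_zero hL (fun w hw => ?_) hr
    obtain ⟨u, hu, rfl⟩ := Multiset.mem_map.mp hw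
    rw [map_sub, (hs u hu).2, map_one, sub_self]
  obtain ⟨e, g, he, hg, rfl⟩ := P.exists_sub x
  have hn : (P.aug e).toNat = (P.aug g).toNat := by
    rw [map_sub, sub_eq_zero] at hx; rw [hx]
  have h := G.sub_mem (hgen e he) (hgen g hg)
  rw [hn, sub_sub_sub_cancel_right] at h
  exact h.2 r hr

/-- `det` kills `F^2`. -/
theorem detHom_eq_zero_of_mem (hK : HasSplitting K P) {x : K} (hx : x ∈ gammaFiltration P 2) :
    detHom P x = 0 := by
  rw [gammaFiltration_of_ne_zero P two_ne_zero] at hx
  induction hx using AddSubgroup.closure_induction with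
  | mem y hy =>
    obtain ⟨l, hl, hsum, rfl⟩ := hy
    suffices h : (1 ≤ (l.map Prod.fst).sum → P.aug (l.map fun p => LambdaRing.gamma p.1 p.2).prod = 0) ∧
        (2 ≤ (l.map Prod.fst).sum → detHom P (l.map fun p => LambdaRing.gamma p.1 p.2).prod = 0) from h.2 hsum
    clear hsum
    induction l with
    | nil => simp
    | cons p l ih =>
      obtain ⟨ih1, ih2⟩ := ih fun q hq => hl q (List.mem_cons_of_mem p hq)
      have hp := hl p List.mem_cons_self
      simp only [List.map_cons, List.prod_cons, List.sum_cons]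
      rcases eq_or_ne p.1 0 with h0 | h0
      · rw [h0, gamma_zero, one_mul, zero_add]; exact ⟨ih1, ih2⟩
      refine ⟨fun _ => by rw [map_mul, aug_gamma hK hp h0, zero_mul], fun h2 => ?_⟩
      rcases eq_or_ne p.1 1 with h1 | h1
      · exact detHom_mul_eq_zero hK (aug_gamma hK hp h0) (ih1 (by omega))
      · rw [detHom_mul hK, detHom_gamma_eq_zero hK hp (by omega), aug_gamma hK hp h0, zero_smul, smul_zero, add_zero]
  | zero => exact map_zero _
  | add a b _ _ iha ihb => rw [map_add, iha, ihb, add_zero]
  | neg a _ iha => rw [map_neg, iha, neg_zero]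

theorem line_eq_of_sub_mem (hK : HasSplitting K P) {u v : K} (hu : P.IsLine u) (hv : P.IsLine v)
    (h : u - v ∈ gammaFiltration P 2) : u = v := by
  have h' := detHom_eq_zero_of_mem hK h
  rw [map_sub, sub_eq_zero, detHom_pos hu.1, detHom_pos hv.1] at h'
  have := congrArg (fun a : Additive Kˣ => (a.toMul : K)) h'
  simpa [detUnit_line hu, detUnit_line hv] using this

/-- `det e - 1 ≡ e - ε e` modulo `F^2`. -/
theorem det_sub_one_sub_mem (hK : HasSplitting K P) {e : K} (he : e ∈ P.pos) :
    LambdaOps.lam (P.aug e).toNat e - 1 - (e - ((P.aug e).toNat : K)) ∈ gammaFiltration P 2 := by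
  obtain ⟨L, f, hf, -, s, hs, hse, hcard⟩ := exists_split hK he
  obtain ⟨p, hp⟩ : ∃ p, (P.aug e).toNat = p + 1 := ⟨(P.aug e).toNat - 1, by have := P.aug_pos e he; omega⟩
  have hid : LambdaOps.lam (P.aug e).toNat e =
      ∑ i ∈ range ((P.aug e).toNat + 1), LambdaRing.gamma i (e - ((P.aug e).toNat : K)) := by
    apply hf.injective
    rw [map_sum, hf.isLambdaHom, ← hse, lam_lines_sum hs]
    simp only [map_gamma hf.isLambdaHom, map_sub, map_natCast, ← hse, ← hcard, gamma_lines_sum_sub_card hs]
    rw [show s.esymm (Multiset.card s) = s.prod by simp [Multiset.esymm, Multiset.powersetCard_self]]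
    have hprod : s.prod = ((s.map fun u => u - 1).map fun w => 1 + w).prod := by
      simp [Multiset.map_map, Function.comp_def]
    have hexp := congrArg (Polynomial.eval 1) (Multiset.prod_X_add_C_eq_sum_esymm (s.map fun u => u - 1))
    rw [Polynomial.eval_multiset_prod, Multiset.map_map, Polynomial.eval_finsetSum, Multiset.card_map] at hexp
    simp only [Polynomial.eval_mul, Polynomial.eval_C, Polynomial.eval_pow, Polynomial.eval_X, one_pow, mul_one,
      Function.comp_def, Polynomial.eval_add] at hexp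
    rw [← hexp, hprod]
  rw [hid, hp, sum_range_succ', sum_range_succ', gamma_zero, gamma_one]
  have : ∑ i ∈ range p, LambdaRing.gamma (i + 1 + 1) (e - ((p + 1 : ℕ) : K)) ∈ gammaFiltration P 2 :=
    sum_mem fun i _ => gammaFiltration_anti (by omega) (gamma_mem (by rw [map_sub, map_natCast, ← hp, aug_toNat he, sub_self]) _)
  convert this using 1
  ring

theorem exists_line_sub_mem (hK : HasSplitting K P)
    (hLinv : ∀ w : K, P.IsLine w → ∃ w' : K, P.IsLine w' ∧ w * w' = 1)
    (hdet : ∀ e : K, e ∈ P.pos → LambdaOps.lam (P.aug e).toNat e ∈ P.pos) {x : K}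
    (hx : x ∈ gammaFiltration P 1) :
    ∃ u : K, P.IsLine u ∧ x - (u - 1) ∈ gammaFiltration P 2 := by
  have hx0 := aug_eq_zero_of_mem hK one_ne_zero hx
  obtain ⟨e, g, he, hg, rfl⟩ := P.exists_sub x
  have hn : (P.aug e).toNat = (P.aug g).toNat := by
    rw [map_sub, sub_eq_zero] at hx0; rw [hx0]
  have hline : ∀ c ∈ P.pos, P.IsLine (LambdaOps.lam (P.aug c).toNat c) := fun c hc =>
    ⟨hdet c hc, by rw [aug_lam hK hc, Nat.choose_self, Nat.cast_one]⟩
  obtain ⟨w, hw, hgw⟩ := hLinv _ (hline g hg)
  have hde := det_sub_one_sub_mem hK he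
  have hdg := det_sub_one_sub_mem hK hg
  have hue : P.IsLine (LambdaOps.lam (P.aug e).toNat e * w) := isLine_mul (hline e he) hw
  refine ⟨_, hue, ?_⟩
  have hprod : (LambdaOps.lam (P.aug e).toNat e * w - 1) * (1 - LambdaOps.lam (P.aug g).toNat g) ∈
      gammaFiltration P 2 :=
    mul_mem_add (m := 1) (n := 1) (mem_one_of_aug_eq_zero (by rw [map_sub, hue.2, map_one, sub_self]))
      (mem_one_of_aug_eq_zero (by rw [map_sub, (hline g hg).2, map_one, sub_self]))
  have hall := sub_mem (sub_mem hdg hde) hprod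
  rw [hn] at hall ⊢
  convert hall using 1
  linear_combination (-LambdaOps.lam (P.aug g).toNat e) * hgw

end Groth.Agent.Lambda
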