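import Groth.Agent.Lambda.FreeFil
import Groth.Agent.Lambda.Theta
import Groth.Agent.Lambda.Elem
import Mathlib.RingTheory.Polynomial.Vieta

/-!
# The γ-filtration of an elementary extension
-/

universe u

open Finset LambdaRing

namespace Groth.Agent.Lambda

theorem prod_sub_eq_sum_esymm {R : Type*} [CommRing R] (s : Multiset R) (t : R) :
    (s.map fun u => t - u).prod =
      ∑ i ∈ range (Multiset.card s + 1), (-1) ^ i * s.esymm i * t ^ (Multiset.card s - i) := by
  have h := congrArg (Polynomial.eval t) (Multiset.prod_X_add_C_eq_sum_esymm (s.map Neg.neg))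
  rw [Polynomial.eval_multiset_prod, Multiset.map_map, Multiset.map_map, Polynomial.eval_finsetSum,
    Multiset.card_map] at h
  simp only [Polynomial.eval_mul, Polynomial.eval_C, Polynomial.eval_pow, Polynomial.eval_X,
    Multiset.esymm_neg] at h
  rw [← h]
  congr 1
  exact Multiset.map_congr rfl fun u _ => by simp [sub_eq_add_neg]

variable {K : Type u} [CommRing K] [LambdaOps K] {P : PosStructure K} {e : K}

theorem root_sub_one_relation [inst : LambdaOps (AdjoinRoot (KRR.extPoly P e))]
    {Pe : PosStructure (AdjoinRoot (KRR.extPoly P e))}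
    (hext : IsExtension P Pe (AdjoinRoot.of (KRR.extPoly P e))) (hsplit : HasSplitting _ Pe) (he : e ∈ P.pos) :
    ∑ i ∈ range ((P.aug e).toNat + 1), (-1) ^ i *
      AdjoinRoot.of (KRR.extPoly P e) (LambdaRing.gamma i (e - ((P.aug e).toNat : K))) *
        (AdjoinRoot.root (KRR.extPoly P e) - 1) ^ ((P.aug e).toNat - i) = 0 := by
  obtain ⟨L, g, hg, -, s, hs, hsum, hcard⟩ := exists_split hsplit (hext.pos_subset e he)
  rw [hext.aug_comp] at hcard
  apply hg.injective
  rw [map_zero]
  -- `∏ (ℓ - u) = 0`
  have h0 : (s.map fun u => g (AdjoinRoot.root (KRR.extPoly P e)) - u).prod = 0 := by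
    rw [prod_sub_eq_sum_esymm, hcard, ← map_zero g, ← root_relation P e, map_sum]
    refine sum_congr rfl fun i _ => ?_
    rw [map_mul, map_pow, map_mul (AdjoinRoot.of _), map_pow (AdjoinRoot.of _), map_neg (AdjoinRoot.of _),
      map_one (AdjoinRoot.of _), map_mul g, map_pow g, map_neg g, map_one g, hext.isLambdaHom, hg.isLambdaHom,
      ← hsum, lam_lines_sum hs]
  rw [← h0, show (s.map fun u => g (AdjoinRoot.root (KRR.extPoly P e)) - u) =
    (s.map fun u => u - 1).map fun v => g (AdjoinRoot.root (KRR.extPoly P e) - 1) - v by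
      rw [Multiset.map_map]
      exact Multiset.map_congr rfl fun u _ => by simp,
    prod_sub_eq_sum_esymm, Multiset.card_map, hcard, map_sum]
  refine sum_congr rfl fun i _ => ?_
  rw [map_mul, map_mul, map_pow, map_neg, map_one, map_pow, map_gamma hext.isLambdaHom,
    map_gamma hg.isLambdaHom, map_sub (AdjoinRoot.of _), map_natCast, map_sub g (AdjoinRoot.of _ e),
    map_natCast, ← hsum, ← hcard, gamma_lines_sum_sub_card hs]

/-- `Σ_{i < ε e} F^{k-i} K · (ℓ - 1)^i`. -/
noncomputable def extFilSup (P : PosStructure K) (e : K) (k : ℕ) : AddSubgroup (AdjoinRoot (KRR.extPoly P e)) :=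
  ⨆ i ∈ Finset.range (P.aug e).toNat, AddSubgroup.map
        ((AddMonoidHom.mulRight ((AdjoinRoot.root (KRR.extPoly P e) - 1) ^ i)).comp
          (AdjoinRoot.of (KRR.extPoly P e)).toAddMonoidHom)
        (LambdaRing.gammaFiltration P (k - i))

theorem gammaFiltration_ext_le (hr : ∃ r : ℕ, P.aug e = r + 1) [inst : LambdaOps (AdjoinRoot (KRR.extPoly P e))]
    {Pe : PosStructure (AdjoinRoot (KRR.extPoly P e))}
    (he : e ∈ P.pos)
    (hext : IsExtension P Pe (AdjoinRoot.of (KRR.extPoly P e))) (hsplit : HasSplitting _ Pe) (k m : ℕ) (a : K)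
    (ha : a ∈ gammaFiltration P (k - m)) :
    AdjoinRoot.of (KRR.extPoly P e) a * (AdjoinRoot.root (KRR.extPoly P e) - 1) ^ m ∈ extFilSup P e k := by
  unfold extFilSup
  induction m using Nat.strong_induction_on generalizing a with
  | _ m ih =>
    obtain ⟨r, hr⟩ := hr
    have hN : (P.aug e).toNat = r + 1 := by omega
    rcases lt_or_ge m (P.aug e).toNat with hm | hm
    · exact AddSubgroup.mem_iSup_of_mem m (AddSubgroup.mem_iSup_of_mem (mem_range.mpr hm) ⟨a, ha, rfl⟩)
    obtain ⟨c, rfl⟩ : ∃ c, m = (P.aug e).toNat + c := ⟨m - (P.aug e).toNat, by omega⟩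
    have h := root_sub_one_relation hext hsplit he
    rw [sum_range_succ', LambdaRing.gamma, if_pos rfl, map_one, pow_zero, one_mul, one_mul, Nat.sub_zero] at h
    rw [pow_add, eq_neg_of_add_eq_zero_right h, neg_mul, mul_neg, sum_mul, mul_sum]
    refine neg_mem (sum_mem fun i hi => ?_)
    rw [mem_range] at hi
    have hz : P.aug (e - ((P.aug e).toNat : K)) = 0 := by
      rw [map_sub, map_natCast, aug_toNat he, sub_self]
    have ha' : (-1) ^ (i + 1) * LambdaRing.gamma (i + 1) (e - ((P.aug e).toNat : K)) * a ∈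
        gammaFiltration P (k - ((P.aug e).toNat - (i + 1) + c)) := by
      refine gammaFiltration_anti (m := k - ((P.aug e).toNat - (i + 1) + c))
        (n := (i + 1) + (k - ((P.aug e).toNat + c))) (by omega) ?_
      exact mul_mem_add (mul_mem_left _ (gamma_mem hz (i + 1))) ha
    convert ih ((P.aug e).toNat - (i + 1) + c) (by omega) _ ha' using 1
    rw [map_mul, map_mul, map_pow, map_neg, map_one, pow_add]
    ring

theorem mul_mem_extFilSup (hr : ∃ r : ℕ, P.aug e = r + 1) [inst : LambdaOps (AdjoinRoot (KRR.extPoly P e))]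
    {Pe : PosStructure (AdjoinRoot (KRR.extPoly P e))} (he : e ∈ P.pos)
    (hext : IsExtension P Pe (AdjoinRoot.of (KRR.extPoly P e))) (hsplit : HasSplitting _ Pe) (k : ℕ)
    (c : AdjoinRoot (KRR.extPoly P e)) {z : AdjoinRoot (KRR.extPoly P e)} (hz : z ∈ extFilSup P e k) :
    c * z ∈ extFilSup P e k := by
  have hc : c ∈ Algebra.adjoin K {AdjoinRoot.root (KRR.extPoly P e) - 1} := by
    have : Algebra.adjoin K {AdjoinRoot.root (KRR.extPoly P e) - 1} = ⊤ := by
      rw [eq_top_iff, ← AdjoinRoot.adjoinRoot_eq_top, Algebra.adjoin_le_iff, Set.singleton_subset_iff,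
        SetLike.mem_coe]
      rw [← sub_add_cancel (AdjoinRoot.root (KRR.extPoly P e)) 1]
      exact add_mem (Algebra.subset_adjoin (by simp)) (one_mem _)
    rw [this]; trivial
  induction hc using Algebra.adjoin_induction generalizing z with
  | mem x hx =>
    rw [Set.mem_singleton_iff] at hx
    subst hx
    rw [extFilSup] at hz
    induction hz using AddSubgroup.iSup_induction' with
    | hp i y hy =>
      by_cases hi : i ∈ Finset.range (P.aug e).toNat
      · rw [iSup_pos hi] at hy
        obtain ⟨a, ha, rfl⟩ := hy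
        have h := gammaFiltration_ext_le hr he hext hsplit k (i + 1) a (gammaFiltration_anti (by omega) ha)
        convert h using 1
        simp [pow_succ]
        ring
      · rw [iSup_neg hi, AddSubgroup.mem_bot] at hy
        rw [hy, mul_zero]; exact zero_mem _
    | h1 => rw [mul_zero]; exact zero_mem _
    | hadd a b _ _ ha hb => rw [mul_add]; exact add_mem ha hb
  | algebraMap b =>
    rw [extFilSup] at hz
    induction hz using AddSubgroup.iSup_induction' with
    | hp i y hy =>
      by_cases hi : i ∈ Finset.range (P.aug e).toNat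
      · rw [iSup_pos hi] at hy
        obtain ⟨a, ha, rfl⟩ := hy
        refine AddSubgroup.mem_iSup_of_mem i (AddSubgroup.mem_iSup_of_mem hi ⟨b * a, mul_mem_left b ha, ?_⟩)
        simp [AdjoinRoot.algebraMap_eq, mul_assoc]
      · rw [iSup_neg hi, AddSubgroup.mem_bot] at hy
        rw [hy, mul_zero]; exact zero_mem _
    | h1 => rw [mul_zero]; exact zero_mem _
    | hadd a b _ _ ha hb => rw [mul_add]; exact add_mem ha hb
  | add x y _ _ hx hy => rw [add_mul]; exact add_mem (hx hz) (hy hz)
  | mul x y _ _ hx hy => rw [mul_assoc]; exact hx (hy hz)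

theorem gammaFiltration_ext_eq {r : ℕ} (hr : P.aug e = r + 1) [inst : LambdaOps (AdjoinRoot (KRR.extPoly P e))]
    {Pe : PosStructure (AdjoinRoot (KRR.extPoly P e))}
    (he : e ∈ P.pos)
    (hext : IsExtension P Pe (AdjoinRoot.of (KRR.extPoly P e)))
    (hline : Pe.IsLine (AdjoinRoot.root (KRR.extPoly P e))) (hsplit : HasSplitting _ Pe) (k : ℕ) :
    gammaFiltration Pe k = extFilSup P e k := by
  let := intLambdaOps
  have hN : (P.aug e).toNat = r + 1 := by omega
  have hgam : ∀ j, LambdaRing.gamma j (AdjoinRoot.root (KRR.extPoly P e) - 1) =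
      ({AdjoinRoot.root (KRR.extPoly P e) - 1} : Multiset _).esymm j := by
    intro j
    have h := gamma_lines_sum_sub_card (s := {AdjoinRoot.root (KRR.extPoly P e)})
      (fun u hu => by rw [Multiset.mem_singleton.mp hu]; exact hline) j
    simpa using h
  have hg1 : LambdaRing.gamma 1 (AdjoinRoot.root (KRR.extPoly P e) - 1) = AdjoinRoot.root (KRR.extPoly P e) - 1 := by
    rw [hgam]; simp [Multiset.esymm, Multiset.powersetCard_one]
  have hgen : Algebra.adjoin K (Set.range fun _ : Unit =>
      LambdaRing.gamma 1 (AdjoinRoot.root (KRR.extPoly P e) - 1)) = ⊤ := by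
    rw [eq_top_iff, ← AdjoinRoot.adjoinRoot_eq_top, Algebra.adjoin_le_iff, Set.singleton_subset_iff, SetLike.mem_coe,
      hg1]
    rw [← sub_add_cancel (AdjoinRoot.root (KRR.extPoly P e)) 1]
    exact add_mem (Algebra.subset_adjoin ⟨(), by simp⟩) (one_mem _)
  have hmain := gammaFil_eq_weightIdeal (K := ℤ) (A := K) (B := AdjoinRoot (KRR.extPoly P e)) (ι := Unit)
    isBinomial_int (isSpecial_of_hasSplitting hsplit) (augAlgHom P)
    (fun n x => by rw [AdjoinRoot.algebraMap_eq]; exact hext.isLambdaHom n x)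
    (augAlgHom Pe) (isAugLambdaAlg_aug hsplit)
    (fun a => by rw [AdjoinRoot.algebraMap_eq]; exact hext.aug_comp a)
    (AdjoinRoot.root (KRR.extPoly P e) - 1)
    (show Pe.aug _ = 0 by rw [map_sub, map_one, hline.2, sub_self]) (fun _ => 1) (fun _ => le_rfl)
    (fun j hj => by
      rcases eq_or_lt_of_le hj with h | h
      · exact Or.inr ⟨(), h⟩
      · left
        rw [hgam, Multiset.esymm, Multiset.powersetCard_eq_empty _ (by simpa using h)]
        simp)
    hgen k
  ext z
  refine (mem_gammaFil_iff Pe).symm.trans ?_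
  refine (Iff.of_eq (congrArg (fun I => z ∈ I) hmain)).trans ⟨fun hz => ?_, fun hz => ?_⟩
  · rw [weightIdeal] at hz
    induction hz using Submodule.span_induction with
    | mem b hb =>
      obtain ⟨d, a, ha, rfl⟩ := hb
      obtain ⟨n, rfl⟩ : ∃ n, d = Finsupp.single () n := ⟨d (), Finsupp.unique_single d⟩
      rw [Finsupp.sum_single_index (by simp), one_mul] at ha
      rw [AdjoinRoot.algebraMap_eq, Finsupp.prod_single_index (by exact pow_zero _), hg1]
      exact gammaFiltration_ext_le ⟨r, hr⟩ he hext hsplit k n a ((mem_gammaFil_iff P).mp ha)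
    | zero => exact zero_mem _
    | add x y _ _ hx hy => exact add_mem hx hy
    | smul c x _ hx => exact mul_mem_extFilSup ⟨r, hr⟩ he hext hsplit k c hx
  · rw [extFilSup] at hz
    induction hz using AddSubgroup.iSup_induction' with
    | hp i y hy =>
      by_cases hi : i ∈ Finset.range (P.aug e).toNat
      · rw [iSup_pos hi] at hy
        obtain ⟨a, ha, rfl⟩ := hy
        refine Ideal.subset_span ⟨Finsupp.single () i, a, ?_, ?_⟩
        · rw [Finsupp.sum_single_index (by simp), one_mul]
          exact (mem_gammaFil_iff P).mpr ha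
        · rw [Finsupp.prod_single_index (by exact pow_zero _), hg1, AdjoinRoot.algebraMap_eq]
          rfl
      · rw [iSup_neg hi, AddSubgroup.mem_bot] at hy
        rw [hy]; exact zero_mem _
    | h1 => exact zero_mem _
    | hadd a b _ _ ha hb => exact add_mem ha hb

end Groth.Agent.Lambda
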