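import Groth.Agent.Lambda.PolyExt

/-!
# The elementary extension `K[T]/(p_e)` as a λ-ring with positive structure
-/

universe u

open Finset LambdaRing Polynomial

namespace Groth.Agent.Lambda

variable {K : Type u} [CommRing K] [LambdaOps K] {P : PosStructure K} {e : K}

theorem lam_mk_congr (hK : HasSplitting K P) (he : e ∈ P.pos) {q q' : K[X]}
    (h : AdjoinRoot.mk (KRR.extPoly P e) q = AdjoinRoot.mk (KRR.extPoly P e) q') (n : ℕ) :
    AdjoinRoot.mk (KRR.extPoly P e) (LambdaOps.lam n q) =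
      AdjoinRoot.mk (KRR.extPoly P e) (LambdaOps.lam n q') := by
  have hc : q - q' ∈ Ideal.span {KRR.extPoly P e} :=
    Ideal.mem_span_singleton.mpr (AdjoinRoot.mk_eq_mk.mp h)
  obtain ⟨c, rfl⟩ : ∃ c, q = c + q' := ⟨q - q', (sub_add_cancel q q').symm⟩
  rw [add_sub_cancel_right] at hc
  rw [LambdaOps.lam_add, map_sum, sum_range_succ', sum_eq_zero fun i hi => ?_, zero_add,
    LambdaOps.lam_zero, one_mul, Nat.sub_zero]
  rw [map_mul, AdjoinRoot.mk_eq_zero.mpr
    (Ideal.mem_span_singleton.mp (lam_mem_span_extPoly hK he hc (Nat.succ_ne_zero i))), zero_mul]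

/-- The λ-operations of `K[T]/(p_e)`. -/
noncomputable def extLam (P : PosStructure K) (e : K) (n : ℕ) (x : AdjoinRoot (KRR.extPoly P e)) :
    AdjoinRoot (KRR.extPoly P e) :=
  AdjoinRoot.mk (KRR.extPoly P e)
    (LambdaOps.lam n (Function.surjInv (AdjoinRoot.mk_surjective (g := KRR.extPoly P e)) x))

theorem extLam_mk (hK : HasSplitting K P) (he : e ∈ P.pos) (n : ℕ) (q : K[X]) :
    extLam P e n (AdjoinRoot.mk (KRR.extPoly P e) q) = AdjoinRoot.mk (KRR.extPoly P e) (LambdaOps.lam n q) :=
  lam_mk_congr hK he (Function.surjInv_eq (AdjoinRoot.mk_surjective (g := KRR.extPoly P e)) _) n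

/-- The λ-structure of `K[T]/(p_e)`. -/
@[reducible] noncomputable def extLambda (hK : HasSplitting K P) (he : e ∈ P.pos) :
    LambdaOps (AdjoinRoot (KRR.extPoly P e)) where
  lam := extLam P e
  lam_zero x := by rw [extLam, LambdaOps.lam_zero, map_one]
  lam_one x := by rw [extLam, LambdaOps.lam_one, Function.surjInv_eq AdjoinRoot.mk_surjective]
  lam_add k x y := by
    obtain ⟨p, rfl⟩ := AdjoinRoot.mk_surjective x
    obtain ⟨q, rfl⟩ := AdjoinRoot.mk_surjective y
    rw [← map_add, extLam_mk hK he, LambdaOps.lam_add, map_sum]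
    exact sum_congr rfl fun i _ => by rw [map_mul, extLam_mk hK he, extLam_mk hK he]

theorem isSpecial_ext (hK : HasSplitting K P) (he : e ∈ P.pos) :
    @IsSpecial (AdjoinRoot (KRR.extPoly P e)) _ (extLambda hK he) := by
  let := extLambda hK he
  have hmk : ∀ n q, LambdaOps.lam n (AdjoinRoot.mk (KRR.extPoly P e) q) =
      AdjoinRoot.mk (KRR.extPoly P e) (LambdaOps.lam n q) := fun n q => extLam_mk hK he n q
  have hs := isSpecial_poly hK
  refine ⟨fun n hn => ?_, fun n Q hQ x y => ?_, fun i j Q hQ x => ?_⟩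
  · rw [← map_one (AdjoinRoot.mk (KRR.extPoly P e)), hmk, hs.lam_one_eq_zero n hn, map_zero]
  · obtain ⟨p, rfl⟩ := AdjoinRoot.mk_surjective x
    obtain ⟨q, rfl⟩ := AdjoinRoot.mk_surjective y
    rw [← map_mul, hmk, hs.lam_mul n Q hQ p q]
    refine (ringHom_aeval_int _ _ _).trans ?_
    congr 2
    funext k
    rcases k with k | k <;> simp [hmk]
  · obtain ⟨p, rfl⟩ := AdjoinRoot.mk_surjective x
    rw [hmk, hmk, hs.lam_lam i j Q hQ p]
    refine (ringHom_aeval_int _ _ _).trans ?_
    congr 2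
    funext k
    simp [hmk]

theorem extPoly_aug (hK : HasSplitting K P) (he : e ∈ P.pos) :
    (KRR.extPoly P e).eval₂ P.aug 1 = 0 := by
  have hm : (P.aug e).toNat ≠ 0 := by
    have := P.aug_pos e he
    omega
  rw [KRR.extPoly, eval₂_finsetSum]
  simp only [eval₂_mul, eval₂_C, eval₂_pow, eval₂_X, one_pow, mul_one, map_mul, map_pow, map_neg, map_one,
    eval₂_neg, eval₂_one, aug_lam hK he]
  exact Int.alternating_sum_range_choose_of_ne hm

/-- The augmentation of `K[T]/(p_e)`. -/
noncomputable def extAug (hK : HasSplitting K P) (he : e ∈ P.pos) : AdjoinRoot (KRR.extPoly P e) →+* ℤ :=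
  AdjoinRoot.lift P.aug 1 (extPoly_aug hK he)

/-- The positive elements of `K[T]/(p_e)`. -/
inductive ExtPos (P : PosStructure K) (e : K) : AdjoinRoot (KRR.extPoly P e) → Prop
  | of {a : K} : a ∈ P.pos → ExtPos P e (AdjoinRoot.of _ a)
  | root : ExtPos P e (AdjoinRoot.root _)
  | sub : 2 ≤ P.aug e → ExtPos P e (AdjoinRoot.of _ e - AdjoinRoot.root _)
  | add {x y} : ExtPos P e x → ExtPos P e y → ExtPos P e (x + y)
  | mul {x y} : ExtPos P e x → ExtPos P e y → ExtPos P e (x * y)

theorem extLam_of (hK : HasSplitting K P) (he : e ∈ P.pos) (i : ℕ) (x : K) :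
    extLam P e i (AdjoinRoot.of (KRR.extPoly P e) x) = AdjoinRoot.of (KRR.extPoly P e) (LambdaOps.lam i x) := by
  rw [← AdjoinRoot.mk_C, extLam_mk hK he, lam_C, AdjoinRoot.mk_C]

theorem extLam_root (hK : HasSplitting K P) (he : e ∈ P.pos) {i : ℕ} (hi : 2 ≤ i) :
    extLam P e i (AdjoinRoot.root (KRR.extPoly P e)) = 0 := by
  rw [← AdjoinRoot.mk_X, extLam_mk hK he, lam_X (lam_one_eq_zero P) hi, map_zero]

theorem of_injective_ext (he : e ∈ P.pos) : Function.Injective (AdjoinRoot.of (KRR.extPoly P e)) := by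
  nontriviality K
  refine (injective_iff_map_eq_zero _).mpr fun a ha => ?_
  rw [← AdjoinRoot.mk_C, AdjoinRoot.mk_eq_zero] at ha
  by_contra hne
  refine (extPoly_monic (P := P) e).not_dvd_of_natDegree_lt (C_ne_zero.mpr hne) ?_ ha
  have hpos := P.aug_pos e he
  rw [natDegree_C]
  refine lt_of_lt_of_le (show 0 < (P.aug e).toNat by omega) (le_natDegree_of_ne_zero ?_)
  rw [KRR.extPoly, finsetSum_coeff, sum_eq_single 0]
  · simp [LambdaOps.lam_zero]
  · intro i hi h0
    rw [mem_range] at hi
    rw [coeff_C_mul, coeff_X_pow, if_neg (by omega), mul_zero]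
  · simp

theorem extPos_good (hK : HasSplitting K P) (he : e ∈ P.pos) {z : AdjoinRoot (KRR.extPoly P e)}
    (hz : ExtPos P e z) :
    0 < extAug hK he z ∧ (∀ i : ℕ, extAug hK he z < i → extLam P e i z = 0) ∧
      IsUnit (extLam P e (extAug hK he z).toNat z) := by
  let := extLambda hK he
  have hL : ∀ n x, LambdaOps.lam n x = extLam P e n x := fun _ _ => rfl
  obtain ⟨m, hm⟩ : ∃ m : ℕ, P.aug e = (m + 1 : ℕ) := ⟨(P.aug e - 1).toNat, by have := P.aug_pos e he; omega⟩
  have hm' : (P.aug e).toNat = m + 1 := by omega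
  have haugr : extAug hK he (AdjoinRoot.root (KRR.extPoly P e)) = 1 := AdjoinRoot.lift_root _
  have hauge : ∀ a, extAug hK he (AdjoinRoot.of (KRR.extPoly P e) a) = P.aug a := fun a => AdjoinRoot.lift_of _
  have hrec : ∀ i, LambdaOps.lam (i + 1) (AdjoinRoot.of (KRR.extPoly P e) e - AdjoinRoot.root (KRR.extPoly P e)) +
      LambdaOps.lam i (AdjoinRoot.of (KRR.extPoly P e) e - AdjoinRoot.root (KRR.extPoly P e)) *
        AdjoinRoot.root (KRR.extPoly P e) = AdjoinRoot.of (KRR.extPoly P e) (LambdaOps.lam (i + 1) e) := by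
    intro i
    have h := LambdaOps.lam_add (i + 1) (AdjoinRoot.of (KRR.extPoly P e) e - AdjoinRoot.root (KRR.extPoly P e))
      (AdjoinRoot.root (KRR.extPoly P e))
    rw [sub_add_cancel, hL, extLam_of hK he, sum_range_succ, sum_range_succ, sum_eq_zero (fun j hj => by
      rw [mem_range] at hj
      rw [hL (i + 1 - j), extLam_root hK he (by omega), mul_zero]), Nat.sub_self, Nat.add_sub_cancel_left,
      LambdaOps.lam_zero, LambdaOps.lam_one, mul_one, zero_add] at h
    rw [h]; ring
  have htop : LambdaOps.lam (m + 1) (AdjoinRoot.of (KRR.extPoly P e) e - AdjoinRoot.root (KRR.extPoly P e)) = 0 := by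
    rw [lam_sub_root _ (fun i x => extLam_of hK he i x) fun i hi => extLam_root hK he hi]
    have h := root_relation P e
    rw [hm'] at h
    rw [← mul_zero ((-1 : AdjoinRoot (KRR.extPoly P e)) ^ (m + 1)), ← h, mul_sum]
    refine sum_congr rfl fun j hj => ?_
    rw [mem_range] at hj
    obtain ⟨c, hc⟩ : ∃ c, m + 1 = j + c := ⟨m + 1 - j, by omega⟩
    simp only [hc, Nat.add_sub_cancel_left, map_mul, map_pow, map_neg, map_one, pow_add]
    have h1 : (-1 : AdjoinRoot (KRR.extPoly P e)) ^ j * (-1) ^ j = 1 := by rw [← mul_pow]; simp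
    linear_combination (-(-1 : AdjoinRoot (KRR.extPoly P e)) ^ c *
      AdjoinRoot.of (KRR.extPoly P e) (LambdaOps.lam j e) * AdjoinRoot.root (KRR.extPoly P e) ^ c) * h1
  have hu : IsUnit (LambdaOps.lam m (AdjoinRoot.of (KRR.extPoly P e) e - AdjoinRoot.root (KRR.extPoly P e))) ∧
      IsUnit (AdjoinRoot.root (KRR.extPoly P e)) := by
    have h := hrec m
    rw [htop, zero_add] at h
    have h2 := (P.isUnit_lam e he).map (AdjoinRoot.of (KRR.extPoly P e))
    rw [hm', ← h] at h2
    exact ⟨isUnit_of_mul_isUnit_left h2, isUnit_of_mul_isUnit_right h2⟩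
  induction hz with
  | of ha =>
    rename_i a
    rw [hauge]
    refine ⟨P.aug_pos a ha, fun i hi => ?_, ?_⟩
    · rw [extLam_of hK he, P.lam_eq_zero a ha i hi, map_zero]
    · rw [extLam_of hK he]
      exact (P.isUnit_lam a ha).map _
  | root =>
    rw [haugr]
    refine ⟨one_pos, fun i hi => extLam_root hK he (by omega), ?_⟩
    rw [Int.toNat_one, ← hL, LambdaOps.lam_one]
    exact hu.2
  | sub h2 =>
    rw [map_sub, hauge, haugr, hm]
    refine ⟨by omega, fun i hi => ?_, ?_⟩
    · obtain ⟨c, rfl⟩ : ∃ c, i = m + 1 + c := ⟨i - (m + 1), by omega⟩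
      clear hi
      induction c with
      | zero => exact htop
      | succ c ih =>
        have h := hrec (m + 1 + c)
        rw [hL (m + 1 + c), ih, zero_mul, add_zero, P.lam_eq_zero e he (m + 1 + c + 1) (by omega), map_zero] at h
        exact h
    · rw [show (((m + 1 : ℕ) : ℤ) - 1).toNat = m by omega]
      exact hu.1
  | add _ _ ihx ihy =>
    rename_i x y _ _
    obtain ⟨hx0, hx, hxu⟩ := ihx
    obtain ⟨hy0, hy, hyu⟩ := ihy
    rw [map_add]
    refine ⟨by omega, fun i hi => ?_, ?_⟩
    · rw [← hL, LambdaOps.lam_add]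
      refine sum_eq_zero fun j hj => ?_
      rcases le_or_gt (j : ℤ) (extAug hK he x) with h | h
      · rw [hL (i - j), hy _ (by rw [mem_range] at hj; omega), mul_zero]
      · rw [hL j, hx _ h, zero_mul]
    · rw [← hL, LambdaOps.lam_add, sum_eq_single (extAug hK he x).toNat]
      · rw [hL, hL, show (extAug hK he x + extAug hK he y).toNat - (extAug hK he x).toNat =
          (extAug hK he y).toNat by omega]
        exact hxu.mul hyu
      · intro j hj hne
        rcases lt_or_gt_of_ne hne with h | h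
        · rw [hL (_ - j), hy _ (by omega), mul_zero]
        · rw [hL j, hx _ (by omega), zero_mul]
      · intro h
        exact absurd (mem_range.mpr (by omega)) h
  | mul _ _ ihx ihy =>
    rename_i x y _ _
    obtain ⟨hx0, hx, hxu⟩ := ihx
    obtain ⟨hy0, hy, hyu⟩ := ihy
    obtain ⟨a, ha⟩ : ∃ a : ℕ, extAug hK he x = (a + 1 : ℕ) := ⟨(extAug hK he x - 1).toNat, by omega⟩
    obtain ⟨b, hb⟩ : ∃ b : ℕ, extAug hK he y = (b + 1 : ℕ) := ⟨(extAug hK he y - 1).toNat, by omega⟩
    obtain ⟨hv, ht⟩ := lam_mul_of_bounded (isSpecial_ext hK he) (a := a) (b := b) (x := x) (y := y)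
      (fun i hi => hx i (by omega)) (fun i hi => hy i (by omega))
    rw [ha, Int.toNat_natCast] at hxu
    rw [hb, Int.toNat_natCast] at hyu
    rw [map_mul, ha, hb, ← Nat.cast_mul, Int.toNat_natCast]
    refine ⟨by positivity, fun i hi => hv i (by exact_mod_cast hi), ?_⟩
    rw [← hL, ht]
    exact (hxu.pow _).mul (hyu.pow _)

theorem extPos_natCast (P : PosStructure K) (e : K) {n : ℕ} (hn : 0 < n) : ExtPos P e (n : AdjoinRoot (KRR.extPoly P e)) := by
  rw [← map_natCast (AdjoinRoot.of (KRR.extPoly P e))]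
  exact ExtPos.of (P.natCast_mem n hn)

theorem extPos_exists_sub (P : PosStructure K) (e : K) (x : AdjoinRoot (KRR.extPoly P e)) :
    ∃ a b, ExtPos P e a ∧ ExtPos P e b ∧ x = a - b := by
  obtain ⟨q, rfl⟩ := AdjoinRoot.mk_surjective x
  induction q using Polynomial.induction_on' with
  | add p q hp hq =>
    obtain ⟨a, b, ha, hb, h⟩ := hp
    obtain ⟨c, d, hc, hd, h'⟩ := hq
    exact ⟨a + c, b + d, ha.add hc, hb.add hd, by rw [map_add, h, h']; ring⟩
  | monomial i c =>
    obtain ⟨a, b, ha, hb, rfl⟩ := P.exists_sub c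
    have hp : ∀ (i : ℕ) {a : K}, a ∈ P.pos →
        ExtPos P e (AdjoinRoot.mk (KRR.extPoly P e) (Polynomial.monomial i a)) := by
      intro i
      induction i with
      | zero => intro a ha; rw [monomial_zero_left, AdjoinRoot.mk_C]; exact ExtPos.of ha
      | succ i ih =>
        intro a ha
        rw [← monomial_mul_X, map_mul, AdjoinRoot.mk_X]
        exact (ih ha).mul ExtPos.root
    exact ⟨_, _, hp i ha, hp i hb, by rw [map_sub, map_sub]⟩

/-- The positive structure of `K[T]/(p_e)`. -/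
@[reducible] noncomputable def extPosStructure (hK : HasSplitting K P) (he : e ∈ P.pos) :
    @PosStructure _ _ (extLambda hK he) :=
  letI := extLambda hK he
  { aug := extAug hK he
    aug_surjective := fun n => by
      obtain ⟨a, ha⟩ := P.aug_surjective n
      exact ⟨AdjoinRoot.of _ a, by rw [extAug, AdjoinRoot.lift_of, ha]⟩
    pos := {x | ExtPos P e x}
    add_mem := fun _ _ ha hb => ExtPos.add ha hb
    mul_mem := fun _ _ ha hb => ExtPos.mul ha hb
    natCast_mem := fun n hn => extPos_natCast P e hn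
    exists_sub := extPos_exists_sub P e
    aug_pos := fun z hz => (extPos_good hK he hz).1
    lam_eq_zero := fun z hz => (extPos_good hK he hz).2.1
    isUnit_lam := fun z hz => (extPos_good hK he hz).2.2 }

theorem isExtension_ext (hK : HasSplitting K P) (he : e ∈ P.pos) :
    @IsExtension K _ _ _ _ (extLambda hK he) P (extPosStructure hK he) (AdjoinRoot.of (KRR.extPoly P e)) := by
  let := extLambda hK he
  exact ⟨fun i x => (extLam_of hK he i x).symm, of_injective_ext he,
    fun x => AdjoinRoot.lift_of (extPoly_aug hK he), fun a ha => ExtPos.of ha⟩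

theorem isLine_root_ext (hK : HasSplitting K P) (he : e ∈ P.pos) :
    @PosStructure.IsLine _ _ (extLambda hK he) (extPosStructure hK he) (AdjoinRoot.root (KRR.extPoly P e)) := by
  let := extLambda hK he
  exact ⟨ExtPos.root, AdjoinRoot.lift_root (extPoly_aug hK he)⟩

end Groth.Agent.Lambda
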