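import Groth.Agent.Lambda.Rel

/-!
# Several families of variables
-/

universe v

open MvPolynomial Finset LambdaRing

namespace Groth.Agent.Lambda

section Injective

variable {σ τ κ : Type} [Fintype σ]

/-- The map `e_k(X), g` on two blocks of variables. -/
noncomputable def blockEval (σ : Type) [Fintype σ] (N : ℕ) (g : κ → MvPolynomial τ ℤ) :
    MvPolynomial (Fin N ⊕ κ) ℤ →ₐ[ℤ] MvPolynomial (σ ⊕ τ) ℤ :=
  aeval (Sum.elim (fun k : Fin N => rename Sum.inl (esymm σ ℤ ((k : ℕ) + 1)))
    (fun i : κ => rename Sum.inr (g i)))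

theorem sumAlgEquiv_blockEval {N : ℕ} (g : κ → MvPolynomial τ ℤ) (Q : MvPolynomial (Fin N ⊕ κ) ℤ) :
    sumAlgEquiv ℤ σ τ (blockEval σ N g Q) =
      esymmEval σ (MvPolynomial τ ℤ) N
        (MvPolynomial.map (aeval g : MvPolynomial κ ℤ →ₐ[ℤ] MvPolynomial τ ℤ).toRingHom
          (sumAlgEquiv ℤ (Fin N) κ Q)) := by
  induction Q using MvPolynomial.induction_on with
  | C r => simp [blockEval, esymmEval]
  | add p q hp hq => simp only [map_add, hp, hq]
  | mul_X p i hp =>
    simp only [map_mul, hp]
    congr 1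
    rcases i with i | i
    · rw [sumAlgEquiv_X_inl, map_X, blockEval, aeval_X, Sum.elim_inl, esymmEval, aeval_X,
        esymm, esymm, map_sum, map_sum]
      refine sum_congr rfl fun s _ => ?_
      simp [map_prod]
    · rw [sumAlgEquiv_X_inr, map_C, blockEval, aeval_X, Sum.elim_inr, esymmEval, aeval_C,
        algebraMap_eq, AlgHom.toRingHom_eq_coe, RingHom.coe_coe, aeval_X,
        ← AlgEquiv.coe_toAlgHom, ← AlgHom.comp_apply, sumAlgEquiv_comp_rename_inr]
      rfl

theorem blockEval_injective {N : ℕ} (hN : N ≤ Fintype.card σ) {g : κ → MvPolynomial τ ℤ}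
    (hg : Function.Injective (aeval g : MvPolynomial κ ℤ →ₐ[ℤ] MvPolynomial τ ℤ)) :
    Function.Injective (blockEval σ N g) := by
  intro p q h
  have h' := congrArg (sumAlgEquiv ℤ σ τ) h
  rw [sumAlgEquiv_blockEval, sumAlgEquiv_blockEval] at h'
  exact (sumAlgEquiv ℤ (Fin N) κ).injective (MvPolynomial.map_injective _ hg (esymmEval_injective hN h'))

end Injective

/-- The weight of a coordinate `γ^{k+1}(x_r)`. -/
def famWeight (r N : ℕ) (v : Fin r × Fin N) : ℕ := (v.2 : ℕ) + 1

/-- The value `e_{k+1}(w_r)` of a coordinate in `ℤ[w]`. -/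
noncomputable def famVar (r N : ℕ) (v : Fin r × Fin N) : MvPolynomial (Fin r × Fin N) ℤ :=
  rename (Prod.mk v.1) (esymm (Fin N) ℤ ((v.2 : ℕ) + 1))

/-- `Σ_a w_{r,a}`. -/
noncomputable def famElt (r N : ℕ) (i : Fin r) : MvPolynomial (Fin r × Fin N) ℤ :=
  ∑ a : Fin N, X (i, a)

/-- The value of a coordinate at elements `x_r`. -/
def famVal {A : Type v} [CommRing A] [LambdaOps A] {r N : ℕ} (x : Fin r → A) (v : Fin r × Fin N) : A :=
  LambdaRing.gamma ((v.2 : ℕ) + 1) (x v.1)

theorem famVar_homogeneous (r N : ℕ) (v : Fin r × Fin N) :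
    IsWeightedHomogeneous (fun _ : Fin r × Fin N => 1) (famVar r N v) (famWeight r N v) := by
  rw [famVar, esymm, map_sum]
  refine IsWeightedHomogeneous.sum _ _ _ fun s hs => ?_
  rw [map_prod]
  have h := IsWeightedHomogeneous.prod (w := fun _ : Fin r × Fin N => 1) s
    (fun a : Fin N => rename (Prod.mk v.1) (X a : MvPolynomial (Fin N) ℤ)) (fun _ => 1)
    (fun a _ => by rw [rename_X]; exact isWeightedHomogeneous_X ℤ _ _)
  rw [sum_const, (mem_powersetCard.mp hs).2, smul_eq_mul, mul_one] at h
  exact h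

/-- Splitting off the first family. -/
def famSplit (r N : ℕ) : Fin (r + 1) × Fin N ≃ Fin N ⊕ (Fin r × Fin N) where
  toFun v := Fin.cases (Sum.inl v.2) (fun i => Sum.inr (i, v.2)) v.1
  invFun := Sum.elim (fun k => (0, k)) (fun v => (v.1.succ, v.2))
  left_inv := by rintro ⟨i, k⟩; cases i using Fin.cases <;> simp
  right_inv := by rintro (k | ⟨i, k⟩) <;> simp

theorem famVar_injective (r N : ℕ) :
    Function.Injective (aeval (famVar r N) : MvPolynomial (Fin r × Fin N) ℤ →ₐ[ℤ] MvPolynomial (Fin r × Fin N) ℤ) := by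
  induction r with
  | zero =>
    intro p q h
    rw [eq_C_of_isEmpty p, eq_C_of_isEmpty q] at h ⊢
    simpa using h
  | succ r ih =>
    intro p q h
    have hb := blockEval_injective (σ := Fin N) (N := N) (Fintype.card_fin N).ge ih
    have key : ∀ P : MvPolynomial (Fin (r + 1) × Fin N) ℤ,
        rename (famSplit r N) (aeval (famVar (r + 1) N) P) =
          blockEval (Fin N) N (famVar r N) (rename (famSplit r N) P) := by
      intro P
      rw [blockEval, aeval_rename, ← AlgHom.comp_apply, comp_aeval]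
      congr 2
      funext v
      obtain ⟨i, k⟩ := v
      cases i using Fin.cases with
      | zero => simp only [Function.comp_apply, famVar, rename_rename]; rfl
      | succ i => simp only [Function.comp_apply, famVar, rename_rename]; simp [famSplit, famVar, rename_rename]; rfl
    have := congrArg (rename (famSplit r N)) h
    rw [key, key] at this
    exact (rename_injective _ (famSplit r N).injective) (hb this)

theorem gamma_famElt (r N : ℕ) (i : Fin r) (l : ℕ) :
    LambdaRing.gamma l (famElt r N i) = rename (Prod.mk i) (esymm (Fin N) ℤ l) := by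
  have h := gamma_multiset_sum_sub_one (K := MvPolynomial (Fin r × Fin N) ℤ) lam_one_line
    (s := (Finset.univ : Finset (Fin N)).val.map fun a => 1 + X (i, a)) (by
      intro u hu
      obtain ⟨a, -, rfl⟩ := Multiset.mem_map.mp hu
      exact lam_one_add_X (i, a)) l
  rw [Multiset.map_map] at h
  simp only [Function.comp_def, add_sub_cancel_left] at h
  rw [esymm_eq_multiset_esymm, map_multiset_esymm, Multiset.map_map]
  simp only [Function.comp_def, rename_X]
  rw [← h, famElt, Finset.sum_eq_multiset_sum]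

section Coord

variable {A : Type v} [CommRing A] [LambdaOps A] {r N : ℕ} (x : Fin r → A)

theorem rel_gamma_famElt (i : Fin r) (l : ℕ) (hl : l ≤ N) :
    Rel (famWeight r N) (famVar r N) (famVal x) l (LambdaRing.gamma l (famElt r N i))
      (LambdaRing.gamma l (x i)) := by
  rcases l with _ | k
  · simpa [gamma_zero] using rel_one 0
  · rw [gamma_famElt]
    exact rel_var (wt := famWeight r N) (ζ := famVar r N) (α := famVal x) (i, (⟨k, hl⟩ : Fin N))

theorem isCoord_fam (hA : IsSpecial A) : IsCoord (famWeight r N) (famVar r N) (famVal x) N := by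
  intro v
  have h := lamRel_gamma (N := N) isSpecial_line hA (rel_gamma_famElt x v.1) ((v.2 : ℕ) + 1)
  rw [gamma_famElt] at h
  exact h

theorem rel_famElt (hN : 1 ≤ N) (i : Fin r) :
    Rel (famWeight r N) (famVar r N) (famVal x) 1 (famElt r N i) (x i) := by
  simpa [gamma_one] using rel_gamma_famElt (N := N) x i 1 hN

theorem famElt_mem (i : Fin r) : famElt r N i ∈ wIdeal (Fin r × Fin N) :=
  sum_mem fun a _ => Ideal.subset_span ⟨(i, a), rfl⟩

/-- Lower weight bound. -/
theorem exists_poly_ge {w m : ℕ} {z : MvPolynomial (Fin r × Fin N) ℤ} {a : A}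
    (h : Rel (famWeight r N) (famVar r N) (famVal x) w z a) (hz : z ∈ wIdeal (Fin r × Fin N) ^ m) :
    ∃ Q : MvPolynomial (Fin r × Fin N) ℤ, (∀ d ∈ Q.support, m ≤ Finsupp.weight (famWeight r N) d) ∧
      aeval (famVal x) Q = a := by
  obtain ⟨Q, hQ, -, h2⟩ := Rel.exists_ge_of_mem_pow (famVar_homogeneous r N) (famVar_injective r N) h hz
  exact ⟨Q, fun d hd => (hQ d hd).1, h2⟩

end Coord

end Groth.Agent.Lambda
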