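import Groth.Agent.Lambda.GammaFil
import Mathlib.RingTheory.Adjoin.Basic

/-!
# The γ-filtration of `A[γ^1 x, γ^2 x, …]`
-/

universe u v w

open MvPolynomial Finset LambdaRing

namespace Groth.Agent.Lambda

theorem algebraMap_gamma {A : Type v} {B : Type w} [CommRing A] [LambdaOps A] [CommRing B] [LambdaOps B]
    [Algebra A B] (hAB : IsLambdaAlg A B) (r : ℕ) (a : A) :
    algebraMap A B (LambdaRing.gamma r a) = LambdaRing.gamma r (algebraMap A B a) := by
  unfold LambdaRing.gamma
  split_ifs with h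
  · exact map_one _
  · rw [map_sum]
    refine sum_congr rfl fun j _ => ?_
    rw [map_mul, map_natCast, apply_ite (algebraMap A B), map_zero, hAB]

section Span

variable {A : Type v} {B : Type w} [CommRing A] [CommRing B] [Algebra A B] {ι : Type*}

/-- The generators `a · ∏ g_i^{e_i}` of weight `≥ k`. -/
def weightGens (F : ℕ → Ideal A) (deg : ι → ℕ) (g : ι → B) (k : ℕ) : Set B :=
  {b : B | ∃ (e : ι →₀ ℕ) (a : A), a ∈ F (k - e.sum fun j n => deg j * n) ∧
    b = algebraMap A B a * e.prod fun j n => g j ^ n}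

/-- The ideals they span. -/
def weightIdeal (F : ℕ → Ideal A) (deg : ι → ℕ) (g : ι → B) (k : ℕ) : Ideal B :=
  Ideal.span (weightGens F deg g k)

theorem weightIdeal_isMulFiltration {F : ℕ → Ideal A} (hF : IsMulFiltration F) (deg : ι → ℕ)
    (g : ι → B) : IsMulFiltration (weightIdeal F deg g) where
  zero := by
    rw [Ideal.eq_top_iff_one]
    exact Ideal.subset_span ⟨0, 1, by simp [hF.zero], by simp⟩
  anti i j h := Ideal.span_mono fun b ⟨e, a, ha, hb⟩ =>
    ⟨e, a, hF.anti (Nat.sub_le_sub_right h _) ha, hb⟩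
  mul_mem {i j x y} hx hy := by
    classical
    have h := Ideal.mul_mem_mul hx hy
    rw [weightIdeal, weightIdeal, Ideal.span_mul_span'] at h
    refine Ideal.span_mono ?_ h
    rintro z ⟨_, ⟨e, a, ha, rfl⟩, _, ⟨e', a', ha', rfl⟩, rfl⟩
    refine ⟨e + e', a * a', ?_, ?_⟩
    · rw [Finsupp.sum_add_index' (h := fun j n => deg j * n) (fun _ => Nat.mul_zero _) (fun _ _ _ => Nat.mul_add _ _ _)]
      refine hF.anti ?_ (hF.mul_mem ha ha')
      omega
    · rw [map_mul, Finsupp.prod_add_index' (fun _ => pow_zero _) (fun _ _ _ => pow_add _ _ _)]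
      ring

end Span

section Free

variable {K : Type u} [CommRing K] [LambdaOps K] [BinomialRing K]
  {A : Type v} [CommRing A] [LambdaOps A] [Algebra K A]
  {B : Type w} [CommRing B] [LambdaOps B] [Algebra K B] [Algebra A B] [IsScalarTower K A B]
  {ι : Type*}

theorem gamma_monomial_mem (hB : IsSpecial B) {T : ℕ → Ideal B} (hT : IsMulFiltration T)
    (y : Fin 2 → B) (hy : ∀ i j, LambdaRing.gamma j (y i) ∈ T j) (deg : ι → ℕ) (hdeg : ∀ i, 1 ≤ deg i)
    (e : ι →₀ ℕ) (q : ℕ) (he : e ≠ 0) (r : ℕ) :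
    LambdaRing.gamma r (y 1 ^ q * e.prod fun i n => LambdaRing.gamma (deg i) (y 0) ^ n) ∈ T r := by
  classical
  obtain ⟨N, hN1, hNw, hNd⟩ : ∃ N, 1 ≤ N ∧ r * (q + ∑ i ∈ e.support, e i * deg i) ≤ N ∧
      ∀ i ∈ e.support, deg i ≤ N :=
    ⟨r * (q + ∑ i ∈ e.support, e i * deg i) + (∑ i ∈ e.support, deg i) + 1, by omega, by omega,
      fun i hi => by have := single_le_sum (f := deg) (fun a _ => Nat.zero_le _) hi; omega⟩
  have h1 : Rel (famWeight 2 N) (famVar 2 N) (famVal y) q (famElt 2 N 1 ^ q) (y 1 ^ q) := by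
    have h := (rel_famElt (N := N) y hN1 1).pow q
    rwa [mul_one] at h
  have h2 : Rel (famWeight 2 N) (famVar 2 N) (famVal y) (∑ i ∈ e.support, e i * deg i)
      (∏ i ∈ e.support, LambdaRing.gamma (deg i) (famElt 2 N 0) ^ e i)
      (e.prod fun i n => LambdaRing.gamma (deg i) (y 0) ^ n) := by
    rw [Finsupp.prod]
    exact rel_prod _ fun i hi => (rel_gamma_famElt y 0 (deg i) (hNd i hi)).pow (e i)
  obtain ⟨i, hi⟩ := Finsupp.support_nonempty_iff.mpr he
  have hz : famElt 2 N 1 ^ q * ∏ i ∈ e.support, LambdaRing.gamma (deg i) (famElt 2 N 0) ^ e i ∈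
      wIdeal (Fin 2 × Fin N) := by
    refine Ideal.mul_mem_left _ _ ?_
    rw [← mul_prod_erase _ _ hi]
    refine Ideal.mul_mem_right _ _ (Ideal.pow_mem_of_mem _ ?_ _ (Nat.pos_of_ne_zero (Finsupp.mem_support_iff.mp hi)))
    exact Ideal.pow_le_self (by have := hdeg i; omega) (gamma_mem_wIdeal_pow (famElt_mem 0) _)
  have hrelγ := IsCoord.rel_gamma isSpecial_line hB (isCoord_fam (N := N) y hB) (h1.mul h2) (n := r) hNw
  obtain ⟨Q, hQ, hQa⟩ := exists_poly_ge y hrelγ (gamma_mem_wIdeal_pow hz r)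
  have hv : ∀ v : Fin 2 × Fin N, famVal y v ∈ T (famWeight 2 N v) := fun v => hy v.1 _
  have hfin := IsMulFiltration.aeval_mem hT hv Q hQ
  rw [hQa] at hfin
  exact hfin

theorem gammaFil_eq_weightIdeal (hKb : IsBinomial K) (hB : IsSpecial B)
    (εA : A →ₐ[K] K) (hAB : IsLambdaAlg A B) (εB : B →ₐ[K] K) (hεB : IsAugLambdaAlg K B εB)
    (hεAB : ∀ a : A, εB (algebraMap A B a) = εA a) (x : B) (hx : εB x = 0)
    (deg : ι → ℕ) (hdeg : ∀ i, 1 ≤ deg i)
    (hall : ∀ j, 1 ≤ j → LambdaRing.gamma j x = 0 ∨ ∃ i, deg i = j)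
    (hgen : Algebra.adjoin A (Set.range fun i => LambdaRing.gamma (deg i) x) = ⊤) (k : ℕ) :
    gammaFil (εB : B →+* K) k =
      weightIdeal (gammaFil (εA : A →+* K)) deg (fun i => LambdaRing.gamma (deg i) x) k := by
  classical
  set F := gammaFil (εA : A →+* K)
  set g := fun i => LambdaRing.gamma (deg i) x with hg
  have hF : IsMulFiltration F := gammaFil_isMulFiltration _
  have hFB := gammaFil_isMulFiltration (εB : B →+* K)
  set T := weightIdeal F deg g
  have hT : IsMulFiltration T := weightIdeal_isMulFiltration hF deg g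
  refine le_antisymm ?_ ?_
  swap
  · refine Ideal.span_le.mpr ?_
    rintro b ⟨e, a, ha, rfl⟩
    have h1 : algebraMap A B a ∈ gammaFil (εB : B →+* K) (k - e.sum fun j n => deg j * n) := by
      suffices h : F (k - e.sum fun j n => deg j * n) ≤
          (gammaFil (εB : B →+* K) (k - e.sum fun j n => deg j * n)).comap (algebraMap A B) from h ha
      refine gammaFil_le (T := fun n => (gammaFil (εB : B →+* K) n).comap (algebraMap A B)) ?_ _ ?_ _
      · exact ⟨by simp [hFB.zero], fun i j h => Ideal.comap_mono (hFB.anti h),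
          fun {i j a b} ha hb => by
            rw [Ideal.mem_comap] at ha hb ⊢
            rw [map_mul]; exact hFB.mul_mem ha hb⟩
      · intro a ha r
        rw [Ideal.mem_comap, algebraMap_gamma hAB]
        exact gamma_mem_gammaFil (show εB (algebraMap A B a) = 0 by rw [hεAB]; exact ha) r
    refine hFB.anti ?_ (hFB.mul_mem h1 (show _ ∈ gammaFil (εB : B →+* K) (e.sum fun j n => deg j * n) from ?_))
    · omega
    · rw [Finsupp.prod, Finsupp.sum]
      refine hFB.prod_mem _ _ _ fun i _ => ?_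
      rw [mul_comm]
      exact hFB.pow_mem (gamma_mem_gammaFil hx _) _
  refine gammaFil_le hT _ (fun y hy => ?_) k
  rw [← hT.mem_gammaSubgroup]
  -- the basic memberships
  have hxT : ∀ j, LambdaRing.gamma j x ∈ T j := by
    intro j
    rcases Nat.eq_zero_or_pos j with rfl | hj
    · simp [hT.zero]
    rcases hall j hj with h | ⟨i, rfl⟩
    · rw [h]; exact zero_mem _
    · refine Ideal.subset_span ⟨Finsupp.single i 1, 1, ?_, by simp [hg]⟩
      rw [Finsupp.sum_single_index (by simp), mul_one, Nat.sub_self, hF.zero]; trivial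
  have haT : ∀ (a : A) (j : ℕ), LambdaRing.gamma j (algebraMap A B (a - algebraMap K A (εA a))) ∈ T j := by
    intro a j
    refine Ideal.subset_span ⟨0, LambdaRing.gamma j (a - algebraMap K A (εA a)), ?_, by simp [algebraMap_gamma hAB]⟩
    simpa using gamma_mem_gammaFil (ε := (εA : A →+* K)) (show εA (a - algebraMap K A (εA a)) = 0 by simp) j
  have hxy : ∀ (a : A), ∀ i j, LambdaRing.gamma j (![x, algebraMap A B (a - algebraMap K A (εA a))] i) ∈ T j := by
    intro a i j
    fin_cases i
    · exact hxT j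
    · exact haT a j
  suffices H : ∀ y : B, y - algebraMap K B (εB y) ∈ hT.gammaSubgroup by
    have := H y
    rwa [show εB y = 0 from hy, map_zero, sub_zero] at this
  intro y
  obtain ⟨P, rfl⟩ : ∃ P : MvPolynomial ι A, aeval g P = y := by
    have : y ∈ (aeval g : MvPolynomial ι A →ₐ[A] B).range := by
      rw [← Algebra.adjoin_range_eq_range_aeval, hgen]; trivial
    exact this
  induction P using MvPolynomial.induction_on' with
  | add P Q hP hQ =>
    rw [map_add, map_add, map_add, add_sub_add_comm]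
    exact add_mem hP hQ
  | monomial e a =>
    rw [aeval_monomial]
    rcases eq_or_ne e 0 with rfl | he
    · rw [Finsupp.prod_zero_index, mul_one, hεAB, IsScalarTower.algebraMap_apply K A B, ← map_sub,
        hT.mem_gammaSubgroup]
      exact haT a
    · have hm : εB (e.prod fun i n => g i ^ n) = 0 := by
        obtain ⟨i, hi⟩ := Finsupp.support_nonempty_iff.mpr he
        rw [Finsupp.prod, map_prod]
        refine prod_eq_zero hi ?_
        rw [map_pow, show εB (g i) = 0 from gamma_map_zero (ε := (εB : B →+* K)) hεB.map_lam hx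
          (by have := hdeg i; omega), zero_pow (Finsupp.mem_support_iff.mp hi)]
      rw [map_mul, hm, mul_zero, map_zero, sub_zero,
        show algebraMap A B a = algebraMap A B (a - algebraMap K A (εA a)) + algebraMap K B (εA a) by
          rw [map_sub, ← IsScalarTower.algebraMap_apply K A B]; ring,
        add_mul]
      refine add_mem ?_ (hT.algebraMap_mul_mem hKb hB hεB.isLambdaAlg _ ?_)
      · rw [hT.mem_gammaSubgroup]
        intro r
        simpa [hg] using gamma_monomial_mem hB hT _ (hxy a) deg hdeg e 1 he r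
      · rw [hT.mem_gammaSubgroup]
        intro r
        simpa [hg] using gamma_monomial_mem hB hT _ (hxy a) deg hdeg e 0 he r

end Free

theorem gammaFil_id_of_pos {K : Type u} [CommRing K] [LambdaOps K] {n : ℕ} (hn : n ≠ 0) :
    gammaFil ((AlgHom.id K K : K →ₐ[K] K) : K →+* K) n = ⊥ := by
  rw [gammaFil_eq_span, Ideal.span_eq_bot]
  rintro y ⟨l, hl, hs, rfl⟩
  have : ∃ p ∈ l, p.1 ≠ 0 := by
    by_contra! h
    have : (l.map Prod.fst).sum = 0 := List.sum_eq_zero (by simpa using fun a b hab => h (a, b) hab)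
    omega
  obtain ⟨p, hp, hp0⟩ := this
  refine List.prod_eq_zero (List.mem_map.mpr ⟨p, hp, ?_⟩)
  rw [show p.2 = 0 from hl p hp, gamma_zero_right hp0]

end Groth.Agent.Lambda
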