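import Groth.Agent.Lambda.Gr
import Mathlib.RingTheory.Localization.BaseChange
import Mathlib.RingTheory.TensorProduct.Basic
import Mathlib.RingTheory.IsTensorProduct

/-!
# `ch : ℚ ⊗ K → ℚGr K` is bijective
-/

universe u

open Finset LambdaRing
open scoped TensorProduct

namespace Groth.Agent.Lambda

theorem exists_den {M : Type u} [AddCommGroup M] (ξ : ℚ ⊗[ℤ] M) :
    ∃ (N : ℕ) (x : M), N ≠ 0 ∧ (N : ℚ) • ξ = (1 : ℚ) ⊗ₜ[ℤ] x := by
  induction ξ using TensorProduct.induction_on with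
  | zero => exact ⟨1, 0, one_ne_zero, by simp⟩
  | tmul q x =>
    refine ⟨q.den, q.num • x, q.den_nz, ?_⟩
    rw [TensorProduct.smul_tmul', smul_eq_mul, mul_comm, Rat.mul_den_eq_num, ← TensorProduct.smul_tmul,
      zsmul_eq_mul, mul_one]
  | add a b ha hb =>
    obtain ⟨N, x, hN, hx⟩ := ha
    obtain ⟨M', y, hM, hy⟩ := hb
    refine ⟨N * M', (M' : ℤ) • x + (N : ℤ) • y, Nat.mul_ne_zero hN hM, ?_⟩
    rw [TensorProduct.tmul_add, TensorProduct.tmul_smul, TensorProduct.tmul_smul, ← hx, ← hy,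
      ← Int.cast_smul_eq_zsmul ℚ (M' : ℤ), ← Int.cast_smul_eq_zsmul ℚ (N : ℤ), Int.cast_natCast, Int.cast_natCast,
      smul_smul, smul_smul, smul_add, Nat.cast_mul, mul_comm (M' : ℚ)]

theorem exists_smul_eq_zero_of_one_tmul {M : Type u} [AddCommGroup M] {x : M}
    (h : (1 : ℚ) ⊗ₜ[ℤ] x = 0) : ∃ N : ℕ, N ≠ 0 ∧ N • x = 0 := by
  haveI : IsLocalizedModule (nonZeroDivisors ℤ) (TensorProduct.mk ℤ ℚ M 1) :=
    (isLocalizedModule_iff_isBaseChange (nonZeroDivisors ℤ) ℚ _).mpr (TensorProduct.isBaseChange ℤ M ℚ)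
  obtain ⟨⟨s, hs⟩, hsx⟩ :=
    (IsLocalizedModule.eq_zero_iff (nonZeroDivisors ℤ) (TensorProduct.mk ℤ ℚ M 1)).mp h
  refine ⟨s.natAbs, Int.natAbs_ne_zero.mpr (nonZeroDivisors.ne_zero hs), ?_⟩
  rw [← natCast_zsmul]
  rcases Int.natAbs_eq s with h | h
  · rw [← h]; exact hsx
  · rw [show ((s.natAbs : ℕ) : ℤ) = -s by omega, neg_smul, show s • x = 0 from hsx, neg_zero]

variable {K : Type u} [CommRing K] [LambdaOps K] {P : PosStructure K}

theorem gamma_mem_of_mem (hK : HasSplitting K P) {n : ℕ} (hn : 1 ≤ n) {x : K}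
    (hx : x ∈ gammaFiltration P n) :
    (∀ r, r ≠ 0 → LambdaRing.gamma r x ∈ gammaFiltration P n) ∧
      LambdaRing.gamma n x - (-1 : K) ^ (n - 1) * ((n - 1).factorial : K) * x ∈ gammaFiltration P (n + 1) := by
  letI := intLambdaOps
  have hA := isSpecial_of_hasSplitting hK
  have hε := isAugLambdaAlg_aug hK
  have hz : x ∈ gammaFil ((augAlgHom P : K →ₐ[ℤ] ℤ) : K →+* ℤ) n := (mem_gammaFil_iff P).mpr hx
  constructor
  · intro r hr
    exact (mem_gammaFil_iff P).mp
      (gamma_mem_of_lam_mem (fun j hj => (lam_leading isBinomial_int hA _ hε hn hz j hj).1) hr)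
  · exact (mem_gammaFil_iff P).mp (gamma_leading isBinomial_int hA _ hε hn hz)

theorem psiS_gammaSeries_of_mem (hK : HasSplitting K P) {n : ℕ} (hn : 1 ≤ n) {x : K}
    (hx : x ∈ gammaFiltration P n) :
    (∀ k, psiS (gammaSeries x) k ∈ gammaFiltration P n) ∧
      psiS (gammaSeries x) n - (n.factorial : K) * x ∈ gammaFiltration P (n + 1) := by
  obtain ⟨hmem, hlead⟩ := gamma_mem_of_mem hK hn hx
  have hall : ∀ k, psiS (gammaSeries x) k ∈ gammaFiltration P n := by
    intro k
    induction k using Nat.strong_induction_on with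
    | _ k ih =>
      rcases k with _ | p
      · simp [psiS]
      rw [psiS_succ_eq (constantCoeff_gammaSeries x), coeff_gammaSeries]
      refine mul_mem_left _ (sub_mem (mul_mem_left _ (hmem _ (Nat.succ_ne_zero p))) (sum_mem fun i hi => ?_))
      rw [mem_range] at hi
      rw [coeff_gammaSeries]
      exact mul_mem_left _ (hmem _ (by omega))
  refine ⟨hall, ?_⟩
  obtain ⟨p, rfl⟩ : ∃ p, n = p + 1 := ⟨n - 1, by omega⟩
  rw [psiS_succ_eq (constantCoeff_gammaSeries x), coeff_gammaSeries]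
  rw [Nat.add_sub_cancel] at hlead
  have hsum : ∑ i ∈ range p, (-1 : K) ^ i * psiS (gammaSeries x) (i + 1) * PowerSeries.coeff (p - i) (gammaSeries x) ∈
      gammaFiltration P (p + 1 + 1) := by
    refine sum_mem fun i hi => ?_
    rw [mem_range] at hi
    rw [mul_assoc, coeff_gammaSeries]
    exact mul_mem_left _ (gammaFiltration_anti (by omega) (mul_mem_add (hall (i + 1)) (hmem (p - i) (by omega))))
  have := sub_mem (mul_mem_left ((-1 : K) ^ p * ((p + 1 : ℕ) : K)) hlead) (mul_mem_left ((-1 : K) ^ p) hsum)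
  convert this using 1
  have h1 : (-1 : K) ^ p * (-1) ^ p = 1 := by rw [← mul_pow]; simp
  rw [Nat.factorial_succ, Nat.cast_mul]
  linear_combination (((p + 1 : ℕ) : K) * (p.factorial : K) * x) * h1

theorem chC_of_mem (hK : HasSplitting K P) {n : ℕ} {x : K} (hx : x ∈ gammaFiltration P n) :
    (∀ k, k < n → chC P x k = 0) ∧ chC P x n = KGr.grK P (n : ℤ) x := by
  rcases Nat.eq_zero_or_pos n with rfl | hn
  · refine ⟨fun k hk => absurd hk (Nat.not_lt_zero k), ?_⟩
    simp only [chC]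
    have h := grK_eq_zero (P := P) (n := 0) (mem_one_of_aug_eq_zero (aug_sub_aug P x))
    rw [grK_sub (by rw [gammaFiltration_zero]; trivial) (by rw [gammaFiltration_zero]; trivial), sub_eq_zero] at h
    rw [h, grK_intCast, map_intCast]
  have hx0 : P.aug x = 0 := aug_eq_zero_of_mem hK (by omega) hx
  obtain ⟨hall, hlead⟩ := psiS_gammaSeries_of_mem hK hn hx
  refine ⟨fun k hk => ?_, ?_⟩
  · rcases k with _ | k
    · simp only [chC, hx0, Int.cast_zero, map_zero]
    · simp only [chC]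
      rw [psG_of_aug_eq_zero hx0, grK_eq_zero (gammaFiltration_anti (by omega) (hall (k + 1))), mul_zero]
  · obtain ⟨p, rfl⟩ : ∃ p, n = p + 1 := ⟨n - 1, by omega⟩
    simp only [chC]
    have h := grK_eq_zero hlead
    rw [grK_sub (hall _) (mul_mem_left _ hx), sub_eq_zero, grK_natCast_mul P hx] at h
    rw [psG_of_aug_eq_zero hx0, h, ← mul_assoc, ← map_mul,
      one_div_mul_cancel (Nat.cast_ne_zero.mpr (Nat.factorial_ne_zero _)), map_one, one_mul]

/-- `ch` as a linear map on `ℚ ⊗ K`. -/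
noncomputable def chLin (P : PosStructure K) (d : ℕ) : ℚ ⊗[ℤ] K →ₗ[ℚ] KGr.Gr P :=
  (AddMonoidHom.mk' (KGr.chK P d) (chK_add P d)).toIntLinearMap.liftBaseChange ℚ

theorem chLin_one_tmul (d : ℕ) (x : K) : chLin P d ((1 : ℚ) ⊗ₜ[ℤ] x) = KGr.chK P d x :=
  (LinearMap.liftBaseChange_tmul _ _ _ _).trans (one_smul ℚ _)

theorem grK_mem_range (hK : HasSplitting K P) {d : ℕ} (hd : gammaFiltration P (d + 1) = ⊥) :
    ∀ (m n : ℕ), d + 1 - n ≤ m → ∀ x ∈ gammaFiltration P n, KGr.grK P (n : ℤ) x ∈ LinearMap.range (chLin P d) := by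
  intro m
  induction m with
  | zero =>
    intro n hn x hx
    have := gammaFiltration_anti (show d + 1 ≤ n by omega) hx
    rw [hd, AddSubgroup.mem_bot] at this
    rw [this, grK_zero]
    exact zero_mem _
  | succ m ih =>
    intro n hn x hx
    rcases le_or_gt (d + 1) n with hdn | hdn
    · have := gammaFiltration_anti hdn hx
      rw [hd, AddSubgroup.mem_bot] at this
      rw [this, grK_zero]
      exact zero_mem _
    obtain ⟨hlow, heq⟩ := chC_of_mem hK hx
    have hch : KGr.chK P d x = KGr.grK P (n : ℤ) x + ∑ k ∈ (range (d + 1)).erase n, chC P x k := by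
      rw [chK_eq, ← add_sum_erase _ _ (mem_range.mpr hdn), heq]
    rw [eq_sub_of_add_eq hch.symm]
    refine sub_mem ⟨_, chLin_one_tmul d x⟩ (sum_mem fun k hk => ?_)
    rw [mem_erase, mem_range] at hk
    rcases lt_or_gt_of_ne hk.1 with h | h
    · rw [hlow k h]; exact zero_mem _
    · obtain ⟨k, rfl⟩ : ∃ k', k = k' + 1 := ⟨k - 1, by omega⟩
      simp only [chC]
      rw [← Algebra.smul_def]
      exact Submodule.smul_mem _ _ (ih (k + 1) (by omega) _ (psG_mem P x (k + 1)))

theorem chLin_surjective (hK : HasSplitting K P) {d : ℕ} (hd : gammaFiltration P (d + 1) = ⊥) :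
    Function.Surjective (chLin P d) := by
  intro g
  suffices g ∈ LinearMap.range (chLin P d) from this
  induction g using TensorProduct.induction_on with
  | zero => exact zero_mem _
  | tmul q z =>
    rw [show q ⊗ₜ[ℤ] z = q • ((1 : ℚ) ⊗ₜ[ℤ] z) by rw [TensorProduct.smul_tmul', smul_eq_mul, mul_one]]
    refine Submodule.smul_mem _ _ ?_
    have hz := grZ_mem_span P z
    induction hz using AddSubgroup.closure_induction with
    | mem y hy =>
      obtain ⟨n, x, hx, rfl⟩ := hy
      rw [← grK_eq hx]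
      exact grK_mem_range hK hd _ n le_rfl x hx
    | zero => rw [TensorProduct.tmul_zero]; exact zero_mem _
    | add a b _ _ ha hb => rw [TensorProduct.tmul_add]; exact add_mem ha hb
    | neg a _ ha => rw [TensorProduct.tmul_neg]; exact neg_mem ha
  | add a b ha hb => exact add_mem ha hb

/-- The component of degree `n` over `ℚ`. -/
noncomputable def componentQ (P : PosStructure K) (n : ℕ) : KGr.Gr P →ₗ[ℚ] ℚ ⊗[ℤ] (K ⧸ gammaIdeal P (n + 1)) :=
  (component P n).toIntLinearMap.baseChange ℚ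

theorem componentQ_grK {n m : ℕ} {x : K} (hx : x ∈ gammaFiltration P m) :
    componentQ P n (KGr.grK P (m : ℤ) x) =
      if n = m then (1 : ℚ) ⊗ₜ[ℤ] Ideal.Quotient.mk (gammaIdeal P (n + 1)) x else 0 := by
  rw [grK_eq hx, componentQ, LinearMap.baseChange_tmul]
  rw [AddMonoidHom.coe_toIntLinearMap]
  refine Eq.trans (congrArg _ (component_grK hx)) ?_
  split_ifs with h <;> simp

theorem chLin_injective (hK : HasSplitting K P) {d : ℕ} (hd : gammaFiltration P (d + 1) = ⊥) :
    Function.Injective (chLin P d) := by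
  rw [injective_iff_map_eq_zero]
  intro ξ hξ
  obtain ⟨N, x, hN, hx⟩ := exists_den ξ
  have hch : KGr.chK P d x = 0 := by rw [← chLin_one_tmul, ← hx, map_smul, hξ, smul_zero]
  have key : ∀ n, n ≤ d + 1 → ∃ M : ℕ, M ≠ 0 ∧ (M : K) * x ∈ gammaFiltration P n := by
    intro n
    induction n with
    | zero => exact fun _ => ⟨1, one_ne_zero, by rw [gammaFiltration_zero]; trivial⟩
    | succ n ih =>
      intro hn
      obtain ⟨M, hM, hMx⟩ := ih (by omega)
      have hch' : KGr.chK P d ((M : K) * x) = 0 := by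
        rw [← nsmul_eq_mul, ← chLin_one_tmul, TensorProduct.tmul_smul, map_nsmul, chLin_one_tmul, hch, smul_zero]
      obtain ⟨hlow, heq⟩ := chC_of_mem hK hMx
      have hc := congrArg (componentQ P n) hch'
      rw [map_zero, chK_eq, map_sum, sum_eq_single n, heq, componentQ_grK hMx, if_pos rfl] at hc
      · obtain ⟨M', hM', hM'x⟩ := exists_smul_eq_zero_of_one_tmul hc
        refine ⟨M' * M, Nat.mul_ne_zero hM' hM, ?_⟩
        rw [← map_nsmul, Ideal.Quotient.eq_zero_iff_mem, mem_gammaIdeal, nsmul_eq_mul] at hM'x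
        rwa [Nat.cast_mul, mul_assoc]
      · intro k _ hk
        rcases lt_or_gt_of_ne hk with h | h
        · rw [hlow k h, map_zero]
        · obtain ⟨k, rfl⟩ : ∃ k', k = k' + 1 := ⟨k - 1, by omega⟩
          simp only [chC]
          rw [← Algebra.smul_def, map_smul, componentQ_grK (psG_mem P _ (k + 1)), if_neg (by omega), smul_zero]
      · intro h; simp at h; omega
  obtain ⟨M, hM, hMx⟩ := key (d + 1) le_rfl
  rw [hd, AddSubgroup.mem_bot] at hMx
  have : ((M * N : ℕ) : ℚ) • ξ = 0 := by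
    rw [Nat.cast_mul, ← smul_smul, hx, Nat.cast_smul_eq_nsmul, ← TensorProduct.tmul_smul, nsmul_eq_mul, hMx,
      TensorProduct.tmul_zero]
  exact (smul_eq_zero.mp this).resolve_left (Nat.cast_ne_zero.mpr (Nat.mul_ne_zero hM hN))

end Groth.Agent.Lambda
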