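import Groth.Agent.Lambda.Special
import Mathlib.RingTheory.MvPolynomial.Ideal
import Mathlib.RingTheory.MvPolynomial.Basic
import Mathlib.Algebra.Group.ForwardDiff

/-!
# `ℤ[w]` as a λ-ring in which the monomials in `1 + w` are lines
-/

universe u

open MvPolynomial Finset LambdaRing

namespace Groth.Agent.Lambda

variable {σ : Type u}

/-- `X ↦ 1 + X`. -/
noncomputable def shiftEquiv (σ : Type u) : MvPolynomial σ ℤ ≃ₐ[ℤ] MvPolynomial σ ℤ :=
  AlgEquiv.ofAlgHom (aeval fun a => 1 + X a) (aeval fun a => X a - 1)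
    (by ext a; simp) (by ext a; simp)

/-- The line `∏ (1 + w_a)^{c_a}`. -/
noncomputable def lineMon (c : σ →₀ ℕ) : MvPolynomial σ ℤ := shiftEquiv σ (monomial c 1)

theorem lineMon_eq (c : σ →₀ ℕ) : lineMon c = c.prod fun a k => (1 + X a : MvPolynomial σ ℤ) ^ k := by
  rw [lineMon, shiftEquiv, AlgEquiv.ofAlgHom_apply, aeval_monomial, map_one, one_mul]

theorem lineMon_zero : lineMon (0 : σ →₀ ℕ) = 1 := by simp [lineMon_eq]

theorem line_induction {S : AddSubgroup (MvPolynomial σ ℤ)} (h : ∀ c, lineMon c ∈ S)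
    (p : MvPolynomial σ ℤ) : p ∈ S := by
  obtain ⟨q, rfl⟩ := (shiftEquiv σ).surjective p
  induction q using MvPolynomial.induction_on' with
  | monomial c r =>
    rw [show monomial c r = r • monomial c (1 : ℤ) by rw [smul_monomial, smul_eq_mul, mul_one], map_zsmul]
    exact S.zsmul_mem (h c) r
  | add a b ha hb => rw [map_add]; exact S.add_mem ha hb

theorem lineAddHom_ext {M : Type*} [AddCommGroup M] {f g : MvPolynomial σ ℤ →+ M}
    (h : ∀ c, f (lineMon c) = g (lineMon c)) (p : MvPolynomial σ ℤ) : f p = g p :=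
  line_induction (S := AddMonoidHom.eqLocus f g) h p

/-- `1 + a t` as a unit. -/
noncomputable def lineUnit {R : Type u} [CommRing R] (a : R) : (PowerSeries R)ˣ :=
  (PowerSeries.isUnit_iff_constantCoeff.mpr (show IsUnit (PowerSeries.constantCoeff (1 + PowerSeries.C a * PowerSeries.X)) by simp)).unit

@[simp] theorem lineUnit_val {R : Type u} [CommRing R] (a : R) :
    (lineUnit a : PowerSeries R) = 1 + PowerSeries.C a * PowerSeries.X := IsUnit.unit_spec _

/-- `p ↦ λ_t(p)`. -/
noncomputable def lineSeriesHom (σ : Type u) :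
    MvPolynomial σ ℤ →+ Additive (PowerSeries (MvPolynomial σ ℤ))ˣ :=
  AddMonoidHom.comp
    ((basisMonomials σ ℤ).constr ℕ (fun c => Additive.ofMul (lineUnit (lineMon c)))).toAddMonoidHom
    (shiftEquiv σ).symm.toAlgHom.toRingHom.toAddMonoidHom

/-- `λ_t(p)`. -/
noncomputable def lineSeries (p : MvPolynomial σ ℤ) : PowerSeries (MvPolynomial σ ℤ) :=
  ((lineSeriesHom σ p).toMul : (PowerSeries (MvPolynomial σ ℤ))ˣ)

theorem lineSeries_add (p q : MvPolynomial σ ℤ) : lineSeries (p + q) = lineSeries p * lineSeries q := by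
  simp [lineSeries, map_add, toMul_add]

theorem lineSeries_zero : lineSeries (0 : MvPolynomial σ ℤ) = 1 := by simp [lineSeries]

theorem lineSeries_lineMon (c : σ →₀ ℕ) :
    lineSeries (lineMon c) = 1 + PowerSeries.C (lineMon c) * PowerSeries.X := by
  have h : (shiftEquiv σ).symm (lineMon c) = basisMonomials σ ℤ c := by
    rw [lineMon, AlgEquiv.symm_apply_apply, coe_basisMonomials]
  simp only [lineSeries, lineSeriesHom, AddMonoidHom.comp_apply, RingHom.toAddMonoidHom_eq_coe,
    AddMonoidHom.coe_coe, AlgHom.toRingHom_eq_coe, RingHom.coe_coe, LinearMap.toAddMonoidHom_coe,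
    AlgEquiv.coe_toAlgHom, h, Module.Basis.constr_basis, toMul_ofMul, lineUnit_val]

theorem constantCoeff_lineSeries (p : MvPolynomial σ ℤ) :
    PowerSeries.constantCoeff (lineSeries p) = 1 := by
  suffices h : ∀ p, p ∈ ({ carrier := {p : MvPolynomial σ ℤ | PowerSeries.constantCoeff (lineSeries p) = 1}
                           zero_mem' := by simp [lineSeries_zero]
                           add_mem' := fun {a b} ha hb => by
                             simp only [Set.mem_ofPred_eq] at ha hb ⊢
                             rw [lineSeries_add, map_mul, ha, hb, mul_one]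
                           neg_mem' := fun {a} ha => by
                             simp only [Set.mem_ofPred_eq] at ha ⊢
                             have := congrArg PowerSeries.constantCoeff (lineSeries_add (-a) a)
                             rw [neg_add_cancel, lineSeries_zero, map_one, map_mul, ha, mul_one] at this
                             exact this.symm } : AddSubgroup (MvPolynomial σ ℤ)) from h p
  exact fun p => line_induction (fun c => by simp [lineSeries_lineMon]) p

theorem coeff_one_lineSeries (p : MvPolynomial σ ℤ) : PowerSeries.coeff 1 (lineSeries p) = p := by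
  let f : MvPolynomial σ ℤ →+ MvPolynomial σ ℤ :=
    AddMonoidHom.mk' (fun p => PowerSeries.coeff 1 (lineSeries p)) fun a b => by
      rw [lineSeries_add, PowerSeries.coeff_mul, Finset.Nat.sum_antidiagonal_eq_sum_range_succ_mk,
        sum_range_succ, sum_range_one]
      simp [constantCoeff_lineSeries]; ring
  exact lineAddHom_ext (f := f) (g := AddMonoidHom.id _) (fun c => by simp [f, lineSeries_lineMon]) p

/-- The λ-structure. -/
noncomputable scoped instance lineLambda : LambdaOps (MvPolynomial σ ℤ) where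
  lam n p := PowerSeries.coeff n (lineSeries p)
  lam_zero p := by rw [PowerSeries.coeff_zero_eq_constantCoeff_apply, constantCoeff_lineSeries]
  lam_one p := coeff_one_lineSeries p
  lam_add k p q := by
    rw [lineSeries_add, PowerSeries.coeff_mul, Finset.Nat.sum_antidiagonal_eq_sum_range_succ_mk]

theorem lamSeries_eq_lineSeries (p : MvPolynomial σ ℤ) : lamSeries p = lineSeries p := by
  ext1 n; rw [coeff_lamSeries]; rfl

theorem lam_lineMon (c : σ →₀ ℕ) : ∀ i, 2 ≤ i → LambdaOps.lam i (lineMon c) = 0 := by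
  intro i hi
  rw [← coeff_lamSeries, lamSeries_eq_lineSeries, lineSeries_lineMon]
  simp [PowerSeries.coeff_one, PowerSeries.coeff_X, show i ≠ 0 by omega, show i ≠ 1 by omega]

theorem lam_one_line : ∀ i, 2 ≤ i → LambdaOps.lam i (1 : MvPolynomial σ ℤ) = 0 := by
  simpa [lineMon_zero] using lam_lineMon (0 : σ →₀ ℕ)

theorem lam_one_add_X (a : σ) : ∀ i, 2 ≤ i → LambdaOps.lam i (1 + X a : MvPolynomial σ ℤ) = 0 := by
  simpa [lineMon_eq] using lam_lineMon (Finsupp.single a 1)

/-- `ψ^j` on `ℤ[w]`. -/
noncomputable def lineAdams (j : ℕ) : MvPolynomial σ ℤ →ₐ[ℤ] MvPolynomial σ ℤ :=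
  aeval fun a => (1 + X a) ^ j - 1

theorem lineAdams_lineMon (j : ℕ) (c : σ →₀ ℕ) : lineAdams j (lineMon c) = lineMon c ^ j := by
  rw [lineMon_eq, Finsupp.prod, map_prod, ← prod_pow]
  refine prod_congr rfl fun a _ => ?_
  rw [map_pow, map_add, map_one, lineAdams, aeval_X, add_sub_cancel, ← pow_mul, ← pow_mul, mul_comm]

theorem adamsOp_eq_lineAdams {j : ℕ} (hj : j ≠ 0) (p : MvPolynomial σ ℤ) :
    adamsOp j p = lineAdams j p := by
  refine lineAddHom_ext (f := AddMonoidHom.mk' (adamsOp j) (adamsOp_add j))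
    (g := (lineAdams j : MvPolynomial σ ℤ →ₐ[ℤ] MvPolynomial σ ℤ).toRingHom.toAddMonoidHom) (fun c => ?_) p
  show adamsOp j (lineMon c) = lineAdams j (lineMon c)
  rw [lineAdams_lineMon, adamsOp_eq_psiS, lamSeries_eq_lineSeries, lineSeries_lineMon,
    psiS_one_add_C_mul_X _ j hj]

theorem isSpecial_line : IsSpecial (MvPolynomial σ ℤ) := by
  refine isSpecial_of_adamsOp (fun k hk => ?_) (fun k hk x y => ?_) (fun k k' hk hk' x => ?_)
  · rw [adamsOp_eq_lineAdams (by omega), map_one]
  · simp only [adamsOp_eq_lineAdams (show k ≠ 0 by omega), map_mul]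
  · rw [adamsOp_eq_lineAdams (show k ≠ 0 by omega), adamsOp_eq_lineAdams (show k' ≠ 0 by omega),
      adamsOp_eq_lineAdams (Nat.mul_ne_zero (by omega) (by omega)), ← AlgHom.comp_apply]
    congr 1
    refine MvPolynomial.algHom_ext fun a => ?_
    simp only [AlgHom.comp_apply, lineAdams, aeval_X, map_sub, map_pow, map_add, map_one,
      add_sub_cancel, ← pow_mul]

/-! ## The filtration by degree in `w` -/

variable (σ) in
/-- `(w)`. -/
noncomputable abbrev wIdeal : Ideal (MvPolynomial σ ℤ) := idealOfVars σ ℤ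

theorem mem_wIdeal_of_constantCoeff {p : MvPolynomial σ ℤ} (hp : constantCoeff p = 0) :
    p ∈ wIdeal σ := by
  rw [← pow_one (wIdeal σ)]
  refine (mem_pow_idealOfVars_iff' 1 p).mpr fun d hd => ?_
  obtain rfl : d = 0 := by rwa [Nat.lt_one_iff, Finsupp.degree_eq_zero_iff] at hd
  exact hp

theorem natCast_mul_mem_pow {n : ℕ} (hn : n ≠ 0) {r : ℕ} {p : MvPolynomial σ ℤ}
    (h : (n : MvPolynomial σ ℤ) * p ∈ wIdeal σ ^ r) : p ∈ wIdeal σ ^ r := by
  refine (mem_pow_idealOfVars_iff' r p).mpr fun d hd => ?_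
  have := (mem_pow_idealOfVars_iff' r _).mp h d hd
  rw [← map_natCast (C (σ := σ) (R := ℤ)), coeff_C_mul] at this
  exact (mul_eq_zero.mp this).resolve_left (Nat.cast_ne_zero.mpr hn)

/-- The series `f` with `coeff r f ∈ I^r`. -/
def gradedSeries {R : Type u} [CommRing R] (I : Ideal R) : Subring (PowerSeries R) where
  carrier := {f | ∀ r, PowerSeries.coeff r f ∈ I ^ r}
  zero_mem' r := by simp
  one_mem' r := by rcases r with _ | r <;> simp [PowerSeries.coeff_one]
  add_mem' hf hg r := by rw [map_add]; exact add_mem (hf r) (hg r)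
  neg_mem' hf r := by rw [map_neg]; exact neg_mem (hf r)
  mul_mem' hf hg r := by
    rw [PowerSeries.coeff_mul]
    refine sum_mem fun p hp => ?_
    rw [← Finset.mem_antidiagonal.mp hp, pow_add]
    exact Ideal.mul_mem_mul (hf _) (hg _)

theorem mem_gradedSeries_of_mul_eq_one {R : Type u} [CommRing R] {I : Ideal R} {f g : PowerSeries R}
    (hf : f ∈ gradedSeries I) (hc : PowerSeries.constantCoeff f = 1) (h : g * f = 1) :
    g ∈ gradedSeries I := by
  intro r
  induction r using Nat.strong_induction_on with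
  | _ r ih =>
    rcases r with _ | r
    · simp
    have e := congrArg (PowerSeries.coeff (r + 1)) h
    rw [PowerSeries.coeff_mul, Finset.Nat.sum_antidiagonal_eq_sum_range_succ_mk, sum_range_succ,
      Nat.sub_self, PowerSeries.coeff_zero_eq_constantCoeff_apply, hc, mul_one, PowerSeries.coeff_one,
      if_neg (Nat.succ_ne_zero r)] at e
    rw [eq_neg_of_add_eq_zero_right e]
    refine neg_mem (sum_mem fun k hk => ?_)
    rw [mem_range] at hk
    rw [show r + 1 = k + (r + 1 - k) by omega, pow_add]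
    simpa only [show k + (r + 1 - k) - k = r + 1 - k by omega] using Ideal.mul_mem_mul (ih k hk) (hf (r + 1 - k))

/-- `p ↦ p - p(0)`. -/
noncomputable def dropConst (σ : Type u) : MvPolynomial σ ℤ →+ MvPolynomial σ ℤ :=
  AddMonoidHom.mk' (fun p => p - C (constantCoeff p)) fun a b => by rw [map_add, map_add]; ring

theorem dropConst_apply (p : MvPolynomial σ ℤ) : dropConst σ p = p - C (constantCoeff p) := rfl

/-- The `p` with `γ^r(p - p(0)) ∈ I^r`. -/
noncomputable def gammaGoodSubgroup (σ : Type u) : AddSubgroup (MvPolynomial σ ℤ) where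
  carrier := {p | gammaSeries (dropConst σ p) ∈ gradedSeries (wIdeal σ)}
  zero_mem' := by
    show gammaSeries (dropConst σ 0) ∈ gradedSeries (wIdeal σ)
    rw [map_zero, gammaSeries_zero]; exact one_mem _
  add_mem' := fun {a b} ha hb => by
    show gammaSeries (dropConst σ (a + b)) ∈ gradedSeries (wIdeal σ)
    rw [map_add, gammaSeries_add]; exact mul_mem ha hb
  neg_mem' := fun {a} ha => by
    show gammaSeries (dropConst σ (-a)) ∈ gradedSeries (wIdeal σ)
    rw [map_neg]
    exact mem_gradedSeries_of_mul_eq_one ha (constantCoeff_gammaSeries _)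
      (by rw [← gammaSeries_add, neg_add_cancel, gammaSeries_zero])

theorem lineMon_mem_gammaGood (c : σ →₀ ℕ) : lineMon c ∈ gammaGoodSubgroup σ := by
  show gammaSeries (dropConst σ (lineMon c)) ∈ gradedSeries (wIdeal σ)
  have h1 : constantCoeff (lineMon c) = 1 := by
    rw [lineMon_eq, Finsupp.prod, map_prod]; simp
  rw [dropConst_apply, h1, map_one, gammaSeries_sub_one lam_one_line (lam_lineMon c)]
  intro r
  match r with
  | 0 => simp
  | 1 =>
    rw [map_add, PowerSeries.coeff_one, if_neg one_ne_zero, zero_add, PowerSeries.coeff_succ_mul_X,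
      PowerSeries.coeff_zero_eq_constantCoeff_apply, PowerSeries.constantCoeff_C, pow_one]
    exact mem_wIdeal_of_constantCoeff (by rw [map_sub, map_one, h1, sub_self])
  | r + 2 =>
    rw [map_add, PowerSeries.coeff_one, if_neg (by omega), zero_add, PowerSeries.coeff_succ_mul_X,
      PowerSeries.coeff_C, if_neg (by omega)]
    exact zero_mem _

theorem gammaSeries_mem_graded (p : MvPolynomial σ ℤ) :
    gammaSeries (dropConst σ p) ∈ gradedSeries (wIdeal σ) :=
  line_induction (S := gammaGoodSubgroup σ) lineMon_mem_gammaGood p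

theorem gamma_mem_wIdeal_pow {p : MvPolynomial σ ℤ} (hp : p ∈ wIdeal σ) (r : ℕ) :
    LambdaRing.gamma r p ∈ wIdeal σ ^ r := by
  have h0 : constantCoeff p = 0 := by
    have := (mem_pow_idealOfVars_iff' 1 p).mp (by rwa [pow_one]) 0 (by simp)
    exact this
  have := gammaSeries_mem_graded p r
  rwa [dropConst_apply, h0, map_zero, sub_zero, coeff_gammaSeries] at this

theorem multiset_prod_mem_pow {A : Type*} [CommRing A] {I : Ideal A} {ι : Type*} (s : Multiset ι)
    {f : ι → A} (hf : ∀ i, f i ∈ I) : (s.map f).prod ∈ I ^ Multiset.card s := by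
  induction s using Multiset.induction_on with
  | empty => simp
  | cons a s ih =>
    rw [Multiset.map_cons, Multiset.prod_cons, Multiset.card_cons, pow_succ']
    exact Ideal.mul_mem_mul (hf a) ih

theorem multiset_prod_sub_prod_mem {A : Type*} [CommRing A] {I : Ideal A} {ι : Type*} (s : Multiset ι)
    {f g : ι → A} (hf : ∀ i, f i ∈ I) (hg : ∀ i, g i ∈ I) (hfg : ∀ i, f i - g i ∈ I ^ 2) :
    (s.map f).prod - (s.map g).prod ∈ I ^ (Multiset.card s + 1) := by
  induction s using Multiset.induction_on with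
  | empty => simp
  | cons a s ih =>
    rw [Multiset.map_cons, Multiset.map_cons, Multiset.prod_cons, Multiset.prod_cons, Multiset.card_cons,
      show f a * (s.map f).prod - g a * (s.map g).prod =
        (f a - g a) * (s.map f).prod + g a * ((s.map f).prod - (s.map g).prod) by ring]
    refine add_mem ?_ ?_
    · rw [show Multiset.card s + 1 + 1 = 2 + Multiset.card s by ring, pow_add]
      exact Ideal.mul_mem_mul (hfg a) (multiset_prod_mem_pow s hf)
    · rw [pow_succ' I (Multiset.card s + 1)]
      exact Ideal.mul_mem_mul (hg a) ih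

/-- `ψ^j = j^m` on `I^m / I^{m+1}`. -/
theorem lineAdams_sub_mem {m j : ℕ} {p : MvPolynomial σ ℤ} (hp : p ∈ wIdeal σ ^ m) :
    lineAdams j p - (j : MvPolynomial σ ℤ) ^ m * p ∈ wIdeal σ ^ (m + 1) := by
  have hX : ∀ a : σ, (X a : MvPolynomial σ ℤ) ∈ wIdeal σ := fun a => Ideal.subset_span ⟨a, rfl⟩
  have hsq : ∀ (a : σ), (1 + X a : MvPolynomial σ ℤ) ^ j - 1 - (j : MvPolynomial σ ℤ) * X a ∈ wIdeal σ ^ 2 := by
    intro a
    induction j with
    | zero => simp
    | succ j ihj =>
      rw [show (1 + X a : MvPolynomial σ ℤ) ^ (j + 1) - 1 - ((j + 1 : ℕ) : MvPolynomial σ ℤ) * X a =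
        ((1 + X a) ^ j - 1 - (j : MvPolynomial σ ℤ) * X a) * (1 + X a) +
          (j : MvPolynomial σ ℤ) * (X a * X a) by push_cast; ring]
      exact add_mem (Ideal.mul_mem_right _ _ ihj)
        (Ideal.mul_mem_left _ _ (by rw [sq]; exact Ideal.mul_mem_mul (hX a) (hX a)))
  have hI : ∀ a : σ, lineAdams j (X a) ∈ wIdeal σ := fun a => by
    rw [lineAdams, aeval_X]
    simpa using add_mem (Ideal.pow_le_self two_ne_zero (hsq a)) (Ideal.mul_mem_left _ (j : MvPolynomial σ ℤ) (hX a))
  rw [p.as_sum, map_sum, mul_sum, ← sum_sub_distrib]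
  refine sum_mem fun c hc => ?_
  have hdeg : m ≤ Finsupp.degree c := by
    by_contra! h
    exact (mem_support_iff.mp hc) ((mem_pow_idealOfVars_iff' m p).mp hp c h)
  set r := coeff c p
  rcases eq_or_lt_of_le hdeg with h | h
  · rw [← mul_one r, ← C_mul_monomial, map_mul, show (j : MvPolynomial σ ℤ) ^ m * (C r * monomial c 1) =
      C r * ((j : MvPolynomial σ ℤ) ^ m * monomial c 1) by ring,
      show lineAdams j (C r) = C r from aeval_C _ r, ← mul_sub]
    refine Ideal.mul_mem_left _ _ ?_
    have hs : monomial c (1 : ℤ) = ((Finsupp.toMultiset c).map fun a => (X a : MvPolynomial σ ℤ)).prod := by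
      rw [monomial_eq, map_one, one_mul, Finsupp.toMultiset_map, Finsupp.prod_toMultiset,
        Finsupp.prod_mapDomain_index (fun _ => pow_zero _) (fun _ _ _ => pow_add _ _ _)]
    have hcard : Multiset.card (Finsupp.toMultiset c) = m := by
      rw [Finsupp.card_toMultiset, h]; rfl
    rw [hs, map_multiset_prod, Multiset.map_map, ← hcard,
      show (j : MvPolynomial σ ℤ) ^ Multiset.card (Finsupp.toMultiset c) *
        ((Finsupp.toMultiset c).map fun a => (X a : MvPolynomial σ ℤ)).prod =
        ((Finsupp.toMultiset c).map fun a => (j : MvPolynomial σ ℤ) * X a).prod by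
        rw [Multiset.prod_map_mul, Multiset.map_const', Multiset.prod_replicate]]
    refine multiset_prod_sub_prod_mem _ hI (fun a => Ideal.mul_mem_left _ _ (hX a)) fun a => ?_
    simpa [lineAdams] using hsq a
  · have hmem : monomial c r ∈ wIdeal σ ^ (m + 1) := by
      classical
      refine (mem_pow_idealOfVars_iff' (m + 1) _).mpr fun d hd => ?_
      rw [coeff_monomial, if_neg]
      rintro rfl; omega
    refine sub_mem ?_ (Ideal.mul_mem_left _ _ hmem)
    have hle : (wIdeal σ).map (lineAdams j) ≤ wIdeal σ := by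
      rw [wIdeal, idealOfVars, Ideal.map_span, Ideal.span_le]
      rintro _ ⟨_, ⟨a, rfl⟩, rfl⟩
      exact hI a
    exact Ideal.pow_right_mono hle (m + 1) (Ideal.map_pow (lineAdams j) (wIdeal σ) (m + 1) ▸ Ideal.mem_map_of_mem _ hmem)

/-- Alternating binomial sum `Σ C(p,i) (-1)^i (i+1)^p = (-1)^p p!`. -/
theorem alt_sum_choose_mul_pow (p : ℕ) :
    ∑ i ∈ range (p + 1), (p.choose i : ℤ) * (-1) ^ i * ((i : ℤ) + 1) ^ p = (-1) ^ p * p.factorial := by
  have h := congrFun (fwdDiff_iter_eq_factorial (R := ℤ) (n := p)) 1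
  rw [fwdDiff_iter_eq_sum_shift] at h
  rw [show (-1 : ℤ) ^ p * p.factorial = (-1 : ℤ) ^ p * ((p.factorial : ℤ → ℤ) 1) by simp, ← h, mul_sum]
  refine sum_congr rfl fun i hi => ?_
  rw [mem_range] at hi
  have hs : (-1 : ℤ) ^ p * (-1) ^ (p - i) = (-1) ^ i := by
    rw [← pow_add, show p + (p - i) = i + 2 * (p - i) by omega, pow_add, pow_mul]; simp
  simp only [smul_eq_mul, nsmul_eq_mul, mul_one]
  rw [show (-1 : ℤ) ^ p * ((-1) ^ (p - i) * (p.choose i : ℤ) * (1 + (i : ℤ)) ^ p) =
    ((-1 : ℤ) ^ p * (-1) ^ (p - i)) * (p.choose i : ℤ) * (1 + (i : ℤ)) ^ p by ring, hs]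
  ring

end Groth.Agent.Lambda
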