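import Groth.Agent.Lambda.Filtration
import Mathlib.RingTheory.Nilpotent.Basic
import Mathlib.RingTheory.Ideal.Quotient.Operations

/-!
# Push-forward and divisibility lemmas
-/

universe u

open Finset LambdaRing

namespace Groth.Agent.Lambda

/-- Telescoping: `Σ_{i ≤ p} (-1)^i (c i + c (i-1)) = (-1)^p c p`. -/
theorem alt_sum_adjacent {A : Type*} [CommRing A] (c : ℕ → A) (p : ℕ) :
    c 0 + ∑ i ∈ range p, (-1 : A) ^ (i + 1) * (c (i + 1) + c i) = (-1 : A) ^ p * c p := by
  induction p with
  | zero => simp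
  | succ p ih => rw [sum_range_succ, ← add_assoc, ih, pow_succ]; ring

variable {K : Type u} [CommRing K] [LambdaOps K]

theorem one_sub_dvd_lamAlt (h1 : ∀ k : ℕ, 2 ≤ k → LambdaOps.lam k (1 : K) = 0) (d : ℕ) (hd : 2 ≤ d)
    (F L N' : K) (hL : ∀ j : ℕ, 2 ≤ j → LambdaOps.lam j L = 0)
    (hN' : ∀ i : ℕ, d - 1 ≤ i → LambdaOps.lam i N' = 0) (hrel : F + L = N' + 2) :
    (1 - L) ∣ ∑ i ∈ range d, (-1 : K) ^ i * LambdaOps.lam i F := by
  rw [← Ideal.mem_span_singleton, ← Ideal.Quotient.eq_zero_iff_mem]
  set q := Ideal.Quotient.mk (Ideal.span {1 - L})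
  have hqL : q L = 1 := by
    rw [← q.map_one, eq_comm, Ideal.Quotient.eq]
    exact Ideal.mem_span_singleton_self _
  set π := PowerSeries.map q
  have hser : π (lamSeries F) = π (lamSeries N') * (1 + PowerSeries.X) := by
    have hu : IsUnit (π (1 + PowerSeries.X)) :=
      (PowerSeries.isUnit_iff_constantCoeff.mpr (by simp)).map π
    have hXq : π (1 + PowerSeries.X) = 1 + PowerSeries.X := by simp [π]
    refine hu.mul_right_cancel ?_
    have h := congrArg lamSeries hrel
    rw [lamSeries_add, lamSeries_add, lamSeries_of_lam_eq_zero hL,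
      show (2 : K) = ((2 : ℕ) : K) by norm_num, lamSeries_natCast h1] at h
    have h' := congrArg π h
    rw [map_mul, map_mul, map_pow] at h'
    rw [hXq] at h' ⊢
    rw [show π (1 + PowerSeries.C L * PowerSeries.X) = 1 + PowerSeries.X by simp [π, hqL]] at h'
    rw [h', mul_assoc, sq]
  have hcoef : ∀ i, q (LambdaOps.lam (i + 1) F) = q (LambdaOps.lam (i + 1) N') + q (LambdaOps.lam i N') := by
    intro i
    rw [← coeff_lamSeries, ← PowerSeries.coeff_map, hser, mul_add, mul_one, map_add,
      PowerSeries.coeff_succ_mul_X, PowerSeries.coeff_map, PowerSeries.coeff_map, coeff_lamSeries,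
      coeff_lamSeries]
  obtain ⟨p, rfl⟩ : ∃ p, d = p + 1 := ⟨d - 1, by omega⟩
  rw [sum_range_succ', map_add, map_sum]
  simp only [map_mul, map_pow, map_neg, map_one, hcoef, LambdaOps.lam_zero, pow_zero, mul_one]
  have h := alt_sum_adjacent (fun i => q (LambdaOps.lam i N')) p
  simp only [LambdaOps.lam_zero, map_one, hN' p (by omega), map_zero, mul_zero] at h
  rw [add_comm] at h
  exact h

theorem push_gammaFiltration_le {KX : Type u} [CommRing KX] [LambdaOps KX]
    {PY : PosStructure K} (hY : HasSplitting K PY) {PX : PosStructure KX}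
    (g : K →+* KX) (hg : IsLambdaHom g) (hgaug : ∀ y : K, PX.aug (g y) = PY.aug y)
    (hgsurj : Function.Surjective g) (p : KX →+ K) (hproj : ∀ (y : K) (x : KX), p (g y * x) = y * p x)
    {q : K} (hq : q ∈ PY.pos)
    (hp1 : p 1 = ∑ i ∈ range ((PY.aug q).toNat + 1), (-1 : K) ^ i * LambdaOps.lam i q)
    (hlam : ∀ e ∈ PY.pos, (∑ i ∈ range ((PY.aug e).toNat + 1), (-1 : K) ^ i * LambdaOps.lam i e) ∈
      gammaFiltration PY (PY.aug e).toNat)
    (m : ℕ) (x : KX) (hx : x ∈ gammaFiltration PX m) :
    p x ∈ gammaFiltration PY (m + (PY.aug q).toNat) := by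
  have _ := hY
  suffices h : ∃ y ∈ gammaFiltration PY m, g y = x by
    obtain ⟨y, hy, rfl⟩ := h
    rw [← mul_one (g y), hproj, hp1]
    exact mul_mem_add hy (hlam q hq)
  rcases eq_or_ne m 0 with rfl | hm
  · exact (hgsurj x).imp fun y hy => ⟨by simp [gammaFiltration_zero], hy⟩
  rw [gammaFiltration_of_ne_zero PX hm] at hx
  induction hx using AddSubgroup.closure_induction with
  | mem z hz =>
    obtain ⟨l, hl, hsum, rfl⟩ := hz
    choose s hs using hgsurj
    refine ⟨(l.map fun r => LambdaRing.gamma r.1 (s r.2)).prod,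
      mem_of_mem_gens ⟨l.map fun r => (r.1, s r.2), ?_, ?_, ?_⟩, ?_⟩
    · intro r hr
      obtain ⟨t, ht, rfl⟩ := List.mem_map.mp hr
      rw [← hgaug, hs]
      exact hl t ht
    · simpa [List.map_map, Function.comp_def] using hsum
    · simp [List.map_map, Function.comp_def]
    · simp [map_list_prod, List.map_map, Function.comp_def, map_gamma hg, hs]
  | zero => exact ⟨0, zero_mem _, map_zero g⟩
  | add a b _ _ ha hb =>
    obtain ⟨ya, hya, rfl⟩ := ha; obtain ⟨yb, hyb, rfl⟩ := hb
    exact ⟨ya + yb, add_mem hya hyb, map_add g ya yb⟩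
  | neg a _ ha =>
    obtain ⟨ya, hya, rfl⟩ := ha
    exact ⟨-ya, neg_mem hya, map_neg g ya⟩

theorem lamAlt_mem_gammaFiltration {P : PosStructure K} (hK : HasSplitting K P) {e : K}
    (he : e ∈ P.pos) :
    (∑ i ∈ range ((P.aug e).toNat + 1), (-1 : K) ^ i * LambdaOps.lam i e) ∈
      gammaFiltration P (P.aug e).toNat := by
  obtain ⟨L, f, hf, -, s, hs, hse, hcard⟩ := exists_split hK he
  have haug : P.aug (e - ((P.aug e).toNat : K)) = 0 := by rw [map_sub, map_natCast, aug_toNat he, sub_self]
  suffices (∑ i ∈ range ((P.aug e).toNat + 1), (-1 : K) ^ i * LambdaOps.lam i e) =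
      (-1 : K) ^ (P.aug e).toNat * LambdaRing.gamma (P.aug e).toNat (e - ((P.aug e).toNat : K)) from
    this ▸ mul_mem_left _ (gamma_mem haug _)
  apply hf.injective
  rw [map_mul, map_pow, map_neg, map_one, map_gamma hf.isLambdaHom, map_sub, map_natCast, ← hse,
    ← hcard, gamma_lines_sum_sub_card hs, map_sum]
  simp only [map_mul, map_pow, map_neg, map_one, hf.isLambdaHom _ e, ← hse, lam_lines_sum hs]
  clear hcard hse hs
  induction s using Multiset.induction_on with
  | empty => simp [Multiset.esymm]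
  | cons a s ih =>
    have hc : ∀ k, (a ::ₘ s).esymm (k + 1) = s.esymm (k + 1) + a * s.esymm k := by
      intro k
      simp [Multiset.esymm, Multiset.powersetCard_cons, Multiset.map_map, Multiset.sum_map_mul_left]
    have htop : ∀ t : Multiset L.carrier, t.esymm (Multiset.card t) = t.prod := by
      intro t
      induction t using Multiset.induction_on with
      | empty => simp [Multiset.esymm]
      | cons b t iht =>
        rw [Multiset.card_cons, Multiset.prod_cons, ← iht]
        simp [Multiset.esymm, Multiset.powersetCard_cons, Multiset.map_map, Multiset.sum_map_mul_left,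
          Multiset.powersetCard_eq_empty]
    have hz : s.esymm (Multiset.card s + 1) = 0 := by
      simp [Multiset.esymm, Multiset.powersetCard_eq_empty]
    rw [Multiset.card_cons, sum_range_succ', show (a ::ₘ s).esymm 0 = 1 by simp [Multiset.esymm]]
    simp only [hc, mul_add, sum_add_distrib, pow_zero, mul_one]
    rw [Multiset.map_cons,
      show Multiset.card s + 1 = Multiset.card ((a - 1) ::ₘ s.map fun u => u - 1) by simp, htop,
      Multiset.prod_cons,
      show (s.map fun u => u - 1).prod = (s.map fun u => u - 1).esymm (Multiset.card s) by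
        rw [show Multiset.card s = Multiset.card (s.map fun u => u - 1) by simp, htop],
      Multiset.card_cons, Multiset.card_map]
    have e1 := sum_range_succ' (fun i => (-1 : L.carrier) ^ i * s.esymm i) (Multiset.card s + 1)
    rw [sum_range_succ, hz, mul_zero, add_zero, show s.esymm 0 = 1 by simp [Multiset.esymm], pow_zero,
      mul_one] at e1
    have e2 : (∑ x ∈ range (Multiset.card s + 1), (-1 : L.carrier) ^ (x + 1) * (a * s.esymm x)) =
        -a * ∑ x ∈ range (Multiset.card s + 1), (-1 : L.carrier) ^ x * s.esymm x := by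
      rw [mul_sum]; exact sum_congr rfl fun x _ => by ring
    rw [e2, ih, add_right_comm, ← e1, ih, pow_succ]
    ring

theorem isNilpotent_of_add_eq_natCast {P : PosStructure K} {L e : K} (hL : P.IsLine L)
    (he : e ∈ P.pos) {m : ℕ} (hm : e + L = (m : K)) : IsNilpotent (L - 1) := by
  have haug : P.aug e + 1 = (m : ℤ) := by
    have := congrArg P.aug hm
    rwa [map_add, hL.2, map_natCast] at this
  refine ⟨m, ?_⟩
  have key : ∀ i, ((m.choose (i + 1) : ℕ) : K) = LambdaOps.lam (i + 1) e + L * LambdaOps.lam i e := by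
    intro i
    rw [← lam_natCast (lam_one_eq_zero P) m (i + 1), ← hm, ← coeff_lamSeries, lamSeries_add,
      lamSeries_line hL, mul_add, mul_one, map_add, coeff_lamSeries, ← mul_assoc,
      PowerSeries.coeff_succ_mul_X, PowerSeries.coeff_mul_C, coeff_lamSeries, mul_comm]
  have hs : ∀ p, p ≤ m → (-L) ^ (m - p) * LambdaOps.lam p e =
      ∑ i ∈ range (p + 1), (-L) ^ (m - i) * ((m.choose i : ℕ) : K) := by
    intro p hp
    induction p with
    | zero => simp [LambdaOps.lam_zero]
    | succ p ihp =>
      rw [sum_range_succ, ← ihp (by omega), key, show m - p = (m - (p + 1)) + 1 by omega, pow_succ]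
      ring
  have h := hs m le_rfl
  rw [Nat.sub_self, pow_zero, one_mul, lam_eq_zero_of_toNat_lt he (by have := aug_toNat he; omega)] at h
  have := add_pow (1 : K) (-L) m
  simp only [one_pow, one_mul] at this
  rw [← neg_sub, neg_pow, show (1 : K) - L = 1 + -L by ring, this, ← h, mul_zero]

end Groth.Agent.Lambda
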