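import Groth.Prelude.Def_LambdaRing
import Mathlib.RingTheory.PowerSeries.WellKnown
import Mathlib.RingTheory.PowerSeries.Substitution
import Mathlib.RingTheory.MvPolynomial.Symmetric.Defs
import Mathlib.Algebra.BigOperators.NatAntidiagonal
import Mathlib.Tactic.Ring

/-!
# λ-series and γ-series
-/

universe u

open PowerSeries Finset LambdaRing

namespace Groth.Agent.Lambda

variable {K : Type u} [CommRing K] [LambdaOps K]

theorem coeff_lamSeries (n : ℕ) (x : K) : coeff n (lamSeries x) = LambdaOps.lam n x := by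
  simp [lamSeries]

theorem constantCoeff_lamSeries (x : K) : constantCoeff (lamSeries x) = 1 := by
  rw [← coeff_zero_eq_constantCoeff_apply, coeff_lamSeries, LambdaOps.lam_zero]

theorem lamSeries_add (x y : K) : lamSeries (x + y) = lamSeries x * lamSeries y := by
  ext n
  rw [coeff_lamSeries, coeff_mul, LambdaOps.lam_add, Finset.Nat.sum_antidiagonal_eq_sum_range_succ_mk]
  simp [coeff_lamSeries]

theorem isUnit_lamSeries (x : K) : IsUnit (lamSeries x) := by
  rw [PowerSeries.isUnit_iff_constantCoeff, constantCoeff_lamSeries]; exact isUnit_one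

@[simp] theorem lamSeries_zero : lamSeries (0 : K) = 1 := by
  have h := lamSeries_add (0 : K) 0
  rw [add_zero] at h
  exact ((isUnit_lamSeries (0 : K)).mul_eq_left).mp h.symm

theorem lam_zero_right {n : ℕ} (hn : n ≠ 0) : LambdaOps.lam n (0 : K) = 0 := by
  rw [← coeff_lamSeries, lamSeries_zero, coeff_one, if_neg hn]

theorem lamSeries_neg_mul_self (x : K) : lamSeries (-x) * lamSeries x = 1 := by
  rw [← lamSeries_add, neg_add_cancel, lamSeries_zero]

theorem lamSeries_sum {ι : Type*} (s : Finset ι) (f : ι → K) :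
    lamSeries (∑ i ∈ s, f i) = ∏ i ∈ s, lamSeries (f i) := by
  classical
  induction s using Finset.induction_on with
  | empty => simp
  | insert a s ha ih => rw [sum_insert ha, prod_insert ha, lamSeries_add, ih]

theorem lamSeries_multiset_sum (s : Multiset K) :
    lamSeries s.sum = (s.map lamSeries).prod := by
  induction s using Multiset.induction_on with
  | empty => simp
  | cons a s ih => simp [lamSeries_add, ih]

theorem lamSeries_nsmul (n : ℕ) (x : K) : lamSeries (n • x) = lamSeries x ^ n := by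
  induction n with
  | zero => simp
  | succ n ih => rw [succ_nsmul, lamSeries_add, ih, pow_succ]

/-- `lam i u = 0` for all `i ≥ 2` says the λ-series of `u` is `1 + uX`. -/
theorem lamSeries_of_lam_eq_zero {u : K} (hu : ∀ i, 2 ≤ i → LambdaOps.lam i u = 0) :
    lamSeries u = 1 + C u * X := by
  ext n
  rw [coeff_lamSeries]
  match n with
  | 0 => simp [LambdaOps.lam_zero]
  | 1 => simp [LambdaOps.lam_one]
  | n + 2 => simp [hu (n + 2) (by omega), coeff_one]

theorem coeff_prod_one_add_C_mul_X {R : Type*} [CommRing R] (s : Multiset R) (k : ℕ) :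
    coeff k (s.map fun u => 1 + C u * X).prod = s.esymm k := by
  induction s using Multiset.induction_on generalizing k with
  | empty =>
    rcases k with _ | k
    · simp [Multiset.esymm]
    · simp [Multiset.esymm]
  | cons a s ih =>
    rw [Multiset.map_cons, Multiset.prod_cons, add_mul, one_mul, map_add, mul_assoc,
      coeff_C_mul, ih]
    rcases k with _ | k
    · simp [Multiset.esymm]
    · rw [coeff_succ_X_mul, ih]
      simp [Multiset.esymm, Multiset.powersetCard_cons, Multiset.map_map, Multiset.sum_map_mul_left]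

theorem lam_multiset_sum_eq_esymm {s : Multiset K}
    (hs : ∀ u ∈ s, ∀ i, 2 ≤ i → LambdaOps.lam i u = 0) (k : ℕ) :
    LambdaOps.lam k s.sum = s.esymm k := by
  rw [← coeff_lamSeries, lamSeries_multiset_sum, ← coeff_prod_one_add_C_mul_X,
    Multiset.map_congr rfl (fun u hu => lamSeries_of_lam_eq_zero (hs u hu))]

theorem lam_finset_sum_eq_esymm {ι : Type*} (t : Finset ι) {f : ι → K}
    (hs : ∀ a ∈ t, ∀ i, 2 ≤ i → LambdaOps.lam i (f a) = 0) (k : ℕ) :
    LambdaOps.lam k (∑ a ∈ t, f a) = ∑ S ∈ t.powersetCard k, ∏ a ∈ S, f a := by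
  rw [Finset.sum_eq_multiset_sum, lam_multiset_sum_eq_esymm, Finset.esymm_map_val]
  intro u hu
  obtain ⟨a, ha, rfl⟩ := Multiset.mem_map.mp hu
  exact hs a ha

theorem lamSeries_natCast (h1 : ∀ i, 2 ≤ i → LambdaOps.lam i (1 : K) = 0) (n : ℕ) :
    lamSeries (n : K) = (1 + X) ^ n := by
  rw [← nsmul_one, lamSeries_nsmul, lamSeries_of_lam_eq_zero h1, map_one, one_mul]

theorem lam_natCast (h1 : ∀ i, 2 ≤ i → LambdaOps.lam i (1 : K) = 0) (n i : ℕ) :
    LambdaOps.lam i (n : K) = (n.choose i : K) := by
  rw [← coeff_lamSeries, lamSeries_natCast h1,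
    show ((1 : PowerSeries K) + X) ^ n = (((1 + Polynomial.X : Polynomial K) ^ n : Polynomial K) : PowerSeries K)
      by simp,
    Polynomial.coeff_coe, Polynomial.coeff_one_add_X_pow]

/-! ## γ -/

/-- The substitution `t ↦ t / (1 - t)`. -/
noncomputable def tOneSub (K : Type u) [CommRing K] : PowerSeries K := X * mk 1

omit [LambdaOps K] in
theorem hasSubst_tOneSub : HasSubst (tOneSub K) :=
  HasSubst.of_constantCoeff_zero' (by simp [tOneSub])

omit [LambdaOps K] in
theorem coeff_tOneSub_pow {j : ℕ} (hj : j ≠ 0) (k : ℕ) :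
    coeff k (tOneSub K ^ j) = if j ≤ k then ((k - 1).choose (j - 1) : K) else 0 := by
  obtain ⟨d, rfl⟩ := Nat.exists_eq_succ_of_ne_zero hj
  rw [tOneSub, mul_pow, coeff_X_pow_mul', Nat.succ_eq_add_one, mk_one_pow_eq_mk_choose_add]
  split_ifs with h
  · rw [coeff_mk]
    congr 2
    omega
  · rfl

/-- The series `γ_t(x) = Σ γ^k(x) t^k`. -/
noncomputable def gammaSeries (x : K) : PowerSeries K := PowerSeries.mk fun k => LambdaRing.gamma k x

theorem coeff_gammaSeries (n : ℕ) (x : K) : coeff n (gammaSeries x) = LambdaRing.gamma n x := by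
  simp [gammaSeries]

theorem gamma_zero (x : K) : LambdaRing.gamma 0 x = 1 := by simp [LambdaRing.gamma]

theorem gamma_one (x : K) : LambdaRing.gamma 1 x = x := by
  simp [LambdaRing.gamma, Finset.sum_range_succ, LambdaOps.lam_one]

theorem constantCoeff_gammaSeries (x : K) : constantCoeff (gammaSeries x) = 1 := by
  rw [← coeff_zero_eq_constantCoeff_apply, coeff_gammaSeries, gamma_zero]

theorem gammaSeries_eq_subst (x : K) :
    gammaSeries x = (lamSeries x).subst (tOneSub K) := by
  ext k
  rw [coeff_gammaSeries, coeff_subst' hasSubst_tOneSub,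
    finsum_eq_sum_of_support_subset _ (s := range (k + 1))]
  · unfold LambdaRing.gamma
    split_ifs with hk
    · subst hk; simp [LambdaOps.lam_zero, coeff_lamSeries]
    · refine sum_congr rfl fun j hj => ?_
      rw [mem_range] at hj
      rcases eq_or_ne j 0 with rfl | hj0
      · simp [coeff_one, hk]
      · rw [coeff_tOneSub_pow hj0, if_neg hj0, if_pos (by omega : j ≤ k), coeff_lamSeries, smul_eq_mul, mul_comm]
  · intro j hj
    by_contra h
    simp only [coe_range, Set.mem_Iio, not_lt] at h
    exact hj (by simp [coeff_tOneSub_pow (K := K) (show j ≠ 0 by omega) k, if_neg (show ¬ j ≤ k by omega)])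

theorem gammaSeries_add (x y : K) : gammaSeries (x + y) = gammaSeries x * gammaSeries y := by
  rw [gammaSeries_eq_subst, lamSeries_add, subst_mul hasSubst_tOneSub, ← gammaSeries_eq_subst,
    ← gammaSeries_eq_subst]

theorem gamma_add (k : ℕ) (x y : K) :
    LambdaRing.gamma k (x + y) =
      ∑ i ∈ range (k + 1), LambdaRing.gamma i x * LambdaRing.gamma (k - i) y := by
  rw [← coeff_gammaSeries, gammaSeries_add, coeff_mul, Finset.Nat.sum_antidiagonal_eq_sum_range_succ_mk]
  simp [coeff_gammaSeries]

theorem isUnit_gammaSeries (x : K) : IsUnit (gammaSeries x) := by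
  rw [PowerSeries.isUnit_iff_constantCoeff, constantCoeff_gammaSeries]; exact isUnit_one

@[simp] theorem gammaSeries_zero : gammaSeries (0 : K) = 1 := by
  have h := gammaSeries_add (0 : K) 0
  rw [add_zero] at h
  exact ((isUnit_gammaSeries (0 : K)).mul_eq_left).mp h.symm

theorem gammaSeries_multiset_sum (s : Multiset K) :
    gammaSeries s.sum = (s.map gammaSeries).prod := by
  induction s using Multiset.induction_on with
  | empty => simp
  | cons a s ih => simp [gammaSeries_add, ih]

theorem gammaSeries_nsmul (n : ℕ) (x : K) : gammaSeries (n • x) = gammaSeries x ^ n := by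
  induction n with
  | zero => simp
  | succ n ih => rw [succ_nsmul, gammaSeries_add, ih, pow_succ]

theorem gamma_zero_right {n : ℕ} (hn : n ≠ 0) : LambdaRing.gamma n (0 : K) = 0 := by
  rw [← coeff_gammaSeries, gammaSeries_zero, coeff_one, if_neg hn]

theorem gammaSeries_of_lam_eq_zero {u : K} (hu : ∀ i, 2 ≤ i → LambdaOps.lam i u = 0) :
    gammaSeries u = 1 + C u * tOneSub K := by
  rw [gammaSeries_eq_subst, lamSeries_of_lam_eq_zero hu, ← coe_substAlgHom hasSubst_tOneSub,
    map_add, map_one, map_mul, substAlgHom_X,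
    show (C u : PowerSeries K) = algebraMap K (PowerSeries K) u from rfl, AlgHom.commutes]

theorem gammaSeries_sub_one {u : K} (h1 : ∀ i, 2 ≤ i → LambdaOps.lam i (1 : K) = 0)
    (hu : ∀ i, 2 ≤ i → LambdaOps.lam i u = 0) :
    gammaSeries (u - 1) = 1 + C (u - 1) * X := by
  have h := gammaSeries_add (u - 1) 1
  rw [sub_add_cancel, gammaSeries_of_lam_eq_zero hu, gammaSeries_of_lam_eq_zero h1, map_one,
    one_mul] at h
  have hi : (1 + tOneSub K) * (1 - X) = 1 := by
    rw [add_mul, tOneSub, mul_assoc, mk_one_mul_one_sub_eq_one]; ring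
  calc gammaSeries (u - 1) = gammaSeries (u - 1) * (1 + tOneSub K) * (1 - X) := by
        rw [mul_assoc, hi, mul_one]
    _ = (1 + C u * tOneSub K) * (1 - X) := by rw [h]
    _ = 1 + C (u - 1) * X := by
        rw [add_mul, tOneSub, mul_assoc (C u), mul_assoc X, mk_one_mul_one_sub_eq_one, map_sub,
          map_one]
        ring

theorem gamma_multiset_sum_sub_one (h1 : ∀ i, 2 ≤ i → LambdaOps.lam i (1 : K) = 0) {s : Multiset K}
    (hs : ∀ u ∈ s, ∀ i, 2 ≤ i → LambdaOps.lam i u = 0) (k : ℕ) :
    LambdaRing.gamma k (s.map fun u => u - 1).sum = (s.map fun u => u - 1).esymm k := by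
  rw [← coeff_gammaSeries, gammaSeries_multiset_sum, ← coeff_prod_one_add_C_mul_X, Multiset.map_map,
    Multiset.map_map]
  congr 2
  exact Multiset.map_congr rfl fun u hu => gammaSeries_sub_one h1 (hs u hu)

/-- `γ^n(x) = λ^n(x + n - 1)`. -/
theorem gamma_eq_lam_add_sub_one (h1 : ∀ i, 2 ≤ i → LambdaOps.lam i (1 : K) = 0) (n : ℕ) (x : K) :
    LambdaRing.gamma n x = LambdaOps.lam n (x + (n : K) - 1) := by
  rcases n with _ | m
  · simp [gamma_zero, LambdaOps.lam_zero]
  · rw [show x + ((m + 1 : ℕ) : K) - 1 = x + (m : K) by push_cast; ring, LambdaOps.lam_add]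
    unfold LambdaRing.gamma
    rw [if_neg (Nat.succ_ne_zero m)]
    refine sum_congr rfl fun j hj => ?_
    rw [mem_range] at hj
    rw [lam_natCast h1]
    rcases j with _ | j
    · simp [Nat.choose_succ_self]
    · rw [if_neg (Nat.succ_ne_zero j), mul_comm]
      simp only [Nat.add_sub_cancel]
      congr 2
      rw [show m + 1 - (j + 1) = m - j by omega, Nat.choose_symm (by omega)]

end Groth.Agent.Lambda
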