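import Groth.Prelude.Def_LambdaSp
import Groth.Agent.Lambda.Series

/-!
# Adams coefficients of a power series and Newton's recursion
-/

universe u

open PowerSeries Finset LambdaRing

namespace Groth.Agent.Lambda

variable {A B : Type*} [CommRing A] [CommRing B]

/-- `psiS f k`: `(-1)^(k-1)` times the coefficient of `t^(k-1)` in `f'/f`. -/
noncomputable def psiS (f : PowerSeries A) : ℕ → A
  | 0 => 0
  | k + 1 => (-1) ^ k * coeff k (PowerSeries.derivative A f * f.invOfUnit 1)

theorem adamsOp_eq_psiS {K : Type u} [CommRing K] [LambdaOps K] (k : ℕ) (x : K) :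
    adamsOp k x = psiS (lamSeries x) k := by
  rcases k with _ | k <;> rfl

/-- `f'/f`. -/
noncomputable def dlogS (f : PowerSeries A) : PowerSeries A :=
  PowerSeries.derivative A f * f.invOfUnit 1

theorem psiS_succ (f : PowerSeries A) (k : ℕ) : psiS f (k + 1) = (-1) ^ k * coeff k (dlogS f) := rfl

theorem dlogS_mul_self {f : PowerSeries A} (hf : constantCoeff f = 1) :
    dlogS f * f = PowerSeries.derivative A f := by
  rw [dlogS, mul_assoc, invOfUnit_mul f 1 (by simpa using hf), mul_one]

theorem eq_dlogS {f D : PowerSeries A} (hf : constantCoeff f = 1)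
    (h : D * f = PowerSeries.derivative A f) : dlogS f = D := by
  rw [dlogS, ← h, mul_assoc, mul_invOfUnit f 1 (by simpa using hf), mul_one]

theorem dlogS_mul {f g : PowerSeries A} (hf : constantCoeff f = 1) (hg : constantCoeff g = 1) :
    dlogS (f * g) = dlogS f + dlogS g := by
  refine eq_dlogS (by simp [hf, hg]) ?_
  rw [Derivation.leibniz, smul_eq_mul, smul_eq_mul, ← dlogS_mul_self hf, ← dlogS_mul_self hg]
  ring

theorem psiS_mul {f g : PowerSeries A} (hf : constantCoeff f = 1) (hg : constantCoeff g = 1) (k : ℕ) :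
    psiS (f * g) k = psiS f k + psiS g k := by
  rcases k with _ | k
  · simp [psiS]
  · rw [psiS_succ, psiS_succ, psiS_succ, dlogS_mul hf hg, map_add, mul_add]

theorem psiS_one (k : ℕ) : psiS (1 : PowerSeries A) k = 0 := by
  rcases k with _ | k
  · rfl
  · rw [psiS_succ, dlogS, PowerSeries.derivative_one, zero_mul, map_zero, mul_zero]

theorem map_psiS (φ : A →+* B) {f : PowerSeries A} (hf : constantCoeff f = 1) (k : ℕ) :
    φ (psiS f k) = psiS (PowerSeries.map φ f) k := by
  rcases k with _ | k
  · exact map_zero φ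
  · have hd : ∀ g : PowerSeries A, PowerSeries.map φ (PowerSeries.derivative A g) =
        PowerSeries.derivative B (PowerSeries.map φ g) := fun g => by
      ext n; simp [PowerSeries.coeff_derivative]
    have h : dlogS (PowerSeries.map φ f) = PowerSeries.map φ (dlogS f) := by
      refine eq_dlogS (by rw [← coeff_zero_eq_constantCoeff_apply, coeff_map, coeff_zero_eq_constantCoeff_apply, hf, map_one]) ?_
      rw [← map_mul, dlogS_mul_self hf, hd]
    rw [psiS_succ, psiS_succ, h, coeff_map, map_mul, map_pow, map_neg, map_one]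

/-- Newton's recursion. -/
theorem newton {f : PowerSeries A} (hf : constantCoeff f = 1) (n : ℕ) :
    ((n + 1 : ℕ) : A) * coeff (n + 1) f =
      ∑ i ∈ range (n + 1), (-1) ^ i * psiS f (i + 1) * coeff (n - i) f := by
  have h := congrArg (coeff n) (dlogS_mul_self hf)
  rw [PowerSeries.coeff_derivative, coeff_mul, Finset.Nat.sum_antidiagonal_eq_sum_range_succ_mk] at h
  calc ((n + 1 : ℕ) : A) * coeff (n + 1) f = coeff (n + 1) f * ((n : A) + 1) := by push_cast; ring
    _ = _ := by
      rw [← h]
      refine sum_congr rfl fun i _ => ?_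
      rw [psiS_succ, ← mul_assoc ((-1 : A) ^ i), ← mul_pow, neg_one_mul, neg_neg, one_pow, one_mul]

theorem psiS_congr {f g : PowerSeries A} (hf : constantCoeff f = 1) (hg : constantCoeff g = 1) {n : ℕ}
    (h : ∀ m ≤ n, coeff m f = coeff m g) {k : ℕ} (hk : k ≤ n) : psiS f k = psiS g k := by
  induction k using Nat.strong_induction_on with
  | _ k ih =>
    rcases k with _ | p
    · rfl
    have e1 := newton hf p
    have e2 := newton hg p
    rw [h (p + 1) hk, e2, sum_range_succ, sum_range_succ, Nat.sub_self, h 0 (by omega),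
      sum_congr rfl (fun i hi => ?_)] at e1
    · rw [coeff_zero_eq_constantCoeff_apply, hg, mul_one, mul_one] at e1
      have hpow : IsUnit ((-1 : A) ^ p) := isUnit_one.neg.pow p
      exact (hpow.mul_left_cancel (add_left_cancel e1)).symm
    · rw [mem_range] at hi
      rw [ih (i + 1) (by omega) (by omega), h (p - i) (by omega)]

/-- In a torsion-free ring a series with constant term `1` is determined by its `psiS`. -/
theorem coeff_eq_of_psiS_eq [IsAddTorsionFree A] {f g : PowerSeries A} (hf : constantCoeff f = 1)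
    (hg : constantCoeff g = 1) {n : ℕ} (h : ∀ k, 1 ≤ k → k ≤ n → psiS f k = psiS g k) {m : ℕ}
    (hm : m ≤ n) : coeff m f = coeff m g := by
  induction m using Nat.strong_induction_on with
  | _ m ih =>
    rcases m with _ | p
    · rw [coeff_zero_eq_constantCoeff_apply, coeff_zero_eq_constantCoeff_apply, hf, hg]
    refine nsmul_right_injective (Nat.succ_ne_zero p) ?_
    simp only [nsmul_eq_mul]
    rw [newton hf p, newton hg p]
    refine sum_congr rfl fun i hi => ?_
    rw [mem_range] at hi
    rw [h (i + 1) (by omega) (by omega), ih (p - i) (by omega) (by omega)]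

theorem psiS_one_add_C_mul_X (a : A) (k : ℕ) (hk : k ≠ 0) :
    psiS (1 + C a * X) k = a ^ k := by
  obtain ⟨p, rfl⟩ := Nat.exists_eq_succ_of_ne_zero hk
  have h : dlogS (1 + C a * X) = C a * PowerSeries.mk (fun n => (-a) ^ n) := by
    refine eq_dlogS (by simp) ?_
    have h1 : PowerSeries.mk (fun n => (-a) ^ n) * (1 + C a * X) = 1 := by
      ext n
      rcases n with _ | n
      · simp
      · rw [mul_add, mul_one, map_add, mul_comm (C a) X, ← mul_assoc, coeff_mul_C, coeff_succ_mul_X,
          coeff_mk, coeff_mk, coeff_one, if_neg (Nat.succ_ne_zero n)]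
        ring
    rw [mul_assoc, h1, mul_one, map_add, PowerSeries.derivative_one, Derivation.leibniz,
      PowerSeries.derivative_C, PowerSeries.derivative_X, smul_eq_mul, smul_zero, add_zero, mul_one,
      zero_add]
  rw [Nat.succ_eq_add_one, psiS_succ, h, coeff_C_mul, coeff_mk, mul_left_comm, ← mul_pow,
    neg_one_mul, neg_neg, pow_succ']

theorem psiS_prod {s : Multiset A} {k : ℕ} (hk : k ≠ 0) :
    psiS (s.map fun a => 1 + C a * X).prod k = (s.map fun a => a ^ k).sum := by
  induction s using Multiset.induction_on with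
  | empty => simp [psiS_one]
  | cons a s ih =>
    rw [Multiset.map_cons, Multiset.prod_cons, psiS_mul (by simp) ?_, ih, psiS_one_add_C_mul_X a k hk,
      Multiset.map_cons, Multiset.sum_cons]
    rw [map_multiset_prod, Multiset.prod_eq_one]
    intro x hx
    simp only [Multiset.map_map, Multiset.mem_map] at hx
    obtain ⟨b, -, rfl⟩ := hx
    simp

theorem mk_esymm_eq_prod (s : Multiset A) :
    PowerSeries.mk (fun k => s.esymm k) = (s.map fun a => 1 + C a * X).prod := by
  ext k
  rw [coeff_mk, coeff_prod_one_add_C_mul_X]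

theorem psiS_mk_esymm (s : Multiset A) {k : ℕ} (hk : k ≠ 0) :
    psiS (PowerSeries.mk fun k => s.esymm k) k = (s.map fun a => a ^ k).sum := by
  rw [mk_esymm_eq_prod, psiS_prod hk]

theorem constantCoeff_mk_esymm (s : Multiset A) :
    constantCoeff (PowerSeries.mk fun k => s.esymm k) = 1 := by
  rw [← coeff_zero_eq_constantCoeff_apply, coeff_mk]
  simp [Multiset.esymm]

end Groth.Agent.Lambda
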