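import Groth.Agent.Lambda.Restrict
import Groth.Agent.Lambda.Newton

/-!
# Special λ-rings and Adams operations
-/

universe u

open MvPolynomial Finset LambdaRing

namespace Groth.Agent.Lambda

variable {A B : Type*} [CommRing A] [CommRing B]

/-- `1 + a_0 t + ⋯ + a_{N-1} t^N`. -/
noncomputable def genSer {N : ℕ} (a : Fin N → A) : PowerSeries A :=
  PowerSeries.mk fun k => if k = 0 then 1 else if h : k - 1 < N then a ⟨k - 1, h⟩ else 0

theorem constantCoeff_genSer {N : ℕ} (a : Fin N → A) :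
    PowerSeries.constantCoeff (genSer a) = 1 := by
  rw [← PowerSeries.coeff_zero_eq_constantCoeff_apply, genSer, PowerSeries.coeff_mk, if_pos rfl]

theorem map_genSer (φ : A →+* B) {N : ℕ} (a : Fin N → A) :
    PowerSeries.map φ (genSer a) = genSer (φ ∘ a) := by
  ext k
  simp only [genSer, PowerSeries.coeff_map, PowerSeries.coeff_mk]
  split_ifs <;> simp

theorem genSer_esymm {N : ℕ} (s : Multiset A) (hs : Multiset.card s = N) :
    genSer (fun k : Fin N => s.esymm ((k : ℕ) + 1)) = PowerSeries.mk fun k => s.esymm k := by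
  ext k
  simp only [genSer, PowerSeries.coeff_mk]
  split_ifs with h h'
  · simp [h, Multiset.esymm]
  · congr 1; omega
  · rw [Multiset.esymm, Multiset.powersetCard_eq_empty _ (by omega : Multiset.card s < k)]; simp

theorem coeff_genSer_lam {K : Type u} [CommRing K] [LambdaOps K] {N m : ℕ} (x : K) (hm : m ≤ N) :
    PowerSeries.coeff m (genSer fun k : Fin N => LambdaOps.lam ((k : ℕ) + 1) x) = LambdaOps.lam m x := by
  simp only [genSer, PowerSeries.coeff_mk]
  split_ifs with h h'
  · rw [h, LambdaOps.lam_zero]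
  · congr 1; omega
  · omega

/-! ## The universal identities -/

/-- `P^{(N)}_m`. -/
noncomputable def mulP (N m : ℕ) : MvPolynomial (Fin N ⊕ Fin N) ℤ := (exists_mulPoly N m).choose

theorem mulP_spec (N m : ℕ) :
    esymmEval₂ (Fin N) (Fin N) ℤ N N (mulP N m) = mulGen N m ∧
      IsWeightedHomogeneous (mulWeight N) (mulP N m) (m, m) := (exists_mulPoly N m).choose_spec

/-- `Σ P_m t^m`. -/
noncomputable def mulSer (N : ℕ) : PowerSeries (MvPolynomial (Fin N ⊕ Fin N) ℤ) :=
  PowerSeries.mk (mulP N)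

theorem mulP_zero (N : ℕ) : mulP N 0 = 1 :=
  esymmEval₂_injective (Fintype.card_fin N).ge (Fintype.card_fin N).ge
    (by rw [(mulP_spec N 0).1, map_one]; simp [mulGen, Multiset.esymm])

theorem constantCoeff_mulSer (N : ℕ) : PowerSeries.constantCoeff (mulSer N) = 1 := by
  rw [← PowerSeries.coeff_zero_eq_constantCoeff_apply, mulSer, PowerSeries.coeff_mk, mulP_zero]

/-- `ψ^j(xy) = ψ^j(x) ψ^j(y)` universally. -/
theorem psiS_mulSer (N j : ℕ) :
    psiS (mulSer N) j =
      psiS (genSer fun k : Fin N => (X (Sum.inl k) : MvPolynomial (Fin N ⊕ Fin N) ℤ)) j *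
        psiS (genSer fun k : Fin N => (X (Sum.inr k) : MvPolynomial (Fin N ⊕ Fin N) ℤ)) j := by
  rcases eq_or_ne j 0 with rfl | hj
  · simp [psiS]
  refine esymmEval₂_injective (σ := Fin N) (τ := Fin N) (Fintype.card_fin N).ge (Fintype.card_fin N).ge ?_
  set θ := (esymmEval₂ (Fin N) (Fin N) ℤ N N).toRingHom with hθ
  show θ _ = θ _
  rw [map_mul, map_psiS θ (constantCoeff_mulSer N), map_psiS θ (constantCoeff_genSer _),
    map_psiS θ (constantCoeff_genSer _), map_genSer, map_genSer]
  have hL : ∀ (f : Fin N → Fin N ⊕ Fin N) (k : Fin N),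
      rename f (esymm (Fin N) ℤ ((k : ℕ) + 1)) =
        ((Finset.univ : Finset (Fin N)).val.map fun a => (X (f a) : MvPolynomial (Fin N ⊕ Fin N) ℤ)).esymm ((k : ℕ) + 1) := by
    intro f k
    rw [esymm_eq_multiset_esymm, map_multiset_esymm, Multiset.map_map]
    simp [Function.comp_def]
  rw [show (θ ∘ fun k : Fin N => X (Sum.inl k)) = fun k : Fin N =>
      ((Finset.univ : Finset (Fin N)).val.map fun a => (X (Sum.inl a) : MvPolynomial (Fin N ⊕ Fin N) ℤ)).esymm ((k : ℕ) + 1)
      from funext fun k => by rw [← hL]; simp [hθ, esymmEval₂],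
    show (θ ∘ fun k : Fin N => X (Sum.inr k)) = fun k : Fin N =>
      ((Finset.univ : Finset (Fin N)).val.map fun a => (X (Sum.inr a) : MvPolynomial (Fin N ⊕ Fin N) ℤ)).esymm ((k : ℕ) + 1)
      from funext fun k => by rw [← hL]; simp [hθ, esymmEval₂],
    genSer_esymm _ (by simp), genSer_esymm _ (by simp)]
  have hG : PowerSeries.map θ (mulSer N) = PowerSeries.mk fun m =>
      (((Finset.univ : Finset (Fin N × Fin N)).val.map
        fun ab => (X (Sum.inl ab.1) * X (Sum.inr ab.2) : MvPolynomial (Fin N ⊕ Fin N) ℤ))).esymm m := by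
    ext1 m
    rw [mulSer, PowerSeries.coeff_map, PowerSeries.coeff_mk, PowerSeries.coeff_mk]
    exact (mulP_spec N m).1
  rw [hG, psiS_mk_esymm _ hj, psiS_mk_esymm _ hj, psiS_mk_esymm _ hj, Multiset.map_map,
    Multiset.map_map, Multiset.map_map, ← Finset.sum_eq_multiset_sum, ← Finset.sum_eq_multiset_sum,
    ← Finset.sum_eq_multiset_sum, Finset.sum_mul_sum, Fintype.sum_prod_type]
  simp only [Function.comp_apply, mul_pow]

/-- `Q^{(N)}_{i,j}`. -/
noncomputable def compP (N i j : ℕ) : MvPolynomial (Fin N) ℤ := (exists_compPoly N i j).choose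

theorem compP_spec (N i j : ℕ) :
    esymmEval (Fin N) ℤ N (compP N i j) = compGen N i j ∧
      IsWeightedHomogeneous (esymmWeight N) (compP N i j) (i * j) := (exists_compPoly N i j).choose_spec

/-- `Σ_j Q_{i,j} t^j`, standing for `λ_t(λ^i x)`. -/
noncomputable def compSer (N i : ℕ) : PowerSeries (MvPolynomial (Fin N) ℤ) :=
  PowerSeries.mk (compP N i)

theorem constantCoeff_compSer (N i : ℕ) : PowerSeries.constantCoeff (compSer N i) = 1 := by
  rw [← PowerSeries.coeff_zero_eq_constantCoeff_apply, compSer, PowerSeries.coeff_mk]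
  exact esymmEval_injective (Fintype.card_fin N).ge
    (by rw [(compP_spec N i 0).1, map_one]; simp [compGen, Multiset.esymm])

theorem esymmEval_psiS_compSer (N i m : ℕ) (hm : m ≠ 0) :
    esymmEval (Fin N) ℤ N (psiS (compSer N i) m) =
      ((Finset.univ : Finset (Fin N)).val.map fun a => (X a : MvPolynomial (Fin N) ℤ) ^ m).esymm i := by
  set θ := (esymmEval (Fin N) ℤ N).toRingHom
  show θ _ = _
  have hG : PowerSeries.map θ (compSer N i) = PowerSeries.mk fun j =>
      (((Finset.univ : Finset (Fin N)).powersetCard i).val.map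
        fun s => (∏ a ∈ s, X a : MvPolynomial (Fin N) ℤ)).esymm j := by
    ext1 j
    rw [compSer, PowerSeries.coeff_map, PowerSeries.coeff_mk, PowerSeries.coeff_mk]
    exact (compP_spec N i j).1
  rw [map_psiS θ (constantCoeff_compSer N i), hG, psiS_mk_esymm _ hm, Multiset.map_map,
    ← Finset.sum_eq_multiset_sum, Finset.esymm_map_val]
  simp only [Function.comp_apply, Finset.prod_pow]

/-- `Σ_i ψ^m(λ^i x) t^i`. -/
noncomputable def psiLamSer (N m : ℕ) : PowerSeries (MvPolynomial (Fin N) ℤ) :=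
  PowerSeries.mk fun i => psiS (compSer N i) m

theorem map_psiLamSer (N m : ℕ) (hm : m ≠ 0) :
    PowerSeries.map (esymmEval (Fin N) ℤ N).toRingHom (psiLamSer N m) = PowerSeries.mk fun i =>
      ((Finset.univ : Finset (Fin N)).val.map fun a => (X a : MvPolynomial (Fin N) ℤ) ^ m).esymm i := by
  ext1 i
  rw [psiLamSer, PowerSeries.coeff_map, PowerSeries.coeff_mk, PowerSeries.coeff_mk]
  exact esymmEval_psiS_compSer N i m hm

theorem constantCoeff_psiLamSer (N m : ℕ) (hm : m ≠ 0) :
    PowerSeries.constantCoeff (psiLamSer N m) = 1 := by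
  refine esymmEval_injective (σ := Fin N) (Fintype.card_fin N).ge ?_
  rw [← PowerSeries.coeff_zero_eq_constantCoeff_apply, map_one, psiLamSer, PowerSeries.coeff_mk,
    esymmEval_psiS_compSer N 0 m hm]
  simp [Multiset.esymm]

/-- `ψ^k ψ^m = ψ^{mk}` universally. -/
theorem psiS_psiLamSer (N m k : ℕ) (hm : m ≠ 0) :
    psiS (psiLamSer N m) k = psiS (genSer fun a : Fin N => (X a : MvPolynomial (Fin N) ℤ)) (m * k) := by
  rcases eq_or_ne k 0 with rfl | hk
  · simp [psiS]
  refine esymmEval_injective (σ := Fin N) (Fintype.card_fin N).ge ?_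
  set θ := (esymmEval (Fin N) ℤ N).toRingHom with hθ
  show θ _ = θ _
  rw [map_psiS θ (constantCoeff_psiLamSer N m hm), map_psiS θ (constantCoeff_genSer _),
    map_psiLamSer N m hm, map_genSer,
    show (θ ∘ fun a : Fin N => X a) = fun a : Fin N =>
      ((Finset.univ : Finset (Fin N)).val.map fun a => (X a : MvPolynomial (Fin N) ℤ)).esymm ((a : ℕ) + 1)
      from funext fun a => by simp [hθ, esymmEval, esymm_eq_multiset_esymm],
    genSer_esymm _ (by simp), psiS_mk_esymm _ hk, psiS_mk_esymm _ (Nat.mul_ne_zero hm hk),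
    Multiset.map_map]
  simp [Function.comp_def, pow_mul]

/-! ## Evaluation in a λ-ring -/

variable {K : Type u} [CommRing K] [LambdaOps K]

theorem adamsOp_eq_psiS_genSer {N k : ℕ} (hk : k ≤ N) (x : K) :
    adamsOp k x = psiS (genSer fun a : Fin N => LambdaOps.lam ((a : ℕ) + 1) x) k := by
  rw [adamsOp_eq_psiS]
  exact psiS_congr (constantCoeff_lamSeries x) (constantCoeff_genSer _) (n := N)
    (fun m hm => by rw [coeff_genSer_lam x hm, coeff_lamSeries]) hk

/-- The value of `Σ P_m t^m`. -/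
noncomputable def mulSerVal (N : ℕ) (x y : K) : PowerSeries K :=
  PowerSeries.map (aeval (Sum.elim (fun k : Fin N => LambdaOps.lam ((k : ℕ) + 1) x)
    (fun k : Fin N => LambdaOps.lam ((k : ℕ) + 1) y)) : MvPolynomial (Fin N ⊕ Fin N) ℤ →ₐ[ℤ] K).toRingHom
    (mulSer N)

theorem constantCoeff_mulSerVal (N : ℕ) (x y : K) :
    PowerSeries.constantCoeff (mulSerVal N x y) = 1 := by
  rw [← PowerSeries.coeff_zero_eq_constantCoeff_apply, mulSerVal, PowerSeries.coeff_map,
    PowerSeries.coeff_zero_eq_constantCoeff_apply, constantCoeff_mulSer, map_one]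

theorem coeff_mulSerVal (N m : ℕ) (x y : K) :
    PowerSeries.coeff m (mulSerVal N x y) = aeval (Sum.elim (fun k : Fin N => LambdaOps.lam ((k : ℕ) + 1) x)
      (fun k : Fin N => LambdaOps.lam ((k : ℕ) + 1) y)) (mulP N m) := by
  simp [mulSerVal, mulSer]

theorem psiS_mulSerVal {N j : ℕ} (hj : j ≤ N) (x y : K) :
    psiS (mulSerVal N x y) j = adamsOp j x * adamsOp j y := by
  rw [mulSerVal, ← map_psiS _ (constantCoeff_mulSer N), psiS_mulSer, map_mul,
    map_psiS _ (constantCoeff_genSer _), map_psiS _ (constantCoeff_genSer _), map_genSer, map_genSer,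
    adamsOp_eq_psiS_genSer hj, adamsOp_eq_psiS_genSer hj]
  simp [Function.comp_def]

/-- The value of `Σ_j Q_{i,j} t^j`. -/
noncomputable def compSerVal (N i : ℕ) (x : K) : PowerSeries K :=
  PowerSeries.map (aeval (fun k : Fin N => LambdaOps.lam ((k : ℕ) + 1) x) : MvPolynomial (Fin N) ℤ →ₐ[ℤ] K).toRingHom
    (compSer N i)

theorem constantCoeff_compSerVal (N i : ℕ) (x : K) :
    PowerSeries.constantCoeff (compSerVal N i x) = 1 := by
  rw [← PowerSeries.coeff_zero_eq_constantCoeff_apply, compSerVal, PowerSeries.coeff_map,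
    PowerSeries.coeff_zero_eq_constantCoeff_apply, constantCoeff_compSer, map_one]

theorem coeff_compSerVal (N i j : ℕ) (x : K) :
    PowerSeries.coeff j (compSerVal N i x) =
      aeval (fun k : Fin N => LambdaOps.lam ((k : ℕ) + 1) x) (compP N i j) := by
  simp [compSerVal, compSer]

/-- The value of `Σ_i ψ^m(λ^i x) t^i`. -/
noncomputable def psiLamSerVal (N m : ℕ) (x : K) : PowerSeries K :=
  PowerSeries.map (aeval (fun k : Fin N => LambdaOps.lam ((k : ℕ) + 1) x) : MvPolynomial (Fin N) ℤ →ₐ[ℤ] K).toRingHom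
    (psiLamSer N m)

theorem coeff_psiLamSerVal (N m i : ℕ) (x : K) :
    PowerSeries.coeff i (psiLamSerVal N m x) = psiS (compSerVal N i x) m := by
  rw [compSerVal, ← map_psiS _ (constantCoeff_compSer N i), psiLamSerVal, PowerSeries.coeff_map,
    psiLamSer, PowerSeries.coeff_mk]

theorem constantCoeff_psiLamSerVal (N : ℕ) {m : ℕ} (hm : m ≠ 0) (x : K) :
    PowerSeries.constantCoeff (psiLamSerVal N m x) = 1 := by
  rw [← PowerSeries.coeff_zero_eq_constantCoeff_apply, psiLamSerVal, PowerSeries.coeff_map,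
    PowerSeries.coeff_zero_eq_constantCoeff_apply, constantCoeff_psiLamSer N m hm, map_one]

theorem psiS_psiLamSerVal {N m k : ℕ} (hm : m ≠ 0) (hmk : m * k ≤ N) (x : K) :
    psiS (psiLamSerVal N m x) k = adamsOp (m * k) x := by
  rw [psiLamSerVal, ← map_psiS _ (constantCoeff_psiLamSer N m hm), psiS_psiLamSer N m k hm,
    map_psiS _ (constantCoeff_genSer _), map_genSer, adamsOp_eq_psiS_genSer hmk]
  simp [Function.comp_def]

/-! ## Special ⇒ properties of `ψ` -/

theorem adamsOp_mul (hK : IsSpecial K) (k : ℕ) (x y : K) :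
    adamsOp k (x * y) = adamsOp k x * adamsOp k y := by
  rw [← psiS_mulSerVal (le_refl k), adamsOp_eq_psiS]
  refine psiS_congr (constantCoeff_lamSeries _) (constantCoeff_mulSerVal _ x y) (n := k) (fun m hm => ?_) le_rfl
  rw [coeff_lamSeries, coeff_mulSerVal, lam_mul_eval hK hm (mulP_spec k m).1 (mulP_spec k m).2]

theorem adamsOp_add (k : ℕ) (x y : K) : adamsOp k (x + y) = adamsOp k x + adamsOp k y := by
  rw [adamsOp_eq_psiS, adamsOp_eq_psiS, adamsOp_eq_psiS, lamSeries_add,
    psiS_mul (constantCoeff_lamSeries x) (constantCoeff_lamSeries y)]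

theorem adamsOp_one (h1 : ∀ n : ℕ, 2 ≤ n → LambdaOps.lam n (1 : K) = 0) (k : ℕ) (hk : k ≠ 0) :
    adamsOp k (1 : K) = 1 := by
  rw [adamsOp_eq_psiS, lamSeries_of_lam_eq_zero h1, psiS_one_add_C_mul_X _ k hk, one_pow]

/-- `ψ^k` as a ring map. -/
noncomputable def adamsOpHom (h1 : ∀ n : ℕ, 2 ≤ n → LambdaOps.lam n (1 : K) = 0)
    (hmul : ∀ k : ℕ, 1 ≤ k → ∀ x y : K, adamsOp k (x * y) = adamsOp k x * adamsOp k y) (k : ℕ)
    (hk : k ≠ 0) : K →+* K :=
  { AddMonoidHom.mk' (adamsOp k) (adamsOp_add k) with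
    map_one' := adamsOp_one h1 k hk
    map_mul' := hmul k (Nat.pos_of_ne_zero hk) }

theorem adamsOp_adamsOp (hK : IsSpecial K) {k k' : ℕ} (hk : k ≠ 0) (x : K) :
    adamsOp k (adamsOp k' x) = adamsOp (k * k') x := by
  rw [← psiS_psiLamSerVal hk (le_refl (k * k')) x, adamsOp_eq_psiS k' x]
  set f := adamsOpHom hK.lam_one_eq_zero (fun n _ => adamsOp_mul hK n) k hk
  show f _ = _
  rw [map_psiS f (constantCoeff_lamSeries x)]
  refine psiS_congr (by rw [← PowerSeries.coeff_zero_eq_constantCoeff_apply, PowerSeries.coeff_map,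
    PowerSeries.coeff_zero_eq_constantCoeff_apply, constantCoeff_lamSeries, map_one])
    (constantCoeff_psiLamSerVal _ hk x) (n := k') (fun i hi => ?_) le_rfl
  rw [coeff_psiLamSerVal, PowerSeries.coeff_map, coeff_lamSeries]
  show adamsOp k _ = _
  rw [adamsOp_eq_psiS]
  refine psiS_congr (constantCoeff_lamSeries _) (constantCoeff_compSerVal _ i x) (n := k) (fun j hj => ?_) le_rfl
  rw [coeff_lamSeries, coeff_compSerVal,
    lam_lam_eval hK (by rw [mul_comm k k']; exact Nat.mul_le_mul hi hj) (compP_spec _ i j).1 (compP_spec _ i j).2]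

/-! ## `ψ` multiplicative ⇒ special -/

theorem lam_one_eq_zero_of_adamsOp [IsAddTorsionFree K]
    (h : ∀ k : ℕ, 1 ≤ k → adamsOp k (1 : K) = 1) (n : ℕ) (hn : 2 ≤ n) : LambdaOps.lam n (1 : K) = 0 := by
  rw [← coeff_lamSeries, coeff_eq_of_psiS_eq (constantCoeff_lamSeries _)
    (g := 1 + PowerSeries.C (1 : K) * PowerSeries.X) (by simp) (n := n) (fun k hk _ => ?_) le_rfl]
  · simp [show n ≠ 0 by omega, show n ≠ 1 by omega, PowerSeries.coeff_one, PowerSeries.coeff_X]
  · rw [← adamsOp_eq_psiS, h k hk, psiS_one_add_C_mul_X _ k (by omega), one_pow]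

theorem isSpecial_of_adamsOp [IsAddTorsionFree K]
    (h1 : ∀ k : ℕ, 1 ≤ k → adamsOp k (1 : K) = 1)
    (hmul : ∀ k : ℕ, 1 ≤ k → ∀ x y : K, adamsOp k (x * y) = adamsOp k x * adamsOp k y)
    (hcomp : ∀ k k' : ℕ, 1 ≤ k → 1 ≤ k' → ∀ x : K, adamsOp k (adamsOp k' x) = adamsOp (k * k') x) :
    IsSpecial K := by
  have hone := lam_one_eq_zero_of_adamsOp h1
  refine ⟨hone, fun n P hP x y => ?_, fun i j Q hQ x => ?_⟩
  · rw [show P = mulP n n from esymmEval₂_injective (σ := Fin n) (τ := Fin n) (Fintype.card_fin n).ge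
      (Fintype.card_fin n).ge (hP.1.trans (mulP_spec n n).1.symm), ← coeff_mulSerVal, ← coeff_lamSeries]
    refine coeff_eq_of_psiS_eq (constantCoeff_lamSeries _) (constantCoeff_mulSerVal _ x y) (n := n)
      (fun k hk hkn => ?_) le_rfl
    rw [← adamsOp_eq_psiS, psiS_mulSerVal hkn, hmul k hk]
  · rw [show Q = compP (i * j) i j from esymmEval_injective (σ := Fin (i * j)) (Fintype.card_fin _).ge
      (hQ.1.trans (compP_spec (i * j) i j).1.symm), ← coeff_compSerVal, ← coeff_lamSeries]
    refine coeff_eq_of_psiS_eq (constantCoeff_lamSeries _) (constantCoeff_compSerVal _ i x) (n := j)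
      (fun m hm hmj => ?_) le_rfl
    have hm0 : m ≠ 0 := by omega
    rw [← adamsOp_eq_psiS, ← coeff_psiLamSerVal]
    set f := adamsOpHom hone hmul m hm0
    show f _ = _
    rw [← coeff_lamSeries, ← PowerSeries.coeff_map]
    refine coeff_eq_of_psiS_eq
      (by rw [← PowerSeries.coeff_zero_eq_constantCoeff_apply, PowerSeries.coeff_map,
        PowerSeries.coeff_zero_eq_constantCoeff_apply, constantCoeff_lamSeries, map_one])
      (constantCoeff_psiLamSerVal _ hm0 x) (n := i) (fun k hk hki => ?_) le_rfl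
    rw [psiS_psiLamSerVal hm0 (by rw [mul_comm i j]; exact Nat.mul_le_mul hmj hki),
      ← map_psiS f (constantCoeff_lamSeries x), ← adamsOp_eq_psiS]
    exact hcomp m k hm hk x

theorem adamsOp_of_isBinomial [BinomialRing K] (hKb : IsBinomial K) (k : ℕ) (hk : 1 ≤ k) (x : K) :
    adamsOp k x = x := by
  have key : ∀ n, ((n + 1 : ℕ) : K) * Ring.choose x (n + 1) + (n : K) * Ring.choose x n = x * Ring.choose x n := by
    intro n
    haveI : IsAddTorsionFree K := BinomialRing.toIsAddTorsionFree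
    refine nsmul_right_injective (Nat.factorial_ne_zero n) ?_
    simp only [nsmul_eq_mul]
    have e1 := Ring.descPochhammer_eq_factorial_smul_choose x (n + 1)
    have e0 := Ring.descPochhammer_eq_factorial_smul_choose x n
    rw [nsmul_eq_mul] at e1 e0
    rw [descPochhammer_succ_right, Polynomial.smeval_mul, Polynomial.smeval_sub, Polynomial.smeval_X,
      Polynomial.smeval_natCast, e0, Nat.factorial_succ, Nat.cast_mul] at e1
    simp only [pow_one, pow_zero, nsmul_eq_mul, mul_one] at e1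
    linear_combination -e1
  have hd : dlogS (lamSeries x) = PowerSeries.C x * PowerSeries.mk (fun n => (-1 : K) ^ n) := by
    refine eq_dlogS (constantCoeff_lamSeries x) ?_
    have hder : PowerSeries.derivative K (lamSeries x) * (1 + PowerSeries.X) =
        PowerSeries.C x * lamSeries x := by
      ext n
      rw [mul_add, mul_one, map_add, PowerSeries.coeff_C_mul, coeff_lamSeries, hKb]
      rcases n with _ | n
      · simp [PowerSeries.coeff_derivative, coeff_lamSeries, LambdaOps.lam_one]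
      · rw [PowerSeries.coeff_succ_mul_X, PowerSeries.coeff_derivative, PowerSeries.coeff_derivative,
          coeff_lamSeries, coeff_lamSeries, hKb, hKb, ← key (n + 1)]
        push_cast
        ring
    have hinv : (1 + PowerSeries.X : PowerSeries K) * PowerSeries.mk (fun n => (-1 : K) ^ n) = 1 := by
      ext n
      rcases n with _ | n
      · simp
      · simp [add_mul, pow_succ, PowerSeries.coeff_one]
    rw [mul_right_comm, ← hder, mul_assoc, hinv, mul_one]
  obtain ⟨p, rfl⟩ : ∃ p, k = p + 1 := ⟨k - 1, by omega⟩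
  rw [adamsOp_eq_psiS, psiS_succ, hd, PowerSeries.coeff_C_mul, PowerSeries.coeff_mk, mul_left_comm,
    ← mul_pow]
  simp

end Groth.Agent.Lambda
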