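import Groth.Agent.Lambda.Theta
import Groth.Agent.Lambda.Elem
import Groth.Agent.Lambda.Special
import Mathlib.RingTheory.Polynomial.Vieta

/-!
# The λ-rings `K[T]` and `K[T]/(p_e)`
-/

universe u

open Finset LambdaRing

namespace Groth.Agent.Lambda

/-! ## Products in a special λ-ring -/

section Top

open MvPolynomial

variable {R : Type u} [CommRing R] [LambdaOps R]

/-- Ideals absorbing `λ^k x` and `λ^k y` absorb, in their product, `λ^k (x y)`. -/
theorem lam_mul_mem_mul (hR : IsSpecial R) {I J : Ideal R} {x y : R}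
    (hx : ∀ k, k ≠ 0 → LambdaOps.lam k x ∈ I) (hy : ∀ k, k ≠ 0 → LambdaOps.lam k y ∈ J) {n : ℕ} (hn : n ≠ 0) :
    LambdaOps.lam n (x * y) ∈ I * J := by
  classical
  obtain ⟨P, hP⟩ := exists_isMulPoly n
  rw [hR.lam_mul n P hP, P.as_sum, map_sum]
  refine sum_mem fun d hd => ?_
  rw [aeval_monomial]
  refine Ideal.mul_mem_left _ _ ?_
  have hw := hP.2 (mem_support_iff.mp hd)
  rw [Finsupp.weight_apply, Finsupp.sum_fintype _ _ (fun i => by simp), Fintype.sum_sum_type] at hw
  have h1 := congrArg Prod.fst hw
  have h2 := congrArg Prod.snd hw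
  simp only [Sum.elim_inl, Sum.elim_inr, Prod.fst_add, Prod.fst_sum, Prod.smul_fst, Prod.snd_add, Prod.snd_sum,
    Prod.smul_snd, smul_eq_mul, mul_zero, sum_const_zero, add_zero, zero_add] at h1 h2
  obtain ⟨i, hi⟩ : ∃ i : Fin n, d (Sum.inl i) ≠ 0 := by
    by_contra! h
    exact hn (h1.symm.trans (sum_eq_zero fun i _ => by rw [h i, zero_mul]))
  obtain ⟨j, hj⟩ : ∃ j : Fin n, d (Sum.inr j) ≠ 0 := by
    by_contra! h
    exact hn (h2.symm.trans (sum_eq_zero fun i _ => by rw [h i, zero_mul]))
  rw [Finsupp.prod_fintype _ _ (fun i => pow_zero _), Fintype.prod_sum_type]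
  refine Ideal.mul_mem_mul ?_ ?_
  · rw [← mul_prod_erase univ _ (mem_univ i)]
    exact Ideal.mul_mem_right _ _ (Ideal.pow_mem_of_mem _ (hx _ (Nat.succ_ne_zero _)) _ (Nat.pos_of_ne_zero hi))
  · rw [← mul_prod_erase univ _ (mem_univ j)]
    exact Ideal.mul_mem_right _ _ (Ideal.pow_mem_of_mem _ (hy _ (Nat.succ_ne_zero _)) _ (Nat.pos_of_ne_zero hj))

/-- `λ^n(xy)` for `x`, `y` of finite dimensions `a + 1`, `b + 1`. -/
theorem lam_mul_of_bounded (hR : IsSpecial R) {a b : ℕ} {x y : R} (hx : ∀ i, a + 1 < i → LambdaOps.lam i x = 0)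
    (hy : ∀ i, b + 1 < i → LambdaOps.lam i y = 0) :
    (∀ n, (a + 1) * (b + 1) < n → LambdaOps.lam n (x * y) = 0) ∧
      LambdaOps.lam ((a + 1) * (b + 1)) (x * y) =
        LambdaOps.lam (a + 1) x ^ (b + 1) * LambdaOps.lam (b + 1) y ^ (a + 1) := by
  classical
  -- the restricted universal polynomial
  have key : ∀ n, ∃ P' : MvPolynomial (Fin (a + 1) ⊕ Fin (b + 1)) ℤ,
      aeval (Sum.elim (fun k : Fin (a + 1) => LambdaOps.lam ((k : ℕ) + 1) x)
        (fun k : Fin (b + 1) => LambdaOps.lam ((k : ℕ) + 1) y)) P' = LambdaOps.lam n (x * y) ∧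
      esymmEval₂ (Fin (a + 1)) (Fin (b + 1)) ℤ (a + 1) (b + 1) P' =
        ((univ : Finset (Fin (a + 1) × Fin (b + 1))).val.map
          fun ab => (X (Sum.inl ab.1) * X (Sum.inr ab.2) : MvPolynomial (Fin (a + 1) ⊕ Fin (b + 1)) ℤ)).esymm n := by
    intro n
    obtain ⟨N, hN⟩ : ∃ N, N = n + (a + 1) + (b + 1) := ⟨_, rfl⟩
    let κ : Fin N ⊕ Fin N → MvPolynomial (Fin (a + 1) ⊕ Fin (b + 1)) ℤ :=
      Sum.elim (fun k => rename Sum.inl (killVars N (a + 1) k)) (fun k => rename Sum.inr (killVars N (b + 1) k))
    refine ⟨aeval κ (mulP N n), ?_, ?_⟩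
    · rw [← lam_mul_eval hR (by omega) (mulP_spec N n).1 (mulP_spec N n).2 x y,
        show ∀ z, aeval (R := ℤ) (Sum.elim (fun k : Fin (a + 1) => LambdaOps.lam ((k : ℕ) + 1) x)
          (fun k : Fin (b + 1) => LambdaOps.lam ((k : ℕ) + 1) y)) z = (aeval (R := ℤ)
          (Sum.elim (fun k : Fin (a + 1) => LambdaOps.lam ((k : ℕ) + 1) x)
          (fun k : Fin (b + 1) => LambdaOps.lam ((k : ℕ) + 1) y))).toRingHom z from fun _ => rfl]
      refine (ringHom_aeval_int _ _ _).trans ?_
      congr 2
      funext v
      rcases v with k | k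
      · simp only [κ, Sum.elim_inl, AlgHom.toRingHom_eq_coe, RingHom.coe_coe, aeval_rename, Sum.elim_comp_inl]
        by_cases hk : (k : ℕ) < a + 1
        · rw [killVars, dif_pos hk, aeval_X]
        · rw [killVars, dif_neg hk, map_zero, hx _ (by omega)]
      · simp only [κ, Sum.elim_inr, AlgHom.toRingHom_eq_coe, RingHom.coe_coe, aeval_rename, Sum.elim_comp_inr]
        by_cases hk : (k : ℕ) < b + 1
        · rw [killVars, dif_pos hk, aeval_X]
        · rw [killVars, dif_neg hk, map_zero, hy _ (by omega)]
    · -- compute at the roots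
      have hcomp : (esymmEval₂ (Fin (a + 1)) (Fin (b + 1)) ℤ (a + 1) (b + 1)).comp (aeval κ) =
          (aeval κ).comp (esymmEval₂ (Fin N) (Fin N) ℤ N N) := by
        refine MvPolynomial.algHom_ext fun v => ?_
        rcases v with k | k
        · simp only [AlgHom.comp_apply, esymmEval₂, aeval_X, Sum.elim_inl, κ, aeval_rename, Sum.elim_comp_inl]
          rw [show (aeval fun k : Fin N => rename (Sum.inl : Fin (a + 1) → Fin (a + 1) ⊕ Fin (b + 1)) (killVars N (a + 1) k))
            (esymm (Fin N) ℤ ((k : ℕ) + 1)) = rename Sum.inl (esymm (Fin (a + 1)) ℤ ((k : ℕ) + 1)) by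
              rw [← aeval_killVars_esymm (show a + 1 ≤ N by omega), ← AlgHom.comp_apply (rename _), comp_aeval]]
          by_cases hk : (k : ℕ) < a + 1
          · rw [killVars, dif_pos hk, aeval_X]
          · rw [killVars, dif_neg hk, map_zero, esymm, powersetCard_eq_empty.mpr (by simp; omega),
              sum_empty, map_zero]
        · simp only [AlgHom.comp_apply, esymmEval₂, aeval_X, Sum.elim_inr, κ, aeval_rename, Sum.elim_comp_inr]
          rw [show (aeval fun k : Fin N => rename (Sum.inr : Fin (b + 1) → Fin (a + 1) ⊕ Fin (b + 1)) (killVars N (b + 1) k))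
            (esymm (Fin N) ℤ ((k : ℕ) + 1)) = rename Sum.inr (esymm (Fin (b + 1)) ℤ ((k : ℕ) + 1)) by
              rw [← aeval_killVars_esymm (show b + 1 ≤ N by omega), ← AlgHom.comp_apply (rename _), comp_aeval]]
          by_cases hk : (k : ℕ) < b + 1
          · rw [killVars, dif_pos hk, aeval_X]
          · rw [killVars, dif_neg hk, map_zero, esymm, powersetCard_eq_empty.mpr (by simp; omega),
              sum_empty, map_zero]
      have h := AlgHom.congr_fun hcomp (mulP N n)
      rw [AlgHom.comp_apply, AlgHom.comp_apply, (mulP_spec N n).1, mulGen] at h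
      rw [h, show ∀ z, aeval (R := ℤ) κ z = (aeval (R := ℤ) κ).toRingHom z from fun _ => rfl]
      rw [Multiset.esymm, map_multiset_sum, Multiset.map_map]
      have hmap : ∀ s : Multiset (MvPolynomial (Fin N ⊕ Fin N) ℤ),
          (Multiset.map ((aeval (R := ℤ) κ).toRingHom ∘ Multiset.prod) (Multiset.powersetCard n s)).sum =
            (s.map (aeval (R := ℤ) κ)).esymm n := fun s => by
        rw [Multiset.esymm, Multiset.powersetCard_map, Multiset.map_map]
        simp [Function.comp_def, map_multiset_prod]
      rw [hmap, Multiset.map_map]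
      refine esymm_map_of_zero _ Finset.univ
        ((Fin.castLEEmb (show a + 1 ≤ N by omega)).prodMap (Fin.castLEEmb (show b + 1 ≤ N by omega))) _ _
        (subset_univ _) (fun p _ => ?_) (fun p _ hp => ?_) n
      · simp [κ, killVars_castLE]
      · rcases p with ⟨p, q⟩
        have : ¬ ((p : ℕ) < a + 1 ∧ (q : ℕ) < b + 1) := fun hh => hp (Finset.mem_map.mpr
          ⟨(⟨p, hh.1⟩, ⟨q, hh.2⟩), mem_univ _, rfl⟩)
        rcases not_and_or.mp this with h | h <;>
          simp only [κ, killVars, Function.comp_apply, Sum.elim_inl, Sum.elim_inr, map_mul, aeval_X, dif_neg h, map_zero, zero_mul, mul_zero]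
  constructor
  · intro n hn
    obtain ⟨P', h1, h2⟩ := key n
    have : P' = 0 := esymmEval₂_injective (σ := Fin (a + 1)) (τ := Fin (b + 1)) (by simp) (by simp) (by
      rw [h2, map_zero, Multiset.esymm, Multiset.powersetCard_eq_empty _ (by simp; omega)]
      simp)
    rw [← h1, this, map_zero]
  · obtain ⟨P', h1, h2⟩ := key ((a + 1) * (b + 1))
    have : P' = X (Sum.inl (Fin.last a)) ^ (b + 1) * X (Sum.inr (Fin.last b)) ^ (a + 1) :=
      esymmEval₂_injective (σ := Fin (a + 1)) (τ := Fin (b + 1)) (by simp) (by simp) (by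
        rw [h2, map_mul, map_pow, map_pow, esymmEval₂, aeval_X, aeval_X, Sum.elim_inl, Sum.elim_inr, Fin.val_last,
          Fin.val_last, esymm, esymm, sum_powersetCard_top (fun i : Fin (a + 1) => (X i : MvPolynomial (Fin (a + 1)) ℤ)),
          sum_powersetCard_top (fun i : Fin (b + 1) => (X i : MvPolynomial (Fin (b + 1)) ℤ)), map_prod, map_prod,
          Finset.esymm_map_val]
        have hcard : (univ : Finset (Fin (a + 1) × Fin (b + 1))).card = (a + 1) * (b + 1) := by simp
        rw [← hcard, powersetCard_self, sum_singleton, Fintype.prod_prod_type]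
        simp [prod_mul_distrib, prod_pow, Finset.prod_const]
        )
    rw [← h1, this]
    simp

end Top

/-! ## `K[T]` -/

section Poly

open Polynomial

variable {K : Type u} [CommRing K] [LambdaOps K]

/-- `λ_t(Σ a_i T^i) = ∏ λ_{T^i t}(a_i)`. -/
noncomputable def polySeries (q : K[X]) : PowerSeries K[X] :=
  ∏ i ∈ q.support, PowerSeries.rescale (Polynomial.X ^ i) (PowerSeries.map Polynomial.C (lamSeries (q.coeff i)))

theorem polySeries_eq_prod (q : K[X]) {s : Finset ℕ} (hs : q.support ⊆ s) :
    polySeries q =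
      ∏ i ∈ s, PowerSeries.rescale (Polynomial.X ^ i) (PowerSeries.map Polynomial.C (lamSeries (q.coeff i))) := by
  refine prod_subset hs fun i _ hi => ?_
  rw [Polynomial.notMem_support_iff.mp hi, lamSeries_zero, map_one, map_one]

theorem polySeries_add (p q : K[X]) : polySeries (p + q) = polySeries p * polySeries q := by
  rw [polySeries_eq_prod (p + q) (s := p.support ∪ q.support) Polynomial.support_add,
    polySeries_eq_prod p (s := p.support ∪ q.support) subset_union_left,
    polySeries_eq_prod q (s := p.support ∪ q.support) subset_union_right, ← prod_mul_distrib]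
  exact prod_congr rfl fun i _ => by rw [Polynomial.coeff_add, lamSeries_add, map_mul, map_mul]

theorem polySeries_monomial (i : ℕ) (c : K) :
    polySeries (Polynomial.monomial i c) =
      PowerSeries.rescale (Polynomial.X ^ i) (PowerSeries.map Polynomial.C (lamSeries c)) := by
  rw [polySeries_eq_prod _ (s := {i}) ((Polynomial.support_monomial_subset i c)), prod_singleton, Polynomial.coeff_monomial,
    if_pos rfl]

theorem polySeries_zero : polySeries (0 : K[X]) = 1 := by simp [polySeries]

theorem constantCoeff_polySeries (q : K[X]) : PowerSeries.constantCoeff (polySeries q) = 1 := by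
  rw [polySeries, map_prod]
  refine prod_eq_one fun i _ => ?_
  rw [← PowerSeries.coeff_zero_eq_constantCoeff_apply, PowerSeries.coeff_rescale, pow_zero, one_mul,
    PowerSeries.coeff_map, coeff_lamSeries, LambdaOps.lam_zero, map_one]

theorem coeff_one_polySeries (q : K[X]) : PowerSeries.coeff 1 (polySeries q) = q := by
  induction q using Polynomial.induction_on' with
  | add p q hp hq =>
    rw [polySeries_add, PowerSeries.coeff_mul, Finset.Nat.sum_antidiagonal_eq_sum_range_succ_mk, sum_range_succ,
      sum_range_one, Nat.sub_self, Nat.sub_zero, hp, hq, PowerSeries.coeff_zero_eq_constantCoeff_apply,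
      PowerSeries.coeff_zero_eq_constantCoeff_apply, constantCoeff_polySeries, constantCoeff_polySeries]
    ring
  | monomial i c =>
    rw [polySeries_monomial, PowerSeries.coeff_rescale, pow_one, PowerSeries.coeff_map, coeff_lamSeries,
      LambdaOps.lam_one, Polynomial.X_pow_mul, Polynomial.C_mul_X_pow_eq_monomial]

/-- The λ-structure on `K[T]`, with `T` a line. -/
noncomputable scoped instance polyLambda : LambdaOps K[X] where
  lam n q := PowerSeries.coeff n (polySeries q)
  lam_zero q := by rw [PowerSeries.coeff_zero_eq_constantCoeff_apply, constantCoeff_polySeries]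
  lam_one q := coeff_one_polySeries q
  lam_add k p q := by
    rw [polySeries_add, PowerSeries.coeff_mul, Finset.Nat.sum_antidiagonal_eq_sum_range_succ_mk]

theorem lamSeries_eq_polySeries (q : K[X]) : lamSeries q = polySeries q := by
  ext1 n; rw [coeff_lamSeries]; rfl

theorem lam_monomial (n i : ℕ) (c : K) :
    LambdaOps.lam n (Polynomial.monomial i c) = Polynomial.monomial (i * n) (LambdaOps.lam n c) := by
  show PowerSeries.coeff n (polySeries _) = _
  rw [polySeries_monomial, PowerSeries.coeff_rescale, PowerSeries.coeff_map, coeff_lamSeries, ← pow_mul,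
    Polynomial.X_pow_mul, Polynomial.C_mul_X_pow_eq_monomial]

theorem lam_C (n : ℕ) (c : K) : LambdaOps.lam n (Polynomial.C c) = Polynomial.C (LambdaOps.lam n c) := by
  rw [← Polynomial.monomial_zero_left, lam_monomial, zero_mul, Polynomial.monomial_zero_left]

theorem lam_X (h1 : ∀ i, 2 ≤ i → LambdaOps.lam i (1 : K) = 0) {n : ℕ} (hn : 2 ≤ n) :
    LambdaOps.lam n (Polynomial.X : K[X]) = 0 := by
  rw [← Polynomial.monomial_one_one_eq_X, lam_monomial, h1 n hn, map_zero]

theorem map_polyLam {L : Type u} [CommRing L] [LambdaOps L] {f : K →+* L} (hf : IsLambdaHom f) (n : ℕ) (q : K[X]) :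
    (LambdaOps.lam n q).map f = LambdaOps.lam n (q.map f) := by
  induction q using Polynomial.induction_on' generalizing n with
  | add p q hp hq =>
    rw [LambdaOps.lam_add, Polynomial.map_sum, Polynomial.map_add, LambdaOps.lam_add]
    exact sum_congr rfl fun i _ => by rw [Polynomial.map_mul, hp, hq]
  | monomial i c => rw [lam_monomial, Polynomial.map_monomial, Polynomial.map_monomial, lam_monomial, hf]

variable {P : PosStructure K}

/-- `w_v ↦ v - 1`, `w_* ↦ T - 1`. -/
noncomputable def polyLineHom (Q : PosStructure K) : MvPolynomial (Option (LineIdx Q)) ℤ →+* K[X] :=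
  (MvPolynomial.aeval fun v : Option (LineIdx Q) =>
    v.elim (Polynomial.X - 1) fun v => Polynomial.C ((v : K) - 1) : MvPolynomial (Option (LineIdx Q)) ℤ →ₐ[ℤ] K[X]).toRingHom

theorem polyLineHom_X (Q : PosStructure K) (v : Option (LineIdx Q)) :
    polyLineHom Q (MvPolynomial.X v) = v.elim (Polynomial.X - 1) fun v => Polynomial.C ((v : K) - 1) :=
  MvPolynomial.aeval_X _ _

theorem polyLineHom_lam (i : ℕ) (p : MvPolynomial (Option (LineIdx P)) ℤ) :
    polyLineHom P (LambdaOps.lam i p) = LambdaOps.lam i (polyLineHom P p) := by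
  suffices h : ∀ p, PowerSeries.map (polyLineHom P) (lamSeries p) = lamSeries (polyLineHom P p) by
    have := congrArg (PowerSeries.coeff i) (h p)
    simpa [coeff_lamSeries] using this
  let G : AddSubgroup (MvPolynomial (Option (LineIdx P)) ℤ) :=
    { carrier := {p | PowerSeries.map (polyLineHom P) (lamSeries p) = lamSeries (polyLineHom P p)}
      zero_mem' := by simp
      add_mem' := fun {a b} ha hb => by
        simp only [Set.mem_ofPred_eq] at ha hb ⊢
        rw [lamSeries_add, map_mul, map_add, lamSeries_add, ha, hb]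
      neg_mem' := fun {a} ha => by
        simp only [Set.mem_ofPred_eq] at ha ⊢
        have h := congrArg (PowerSeries.map (polyLineHom P)) (lamSeries_neg_mul_self a)
        rw [map_mul, map_one, ha] at h
        rw [map_neg]
        exact left_inv_eq_right_inv h ((mul_comm _ _).trans (lamSeries_neg_mul_self _)) }
  refine fun p => line_induction (S := G) (fun c => ?_) p
  show PowerSeries.map (polyLineHom P) (lamSeries (lineMon c)) = lamSeries (polyLineHom P (lineMon c))
  obtain ⟨j, u, hu, hju⟩ : ∃ (j : ℕ) (u : K), P.IsLine u ∧ polyLineHom P (lineMon c) = Polynomial.monomial j u := by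
    rw [lineMon_eq, Finsupp.prod, map_prod]
    induction c.support using Finset.cons_induction with
    | empty => exact ⟨0, 1, isLine_one P, by simp⟩
    | cons v s hv ih =>
      obtain ⟨j, u, hu, hju⟩ := ih
      rcases v with _ | v
      · refine ⟨c none + j, u, hu, ?_⟩
        rw [prod_cons, hju, map_pow, map_add, map_one, polyLineHom_X, Option.elim_none, add_sub_cancel,
          ← Polynomial.monomial_one_right_eq_X_pow, Polynomial.monomial_mul_monomial, one_mul]
      · refine ⟨j, (v : K) ^ c (some v) * u, isLine_mul (isLine_pow v.2 _) hu, ?_⟩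
        rw [prod_cons, hju, map_pow, map_add, map_one, polyLineHom_X, Option.elim_some, ← map_one Polynomial.C,
          ← map_add, add_sub_cancel, ← map_pow, ← Polynomial.monomial_zero_left, Polynomial.monomial_mul_monomial,
          zero_add]
  rw [lamSeries_eq_lineSeries, lineSeries_lineMon, hju, lamSeries_of_lam_eq_zero (u := Polynomial.monomial j u)
    fun k hk => by rw [lam_monomial, lam_line hu k hk, map_zero]]
  simp [hju]

/-- `K[T]` is special. -/
theorem isSpecial_poly (hK : HasSplitting K P) : IsSpecial K[X] := by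
  classical
  have h1 : ∀ n, 2 ≤ n → LambdaOps.lam n (1 : K[X]) = 0 := fun n hn => by
    rw [← Polynomial.C_1, lam_C, lam_one_eq_zero P n hn, map_zero]
  have lift : ∀ xs : List K[X], ∃ (L : PosLambdaRing.{u}) (f : K →+* L.carrier), IsExtension P L.posStr f ∧
      ∀ x ∈ xs, ∃ p, polyLineHom L.posStr p = x.map f := by
    intro xs
    obtain ⟨L, f, hf, h⟩ := exists_lift_list hK (xs.flatMap fun x => x.support.toList.map x.coeff)
    refine ⟨L, f, hf, fun x hx => ?_⟩
    suffices hx' : x.map f ∈ (polyLineHom L.posStr).range from hx'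
    rw [← x.sum_monomial_eq, Polynomial.sum, Polynomial.map_sum]
    refine sum_mem fun i hi => ?_
    rw [Polynomial.map_monomial, ← Polynomial.C_mul_X_pow_eq_monomial]
    refine mul_mem ?_ (Subring.pow_mem (polyLineHom L.posStr).range ⟨1 + MvPolynomial.X none, by simp [polyLineHom_X]⟩ _)
    obtain ⟨p, hp⟩ := h (x.coeff i) (List.mem_flatMap.mpr ⟨x, hx, List.mem_map.mpr ⟨i, by simpa using hi, rfl⟩⟩)
    refine ⟨MvPolynomial.rename some p, ?_⟩
    rw [← hp]
    clear hp
    induction p using MvPolynomial.induction_on with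
    | C r => simp
    | add p q hp hq => simp only [map_add, hp, hq]
    | mul_X p v hp =>
      simp only [map_mul, hp, MvPolynomial.rename_X, polyLineHom_X, Option.elim_some]
      simp [lineHom]
  refine ⟨h1, fun n Q hQ x y => ?_, fun i j Q hQ x => ?_⟩
  · obtain ⟨L, f, hf, h⟩ := lift [x, y]
    obtain ⟨p, hp⟩ := h x (by simp)
    obtain ⟨q, hq⟩ := h y (by simp)
    apply Polynomial.map_injective f hf.injective
    rw [map_polyLam hf.isLambdaHom, Polynomial.map_mul, ← hp, ← hq, ← map_mul, ← polyLineHom_lam,
      isSpecial_line.lam_mul n Q hQ p q, ringHom_aeval_int, ← Polynomial.coe_mapRingHom, ringHom_aeval_int]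
    congr 2
    funext k
    rcases k with k | k
    · simp only [Sum.elim_inl, Polynomial.coe_mapRingHom, polyLineHom_lam, hp, map_polyLam hf.isLambdaHom]
    · simp only [Sum.elim_inr, Polynomial.coe_mapRingHom, polyLineHom_lam, hq, map_polyLam hf.isLambdaHom]
  · obtain ⟨L, f, hf, h⟩ := lift [x]
    obtain ⟨p, hp⟩ := h x (by simp)
    apply Polynomial.map_injective f hf.injective
    rw [map_polyLam hf.isLambdaHom, map_polyLam hf.isLambdaHom, ← hp, ← polyLineHom_lam, ← polyLineHom_lam,
      isSpecial_line.lam_lam i j Q hQ p, ringHom_aeval_int, ← Polynomial.coe_mapRingHom, ringHom_aeval_int]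
    congr 2
    funext k
    simp only [Polynomial.coe_mapRingHom, polyLineHom_lam, hp, map_polyLam hf.isLambdaHom]

theorem extPoly_monic (e : K) : (KRR.extPoly P e).Monic := by
  rw [KRR.extPoly, sum_range_succ']
  simp only [pow_zero, one_mul, LambdaOps.lam_zero, map_one, Nat.sub_zero]
  nontriviality K
  refine (Polynomial.monic_X_pow _).add_of_right ?_
  rw [Polynomial.degree_X_pow]
  refine lt_of_le_of_lt (Polynomial.degree_sum_le _ _) ?_
  rw [Finset.sup_lt_iff (WithBot.bot_lt_coe _)]
  intro i hi
  rw [mem_range] at hi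
  exact lt_of_le_of_lt (Polynomial.degree_C_mul_X_pow_le _ _) (Nat.cast_lt.mpr (by omega))

/-- `(p_e)` is a λ-ideal. -/
theorem lam_mem_span_extPoly (hK : HasSplitting K P) {e : K} (he : e ∈ P.pos) {q : K[X]}
    (hq : q ∈ Ideal.span {KRR.extPoly P e}) {n : ℕ} (hn : n ≠ 0) :
    LambdaOps.lam n q ∈ Ideal.span {KRR.extPoly P e} := by
  classical
  have hsp := isSpecial_poly hK
  suffices hp : ∀ k, k ≠ 0 → LambdaOps.lam k (KRR.extPoly P e) ∈ Ideal.span {KRR.extPoly P e} by
    obtain ⟨c, rfl⟩ := Ideal.mem_span_singleton'.mp hq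
    have := lam_mul_mem_mul hsp (I := ⊤) (x := c) (fun _ _ => Submodule.mem_top) hp hn
    rwa [Ideal.top_mul] at this
  intro k hk
  obtain ⟨L, f, hf, hL, s, hs, hse, hcard⟩ := exists_split hK he
  have hLsp := isSpecial_poly hL
  have hmap : (KRR.extPoly P e).map f = (s.map fun u => Polynomial.X - Polynomial.C u).prod := by
    rw [KRR.extPoly, Polynomial.map_sum, ← hcard]
    have hh : (s.map fun u => Polynomial.X - Polynomial.C u) = (s.map Neg.neg).map fun r => Polynomial.X + Polynomial.C r := by
      rw [Multiset.map_map]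
      exact Multiset.map_congr rfl fun u _ => by simp [sub_eq_add_neg]
    rw [hh, Multiset.prod_X_add_C_eq_sum_esymm, Multiset.card_map]
    refine sum_congr rfl fun i _ => ?_
    rw [Polynomial.map_mul, Polynomial.map_C, Polynomial.map_pow, Polynomial.map_X, Multiset.esymm_neg, map_mul,
      map_pow, map_neg, map_one, hf.isLambdaHom, ← hse, lam_lines_sum hs]
  have hprod : ∀ (t : Multiset L.carrier), (∀ u ∈ t, L.posStr.IsLine u) → ∀ k, k ≠ 0 →
      LambdaOps.lam k (t.map fun u => Polynomial.X - Polynomial.C u).prod ∈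
        Ideal.span {(t.map fun u => Polynomial.X - Polynomial.C u).prod} := by
    intro t
    induction t using Multiset.induction_on with
    | empty =>
      intro _ k _
      rw [Multiset.map_zero, Multiset.prod_zero, Ideal.span_singleton_one]
      trivial
    | cons u t ih =>
      intro ht k hk
      rw [Multiset.map_cons, Multiset.prod_cons, ← Ideal.span_singleton_mul_span_singleton]
      refine lam_mul_mem_mul hLsp (fun j hj => ?_) (fun j hj => ih (fun v hv => ht v (Multiset.mem_cons_of_mem hv)) j hj) hk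
      let π := PowerSeries.map (Ideal.Quotient.mk (Ideal.span {Polynomial.X - Polynomial.C u}))
      have hX : lamSeries (Polynomial.X : L.carrier[X]) = 1 + PowerSeries.C Polynomial.X * PowerSeries.X :=
        lamSeries_of_lam_eq_zero fun i hi => lam_X (lam_one_eq_zero L.posStr) hi
      have hC : lamSeries (Polynomial.C u) = 1 + PowerSeries.C (Polynomial.C u) * PowerSeries.X :=
        lamSeries_of_lam_eq_zero fun i hi => by rw [lam_C, lam_line (ht u (Multiset.mem_cons_self u t)) i hi, map_zero]
      have heq : π (lamSeries (Polynomial.X : L.carrier[X])) = π (lamSeries (Polynomial.C u)) := by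
        rw [hX, hC]
        simp only [π, map_add, map_mul, map_one, PowerSeries.map_C, PowerSeries.map_X]
        rw [Ideal.Quotient.eq.mpr (Ideal.mem_span_singleton_self (Polynomial.X - Polynomial.C u))]
      have hone : π (lamSeries (Polynomial.X - Polynomial.C u)) = 1 := by
        have h := congrArg π (lamSeries_add (Polynomial.X - Polynomial.C u) (Polynomial.C u))
        rw [sub_add_cancel, map_mul, heq] at h
        exact ((isUnit_lamSeries (Polynomial.C u)).map π).mul_eq_right.mp h.symm
      have := congrArg (PowerSeries.coeff j) hone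
      simp only [π, PowerSeries.coeff_map, coeff_lamSeries, PowerSeries.coeff_one, if_neg hj] at this
      exact Ideal.Quotient.eq_zero_iff_mem.mp this
  have h := hprod s hs k hk
  rw [← hmap, ← map_polyLam hf.isLambdaHom, Ideal.mem_span_singleton,
    Polynomial.map_dvd_map f hf.injective (extPoly_monic e)] at h
  exact Ideal.mem_span_singleton.mpr h

end Poly

end Groth.Agent.Lambda
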