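import Groth.Agent.Lambda.Special
import Mathlib.Algebra.Module.Rat

/-!
# λ-structures on `ℚ`-algebras from Adams operations
-/

universe u

open Finset LambdaRing

namespace Groth.Agent.Lambda

variable {K : Type u} [CommRing K] [Algebra ℚ K]

/-- The coefficients of `exp (Σ (-1)^(k-1) p_k t^k / k)`. -/
noncomputable def lamOfPsi (p : ℕ → K) : ℕ → K
  | 0 => 1
  | n + 1 => ((n + 1 : ℕ) : ℚ)⁻¹ •
      ∑ i : Fin (n + 1), (-1 : K) ^ (i : ℕ) * p ((i : ℕ) + 1) * lamOfPsi p (n - i)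
decreasing_by omega

theorem lamOfPsi_zero (p : ℕ → K) : lamOfPsi p 0 = 1 := by rw [lamOfPsi]

theorem psiS_lamOfPsi (p : ℕ → K) (k : ℕ) (hk : 1 ≤ k) :
    psiS (PowerSeries.mk (lamOfPsi p)) k = p k := by
  have h : dlogS (PowerSeries.mk (lamOfPsi p)) = PowerSeries.mk fun i => (-1 : K) ^ i * p (i + 1) := by
    refine eq_dlogS (by rw [← PowerSeries.coeff_zero_eq_constantCoeff_apply, PowerSeries.coeff_mk, lamOfPsi_zero]) ?_
    ext n
    rw [PowerSeries.coeff_mul, Finset.Nat.sum_antidiagonal_eq_sum_range_succ_mk,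
      PowerSeries.coeff_derivative, PowerSeries.coeff_mk]
    simp only [PowerSeries.coeff_mk]
    rw [lamOfPsi, Fin.sum_univ_eq_sum_range (fun i => (-1 : K) ^ i * p (i + 1) * lamOfPsi p (n - i)),
      Algebra.smul_def, show ((n : K) + 1) = algebraMap ℚ K ((n + 1 : ℕ) : ℚ) by simp, mul_comm,
      ← mul_assoc, ← map_mul, mul_inv_cancel₀ (by positivity), map_one, one_mul]
  obtain ⟨q, rfl⟩ : ∃ q, k = q + 1 := ⟨k - 1, by omega⟩
  rw [psiS_succ, h, PowerSeries.coeff_mk, ← mul_assoc, ← mul_pow]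
  simp

/-- The λ-structure with given Adams operations. -/
noncomputable def lambdaOpsOfPsi [IsAddTorsionFree K] (ψ : ℕ → K →+ K) (hψ : ψ 1 = AddMonoidHom.id K) :
    LambdaOps K where
  lam n x := lamOfPsi (fun k => ψ k x) n
  lam_zero x := lamOfPsi_zero _
  lam_one x := by
    rw [lamOfPsi, Fin.sum_univ_one]
    simp [hψ, lamOfPsi_zero]
  lam_add n x y := by
    have hc : ∀ z, PowerSeries.constantCoeff (PowerSeries.mk (lamOfPsi fun k => ψ k z)) = 1 := fun z => by
      rw [← PowerSeries.coeff_zero_eq_constantCoeff_apply, PowerSeries.coeff_mk, lamOfPsi_zero]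
    have h := coeff_eq_of_psiS_eq (hc (x + y))
      (g := PowerSeries.mk (lamOfPsi fun k => ψ k x) * PowerSeries.mk (lamOfPsi fun k => ψ k y))
      (by rw [map_mul, hc, hc, mul_one]) (n := n) (fun k hk _ => by
        rw [psiS_mul (hc x) (hc y), psiS_lamOfPsi _ k hk, psiS_lamOfPsi _ k hk, psiS_lamOfPsi _ k hk, map_add])
      le_rfl
    rw [PowerSeries.coeff_mk, PowerSeries.coeff_mul, Finset.Nat.sum_antidiagonal_eq_sum_range_succ_mk] at h
    simpa using h

theorem adamsOp_lambdaOpsOfPsi [IsAddTorsionFree K] (ψ : ℕ → K →+ K) (hψ : ψ 1 = AddMonoidHom.id K)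
    (k : ℕ) (hk : 1 ≤ k) (x : K) : @adamsOp K _ (lambdaOpsOfPsi ψ hψ) k x = ψ k x := by
  rw [@adamsOp_eq_psiS K _ (lambdaOpsOfPsi ψ hψ)]
  exact psiS_lamOfPsi (fun k => ψ k x) k hk

theorem lambdaOps_ext_of_adamsOp {R : Type u} [CommRing R] [IsAddTorsionFree R] (L L' : LambdaOps R)
    (h : ∀ k, 1 ≤ k → ∀ x, @adamsOp R _ L k x = @adamsOp R _ L' k x) : L = L' := by
  have : L.lam = L'.lam := by
    funext n x
    have := coeff_eq_of_psiS_eq (@constantCoeff_lamSeries R _ L x) (@constantCoeff_lamSeries R _ L' x)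
      (n := n) (fun k hk _ => by
        rw [← @adamsOp_eq_psiS R _ L, ← @adamsOp_eq_psiS R _ L', h k hk]) le_rfl
    rwa [@coeff_lamSeries R _ L, @coeff_lamSeries R _ L'] at this
  cases L; cases L'
  congr

end Groth.Agent.Lambda
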