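import Groth.Agent.Lambda.LineRing
import Groth.Agent.Lambda.SymmEval

/-!
# Transfer of identities from `ℤ[w]` to an arbitrary special λ-ring
-/

universe u v w

open MvPolynomial Finset LambdaRing

namespace Groth.Agent.Lambda

theorem weight_le_of_mem_support_mul {ι : Type*} (wt : ι → ℕ) {P Q : MvPolynomial ι ℤ} {a b : ℕ}
    (hP : ∀ d ∈ P.support, Finsupp.weight wt d ≤ a) (hQ : ∀ d ∈ Q.support, Finsupp.weight wt d ≤ b) :
    ∀ d ∈ (P * Q).support, Finsupp.weight wt d ≤ a + b := by
  classical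
  intro d hd
  obtain ⟨d1, h1, d2, h2, rfl⟩ := Finset.mem_add.mp (support_mul P Q hd)
  rw [map_add]
  exact Nat.add_le_add (hP d1 h1) (hQ d2 h2)

section Generic

variable {U : Type u} {A : Type v} [CommRing U] [CommRing A] {ι : Type*}

/-- `z` and `a` are values of one polynomial of weight `≤ w` in the coordinates. -/
def Rel (wt : ι → ℕ) (ζ : ι → U) (α : ι → A) (w : ℕ) (z : U) (a : A) : Prop :=
  ∃ Q : MvPolynomial ι ℤ,
    (∀ d ∈ Q.support, Finsupp.weight wt d ≤ w) ∧ aeval ζ Q = z ∧ aeval α Q = a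

variable {wt : ι → ℕ} {ζ : ι → U} {α : ι → A}

theorem Rel.mono {w w' : ℕ} (h : w ≤ w') {z : U} {a : A} (hr : Rel wt ζ α w z a) :
    Rel wt ζ α w' z a := by
  obtain ⟨Q, hQ, h1, h2⟩ := hr
  exact ⟨Q, fun d hd => (hQ d hd).trans h, h1, h2⟩

theorem rel_intCast (c : ℤ) : Rel wt ζ α 0 (c : U) (c : A) := by
  classical
  refine ⟨C c, fun d hd => ?_, by simp, by simp⟩
  rw [C_apply, mem_support_iff, coeff_monomial] at hd
  split_ifs at hd with h
  · simp [← h]
  · exact absurd rfl hd

theorem rel_natCast (c : ℕ) : Rel wt ζ α 0 (c : U) (c : A) := by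
  simpa using rel_intCast (wt := wt) (ζ := ζ) (α := α) (c : ℤ)

theorem rel_zero (w : ℕ) : Rel wt ζ α w (0 : U) (0 : A) := ⟨0, by simp, by simp, by simp⟩

theorem rel_one (w : ℕ) : Rel wt ζ α w (1 : U) (1 : A) := by
  simpa using (rel_natCast (wt := wt) (ζ := ζ) (α := α) 1).mono (Nat.zero_le w)

theorem rel_var (v : ι) : Rel wt ζ α (wt v) (ζ v) (α v) := by
  classical
  refine ⟨X v, fun d hd => ?_, by simp, by simp⟩
  rw [support_X, Finset.mem_singleton] at hd
  subst hd
  simp [Finsupp.weight_apply]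

theorem Rel.add {w : ℕ} {z z' : U} {a a' : A} (h : Rel wt ζ α w z a) (h' : Rel wt ζ α w z' a') :
    Rel wt ζ α w (z + z') (a + a') := by
  classical
  obtain ⟨Q, hQ, h1, h2⟩ := h
  obtain ⟨Q', hQ', h1', h2'⟩ := h'
  refine ⟨Q + Q', fun d hd => ?_, by simp [h1, h1'], by simp [h2, h2']⟩
  rcases Finset.mem_union.mp (support_add hd) with h | h
  exacts [hQ d h, hQ' d h]

theorem Rel.neg {w : ℕ} {z : U} {a : A} (h : Rel wt ζ α w z a) : Rel wt ζ α w (-z) (-a) := by
  obtain ⟨Q, hQ, h1, h2⟩ := h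
  exact ⟨-Q, by simpa using hQ, by simp [h1], by simp [h2]⟩

theorem Rel.sub {w : ℕ} {z z' : U} {a a' : A} (h : Rel wt ζ α w z a) (h' : Rel wt ζ α w z' a') :
    Rel wt ζ α w (z - z') (a - a') := by
  simpa [sub_eq_add_neg] using h.add h'.neg

theorem Rel.mul {w w' : ℕ} {z z' : U} {a a' : A} (h : Rel wt ζ α w z a) (h' : Rel wt ζ α w' z' a') :
    Rel wt ζ α (w + w') (z * z') (a * a') := by
  obtain ⟨Q, hQ, h1, h2⟩ := h
  obtain ⟨Q', hQ', h1', h2'⟩ := h'
  exact ⟨Q * Q', weight_le_of_mem_support_mul wt hQ hQ', by simp [h1, h1'], by simp [h2, h2']⟩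

theorem Rel.pow {w : ℕ} {z : U} {a : A} (h : Rel wt ζ α w z a) (k : ℕ) :
    Rel wt ζ α (k * w) (z ^ k) (a ^ k) := by
  induction k with
  | zero => simpa using rel_one 0
  | succ k ih => rw [pow_succ, pow_succ, Nat.succ_mul]; exact ih.mul h

theorem Rel.intCast_mul {w : ℕ} {z : U} {a : A} (c : ℤ) (h : Rel wt ζ α w z a) :
    Rel wt ζ α w ((c : U) * z) ((c : A) * a) := by
  simpa using (rel_intCast c).mul h

theorem rel_sum {κ : Type*} (s : Finset κ) {w : ℕ} {f : κ → U} {g : κ → A}
    (h : ∀ i ∈ s, Rel wt ζ α w (f i) (g i)) : Rel wt ζ α w (∑ i ∈ s, f i) (∑ i ∈ s, g i) := by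
  classical
  induction s using Finset.induction_on with
  | empty => simpa using rel_zero w
  | insert i s hi ih =>
    rw [sum_insert hi, sum_insert hi]
    exact (h i (mem_insert_self i s)).add (ih fun j hj => h j (mem_insert_of_mem hj))

theorem rel_prod {κ : Type*} (s : Finset κ) {w : κ → ℕ} {f : κ → U} {g : κ → A}
    (h : ∀ i ∈ s, Rel wt ζ α (w i) (f i) (g i)) :
    Rel wt ζ α (∑ i ∈ s, w i) (∏ i ∈ s, f i) (∏ i ∈ s, g i) := by
  classical
  induction s using Finset.induction_on with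
  | empty => simpa using rel_one 0
  | insert i s hi ih =>
    rw [prod_insert hi, prod_insert hi, sum_insert hi]
    exact (h i (mem_insert_self i s)).mul (ih fun j hj => h j (mem_insert_of_mem hj))

/-- Substituting related elements into a polynomial of weight `m`. -/
theorem rel_aeval {κ : Type*} {v : κ → ℕ} {m : ℕ} (P : MvPolynomial κ ℤ)
    (hP : ∀ d ∈ P.support, Finsupp.weight v d ≤ m) {f : κ → U} {g : κ → A}
    (h : ∀ i, Rel wt ζ α (v i) (f i) (g i)) : Rel wt ζ α m (aeval f P) (aeval g P) := by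
  rw [P.as_sum, map_sum, map_sum]
  refine rel_sum _ fun d hd => ?_
  rw [aeval_monomial, aeval_monomial, algebraMap_int_eq, eq_intCast, algebraMap_int_eq, eq_intCast]
  refine (Rel.intCast_mul _ (Rel.mono (hP d hd) ?_))
  rw [Finsupp.weight_apply, Finsupp.sum]
  exact rel_prod _ fun i _ => (h i).pow (d i)

variable [LambdaOps U] [LambdaOps A]

/-- All `λ_n(z)`, `λ_n(a)` are related, up to weight `N`. -/
def LamRel (wt : ι → ℕ) (ζ : ι → U) (α : ι → A) (N w : ℕ) (z : U) (a : A) : Prop :=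
  ∀ n, n * w ≤ N → Rel wt ζ α (n * w) (LambdaOps.lam n z) (LambdaOps.lam n a)

variable {N : ℕ}

theorem lamRel_zero (w : ℕ) : LamRel wt ζ α N w (0 : U) (0 : A) := by
  intro n _
  rcases eq_or_ne n 0 with rfl | hn
  · simpa [LambdaOps.lam_zero] using rel_one 0
  · rw [lam_zero_right hn, lam_zero_right hn]; exact rel_zero _

theorem LamRel.add {w : ℕ} {z z' : U} {a a' : A} (h : LamRel wt ζ α N w z a)
    (h' : LamRel wt ζ α N w z' a') : LamRel wt ζ α N w (z + z') (a + a') := by
  intro n hn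
  rw [LambdaOps.lam_add, LambdaOps.lam_add]
  refine rel_sum _ fun i hi => ?_
  rw [mem_range] at hi
  have e : i * w + (n - i) * w = n * w := by rw [← Nat.add_mul]; congr 1; omega
  exact e ▸ (h i (by omega)).mul (h' (n - i) (by omega))

theorem lam_neg_eq {R : Type*} [CommRing R] [LambdaOps R] (m : ℕ) (x : R) :
    LambdaOps.lam (m + 1) (-x) =
      -∑ i ∈ range (m + 1), LambdaOps.lam i (-x) * LambdaOps.lam (m + 1 - i) x := by
  have h := LambdaOps.lam_add (m + 1) (-x) x
  rw [neg_add_cancel, lam_zero_right (Nat.succ_ne_zero m), sum_range_succ, Nat.sub_self, LambdaOps.lam_zero,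
    mul_one] at h
  exact eq_neg_of_add_eq_zero_right h.symm

theorem LamRel.neg {w : ℕ} {z : U} {a : A} (h : LamRel wt ζ α N w z a) :
    LamRel wt ζ α N w (-z) (-a) := by
  intro n
  induction n using Nat.strong_induction_on with
  | _ n ih =>
    intro hn
    rcases n with _ | m
    · simpa [LambdaOps.lam_zero] using rel_one 0
    rw [lam_neg_eq, lam_neg_eq]
    refine (rel_sum _ fun i hi => ?_).neg
    rw [mem_range] at hi
    have e : i * w + (m + 1 - i) * w = (m + 1) * w := by rw [← Nat.add_mul]; congr 1; omega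
    exact e ▸ (ih i (by omega) (by omega)).mul (h (m + 1 - i) (by omega))

theorem lamRel_one (hU : IsSpecial U) (hA : IsSpecial A) (w : ℕ) :
    LamRel wt ζ α N w (1 : U) (1 : A) := by
  intro n _
  match n with
  | 0 => simpa [LambdaOps.lam_zero] using rel_one 0
  | 1 => simpa [LambdaOps.lam_one] using rel_one w
  | n + 2 =>
    rw [hU.lam_one_eq_zero _ (by omega), hA.lam_one_eq_zero _ (by omega)]
    exact rel_zero _

theorem lamRel_intCast (hU : IsSpecial U) (hA : IsSpecial A) (w : ℕ) (c : ℤ) :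
    LamRel wt ζ α N w (c : U) (c : A) := by
  induction c using Int.induction_on with
  | zero => simpa using lamRel_zero w
  | succ i hi => simpa using hi.add (lamRel_one hU hA w)
  | pred i hi => simpa [sub_eq_add_neg] using hi.add (lamRel_one hU hA w).neg

theorem LamRel.mul (hU : IsSpecial U) (hA : IsSpecial A) {w w' : ℕ} {z z' : U} {a a' : A}
    (h : LamRel wt ζ α N w z a) (h' : LamRel wt ζ α N w' z' a') :
    LamRel wt ζ α N (w + w') (z * z') (a * a') := by
  intro n hn
  obtain ⟨P, hP⟩ := exists_isMulPoly n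
  rw [hU.lam_mul n P hP, hA.lam_mul n P hP]
  refine rel_aeval (v := Sum.elim (fun k : Fin n => ((k : ℕ) + 1) * w) (fun k : Fin n => ((k : ℕ) + 1) * w')) P
    (fun d hd => ?_) ?_
  · have hw := hP.2 (mem_support_iff.mp hd)
    have h1 := congrArg Prod.fst hw
    have h2 := congrArg Prod.snd hw
    rw [Finsupp.weight_apply, Finsupp.sum_fintype _ _ (fun i => by simp)] at h1 h2
    rw [Finsupp.weight_apply, Finsupp.sum_fintype _ _ (fun i => by simp)]
    simp only [Fintype.sum_sum_type,
      Sum.elim_inl, Sum.elim_inr, Prod.fst_add, Prod.fst_sum, Prod.smul_fst, Prod.snd_add, Prod.snd_sum,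
      Prod.smul_snd, smul_eq_mul, mul_zero, sum_const_zero, add_zero, zero_add] at h1 h2
    simp only [Fintype.sum_sum_type, Sum.elim_inl, Sum.elim_inr, smul_eq_mul, ← mul_assoc, ← sum_mul]
    rw [h1, h2, Nat.mul_add]
  · have hnw : n * w ≤ N := le_trans (Nat.mul_le_mul_left n (Nat.le_add_right w w')) hn
    have hnw' : n * w' ≤ N := le_trans (Nat.mul_le_mul_left n (Nat.le_add_left w' w)) hn
    rintro (k | k)
    · exact h _ (le_trans (Nat.mul_le_mul_right w k.2) hnw)
    · exact h' _ (le_trans (Nat.mul_le_mul_right w' k.2) hnw')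

/-- The coordinates are admissible. -/
def IsCoord (wt : ι → ℕ) (ζ : ι → U) (α : ι → A) (N : ℕ) : Prop :=
  ∀ v, LamRel wt ζ α N (wt v) (ζ v) (α v)

theorem IsCoord.lamRel_pow (hU : IsSpecial U) (hA : IsSpecial A) (hc : IsCoord wt ζ α N) (v : ι) (k : ℕ) :
    LamRel wt ζ α N (k * wt v) (ζ v ^ k) (α v ^ k) := by
  induction k with
  | zero => simpa using lamRel_one hU hA 0
  | succ k ih => rw [pow_succ, pow_succ, Nat.succ_mul]; exact ih.mul hU hA (hc v)

theorem LamRel.mono (hU : IsSpecial U) (hA : IsSpecial A) {w w' : ℕ} (h : w ≤ w') {z : U} {a : A}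
    (hr : LamRel wt ζ α N w z a) : LamRel wt ζ α N w' z a := by
  have := hr.mul hU hA (lamRel_one hU hA (w' - w))
  rwa [mul_one, mul_one, Nat.add_sub_cancel' h] at this

/-- Related elements have related `λ_n`. -/
theorem IsCoord.lamRel (hU : IsSpecial U) (hA : IsSpecial A) (hc : IsCoord wt ζ α N) {w : ℕ} {z : U}
    {a : A} (h : Rel wt ζ α w z a) : LamRel wt ζ α N w z a := by
  classical
  obtain ⟨Q, hQ, rfl, rfl⟩ := h
  rw [Q.as_sum, map_sum, map_sum]
  have key : ∀ s : Finset (ι →₀ ℕ), s ⊆ Q.support → LamRel wt ζ α N w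
      (∑ d ∈ s, aeval ζ (monomial d (coeff d Q))) (∑ d ∈ s, aeval α (monomial d (coeff d Q))) := by
    intro s
    induction s using Finset.induction_on with
    | empty => intro _; simpa using lamRel_zero w
    | insert d s hd ih =>
      intro hs
      rw [sum_insert hd, sum_insert hd]
      refine LamRel.add ?_ (ih ((subset_insert d s).trans hs))
      rw [aeval_monomial, aeval_monomial, algebraMap_int_eq, eq_intCast, algebraMap_int_eq, eq_intCast]
      refine LamRel.mono hU hA (hQ d (hs (mem_insert_self d s))) ?_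
      have hp : LamRel wt ζ α N (Finsupp.weight wt d) (d.prod fun v k => ζ v ^ k) (d.prod fun v k => α v ^ k) := by
        rw [Finsupp.weight_apply, Finsupp.sum, Finsupp.prod, Finsupp.prod]
        have : ∀ t : Finset ι, LamRel wt ζ α N (∑ v ∈ t, d v • wt v) (∏ v ∈ t, ζ v ^ d v) (∏ v ∈ t, α v ^ d v) := by
          intro t
          induction t using Finset.induction_on with
          | empty => simpa using lamRel_one hU hA 0
          | insert v t hv iht =>
            rw [sum_insert hv, prod_insert hv, prod_insert hv, smul_eq_mul]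
            exact (IsCoord.lamRel_pow hU hA hc v (d v)).mul hU hA iht
        exact this _
      simpa using (lamRel_intCast hU hA 0 (coeff d Q)).mul hU hA hp
  exact key _ Subset.rfl

theorem IsCoord.rel_lam (hU : IsSpecial U) (hA : IsSpecial A) (hc : IsCoord wt ζ α N) {w : ℕ} {z : U}
    {a : A} (h : Rel wt ζ α w z a) {n : ℕ} (hn : n * w ≤ N) :
    Rel wt ζ α (n * w) (LambdaOps.lam n z) (LambdaOps.lam n a) :=
  hc.lamRel hU hA h n hn

theorem IsCoord.rel_gamma (hU : IsSpecial U) (hA : IsSpecial A) (hc : IsCoord wt ζ α N) {w : ℕ} {z : U}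
    {a : A} (h : Rel wt ζ α w z a) {n : ℕ} (hn : n * w ≤ N) :
    Rel wt ζ α (n * w) (LambdaRing.gamma n z) (LambdaRing.gamma n a) := by
  unfold LambdaRing.gamma
  split_ifs with h0
  · exact rel_one _
  refine rel_sum _ fun j hj => ?_
  rw [mem_range] at hj
  rcases eq_or_ne j 0 with rfl | hj0
  · simpa using rel_zero _
  · rw [if_neg hj0, if_neg hj0]
    have hle : j * w ≤ n * w := Nat.mul_le_mul_right w (by omega)
    simpa using Rel.intCast_mul (((n - 1).choose (j - 1) : ℕ) : ℤ) ((hc.rel_lam hU hA h (hle.trans hn)).mono hle)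

/-- A family whose `λ^l` are related gives admissible coordinates `λ^k`. -/
theorem lamRel_lam (hU : IsSpecial U) (hA : IsSpecial A) {x : U} {y : A}
    (h : ∀ l, l ≤ N → Rel wt ζ α l (LambdaOps.lam l x) (LambdaOps.lam l y)) (k : ℕ) :
    LamRel wt ζ α N k (LambdaOps.lam k x) (LambdaOps.lam k y) := by
  intro n hn
  obtain ⟨Q, hQ⟩ := exists_isCompPoly k n
  rw [hU.lam_lam k n Q hQ, hA.lam_lam k n Q hQ]
  refine rel_aeval (v := fun i : Fin (k * n) => (i : ℕ) + 1) Q
    (fun d hd => le_of_eq ((hQ.2 (mem_support_iff.mp hd)).trans (mul_comm k n))) fun i => ?_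
  exact h _ (le_trans i.2 (by rw [mul_comm]; exact hn))

theorem lam_succ_eq_gamma_sub {R : Type w} [CommRing R] [LambdaOps R] (m : ℕ) (x : R) :
    LambdaOps.lam (m + 1) x = LambdaRing.gamma (m + 1) x -
      ∑ j ∈ range (m + 1), ((m.choose (j - 1) : ℕ) : R) * (if j = 0 then 0 else LambdaOps.lam j x) := by
  rw [LambdaRing.gamma, if_neg (Nat.succ_ne_zero m), sum_range_succ (n := m + 1)]
  simp

/-- A family whose `γ^l` are related has related `λ^l`. -/
theorem rel_lam_of_rel_gamma {x : U} {y : A}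
    (h : ∀ l, l ≤ N → Rel wt ζ α l (LambdaRing.gamma l x) (LambdaRing.gamma l y)) :
    ∀ l, l ≤ N → Rel wt ζ α l (LambdaOps.lam l x) (LambdaOps.lam l y) := by
  intro l
  induction l using Nat.strong_induction_on with
  | _ l ih =>
    intro hl
    rcases l with _ | m
    · simpa [LambdaOps.lam_zero] using rel_one 0
    rw [lam_succ_eq_gamma_sub, lam_succ_eq_gamma_sub]
    refine (h _ hl).sub (rel_sum _ fun j hj => ?_)
    rw [mem_range] at hj
    rcases eq_or_ne j 0 with rfl | hj0
    · simpa using rel_zero _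
    · rw [if_neg hj0, if_neg hj0]
      simpa using Rel.intCast_mul ((m.choose (j - 1) : ℕ) : ℤ) ((ih j (by omega) (by omega)).mono (by omega))

theorem lamRel_gamma (hU : IsSpecial U) (hA : IsSpecial A) {x : U} {y : A}
    (h : ∀ l, l ≤ N → Rel wt ζ α l (LambdaRing.gamma l x) (LambdaRing.gamma l y)) (k : ℕ) :
    LamRel wt ζ α N k (LambdaRing.gamma k x) (LambdaRing.gamma k y) := by
  rcases k with _ | k
  · simpa [gamma_zero] using lamRel_one hU hA 0
  rw [gamma_eq_lam_add_sub_one hU.lam_one_eq_zero, gamma_eq_lam_add_sub_one hA.lam_one_eq_zero,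
    show x + ((k + 1 : ℕ) : U) - 1 = x + (k : U) by push_cast; ring,
    show y + ((k + 1 : ℕ) : A) - 1 = y + (k : A) by push_cast; ring]
  refine lamRel_lam hU hA (fun l hl => ?_) _
  rw [LambdaOps.lam_add, LambdaOps.lam_add]
  refine rel_sum _ fun i hi => ?_
  rw [mem_range] at hi
  rw [lam_natCast hU.lam_one_eq_zero, lam_natCast hA.lam_one_eq_zero]
  exact (((rel_lam_of_rel_gamma h i (by omega)).mul (rel_natCast _))).mono (by omega)

/-- The lower weight bound coming from the degree in `w`. -/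
theorem Rel.exists_ge_of_mem_pow {σ : Type u} {ζ' : ι → MvPolynomial σ ℤ}
    (hh : ∀ v, IsWeightedHomogeneous (fun _ : σ => 1) (ζ' v) (wt v))
    (hinj : Function.Injective (aeval ζ' : MvPolynomial ι ℤ →ₐ[ℤ] MvPolynomial σ ℤ))
    {w m : ℕ} {z : MvPolynomial σ ℤ} {a : A} (h : Rel wt ζ' α w z a)
    (hz : z ∈ wIdeal σ ^ m) :
    ∃ Q : MvPolynomial ι ℤ, (∀ d ∈ Q.support, m ≤ Finsupp.weight wt d ∧ Finsupp.weight wt d ≤ w) ∧
      aeval ζ' Q = z ∧ aeval α Q = a := by
  classical
  obtain ⟨Q, hQ, h1, h2⟩ := h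
  have h1' : (aeval ζ' : MvPolynomial ι ℤ →ₐ[ℤ] MvPolynomial σ ℤ) Q = z := by
    rw [← h1, aeval_def, aeval_def]; congr 1
  refine ⟨Q, fun d hd => ⟨?_, hQ d hd⟩, h1', h2⟩
  by_contra! hlt
  set k := Finsupp.weight wt d
  have hzero : weightedHomogeneousComponent (fun _ : σ => 1) k (aeval ζ' Q) = 0 := by
    ext e
    rw [coeff_weightedHomogeneousComponent, coeff_zero]
    split_ifs with he
    · rw [h1']
      refine (mem_pow_idealOfVars_iff' m z).mp hz e ?_
      rw [Finsupp.degree_eq_weight_one]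
      exact lt_of_eq_of_lt he hlt
    · rfl
  rw [component_aeval hh] at hzero
  have hc : weightedHomogeneousComponent wt k Q = 0 := hinj (hzero.trans (map_zero _).symm)
  have := congrArg (coeff d) hc
  rw [coeff_weightedHomogeneousComponent, if_pos rfl, coeff_zero] at this
  exact mem_support_iff.mp hd this

end Generic

end Groth.Agent.Lambda
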