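import Groth.Agent.Lambda.Universal
import Groth.Agent.Lambda.Series
import Mathlib.Algebra.MvPolynomial.Variables

/-!
# `P_n` and `Q_{i,j}` computed with more variables
-/

universe u

open MvPolynomial Finset LambdaRing

namespace Groth.Agent.Lambda

theorem vars_subset_range {ι M : Type*} [AddCommMonoid M] {w : ι → M} {m : M}
    {P : MvPolynomial ι ℤ} (hP : IsWeightedHomogeneous w P m) {s : Set ι}
    (h : ∀ d : ι →₀ ℕ, Finsupp.weight w d = m → ∀ v, d v ≠ 0 → v ∈ s) : ↑P.vars ⊆ s := by
  intro v hv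
  obtain ⟨d, hd, hvd⟩ := (mem_vars_iff_mem_support v).mp hv
  exact h d (hP (mem_support_iff.mp hd)) v (Finsupp.mem_support_iff.mp hvd)

theorem le_weight_of_ne_zero {ι : Type*} (w : ι → ℕ) (d : ι →₀ ℕ) {v : ι} (hv : d v ≠ 0) :
    w v ≤ Finsupp.weight w d := by
  rw [Finsupp.weight_apply, Finsupp.sum]
  exact le_trans (Nat.le_mul_of_pos_left _ (Nat.pos_of_ne_zero hv))
    (single_le_sum (f := fun a => d a • w a) (fun a _ => Nat.zero_le _) (Finsupp.mem_support_iff.mpr hv))

theorem weight_rename {ι κ M : Type*} [AddCommMonoid M] {w : κ → M} {f : ι → κ}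
    (hf : Function.Injective f) {p : MvPolynomial ι ℤ} {m : M}
    (hp : IsWeightedHomogeneous w (rename f p) m) : IsWeightedHomogeneous (w ∘ f) p m := by
  intro d hd
  rw [← coeff_rename_mapDomain f hf] at hd
  have := hp hd
  rw [Finsupp.weight_apply, Finsupp.sum_mapDomain_index (h := fun i (c : ℕ) => c • w i)
    (fun _ => zero_smul ℕ _) (fun _ _ _ => add_smul _ _ _)] at this
  rw [Finsupp.weight_apply]
  exact this

/-- `esymm` of a family with zeros outside the image of an embedding. -/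
theorem esymm_map_of_zero {R α β : Type*} [CommRing R] (s : Finset α) (t : Finset β) (e : β ↪ α)
    (f : α → R) (g : β → R) (hsub : t.map e ⊆ s) (hg : ∀ b ∈ t, f (e b) = g b)
    (h0 : ∀ a ∈ s, a ∉ t.map e → f a = 0) (k : ℕ) :
    (s.val.map f).esymm k = (t.val.map g).esymm k := by
  rw [← coeff_prod_one_add_C_mul_X, ← coeff_prod_one_add_C_mul_X, Multiset.map_map, Multiset.map_map,
    ← Finset.prod_eq_multiset_prod, ← Finset.prod_eq_multiset_prod]
  congr 1
  simp only [Function.comp_def]
  rw [← Finset.prod_subset hsub (fun a ha ha' => by rw [h0 a ha ha']; simp), Finset.prod_map]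
  exact prod_congr rfl fun b hb => by rw [hg b hb]

/-- Setting the variables beyond `m` to zero. -/
noncomputable def killVars (N m : ℕ) : Fin N → MvPolynomial (Fin m) ℤ := fun a =>
  if h : (a : ℕ) < m then X ⟨a, h⟩ else 0

theorem not_mem_map_castLE {N m : ℕ} (h : m ≤ N) {a : Fin N}
    (ha : a ∉ (Finset.univ : Finset (Fin m)).map (Fin.castLEEmb h)) : ¬ (a : ℕ) < m := fun hlt =>
  ha (Finset.mem_map.mpr ⟨⟨a, hlt⟩, mem_univ _, Fin.ext rfl⟩)

theorem killVars_castLE {N m : ℕ} (h : m ≤ N) (b : Fin m) :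
    killVars N m (Fin.castLE h b) = X b := by
  rw [killVars, dif_pos (show ((Fin.castLE h b : Fin N) : ℕ) < m from b.2)]
  rfl

theorem aeval_killVars_esymm {N m : ℕ} (h : m ≤ N) (k : ℕ) :
    aeval (killVars N m) (esymm (Fin N) ℤ k) = esymm (Fin m) ℤ k := by
  rw [esymm_eq_multiset_esymm, esymm_eq_multiset_esymm, map_multiset_esymm, Multiset.map_map]
  refine esymm_map_of_zero _ Finset.univ (Fin.castLEEmb h) _ _ (subset_univ _) (fun b _ => ?_) (fun a _ ha => ?_) k
  · simp [killVars_castLE]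
  · simp [killVars, not_mem_map_castLE h ha]

/-- A weight `m` polynomial `P` with `P(e) = mulGen N m` restricts to the universal polynomial. -/
theorem exists_isMulPoly_rename {N m : ℕ} (h : m ≤ N) {P : MvPolynomial (Fin N ⊕ Fin N) ℤ}
    (hP : esymmEval₂ (Fin N) (Fin N) ℤ N N P = mulGen N m)
    (hw : IsWeightedHomogeneous (mulWeight N) P (m, m)) :
    ∃ P₀, rename (Sum.map (Fin.castLE h) (Fin.castLE h)) P₀ = P ∧ IsMulPoly m P₀ := by
  have hinj : Function.Injective (Sum.map (Fin.castLE h) (Fin.castLE h)) :=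
    (Fin.castLE_injective h).sumMap (Fin.castLE_injective h)
  obtain ⟨P₀, hP₀⟩ := exists_rename_eq_of_vars_subset_range P _ hinj <| by
    refine vars_subset_range hw fun d hd v hv => ?_
    rcases v with a | a
    · have h1 := congrArg Prod.fst hd
      have : ((a : ℕ) + 1) ≤ Finsupp.weight (fun v => (mulWeight N v).1) d :=
        le_weight_of_ne_zero (fun v => (mulWeight N v).1) d hv
      rw [Finsupp.weight_apply] at h1 this
      simp only [Finsupp.sum, Prod.fst_sum, Prod.smul_fst] at h1 this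
      exact ⟨Sum.inl ⟨a, by omega⟩, rfl⟩
    · have h1 := congrArg Prod.snd hd
      have : ((a : ℕ) + 1) ≤ Finsupp.weight (fun v => (mulWeight N v).2) d :=
        le_weight_of_ne_zero (fun v => (mulWeight N v).2) d hv
      rw [Finsupp.weight_apply] at h1 this
      simp only [Finsupp.sum, Prod.snd_sum, Prod.smul_snd] at h1 this
      exact ⟨Sum.inr ⟨a, by omega⟩, rfl⟩
  subst hP₀
  refine ⟨P₀, rfl, ?_, ?_⟩
  · set κ : Fin N ⊕ Fin N → MvPolynomial (Fin m ⊕ Fin m) ℤ :=
      Sum.elim (fun a => rename Sum.inl (killVars N m a)) (fun a => rename Sum.inr (killVars N m a))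
    have hl : ∀ q : MvPolynomial (Fin N) ℤ, aeval κ (rename Sum.inl q) = rename Sum.inl (aeval (killVars N m) q) := by
      intro q; rw [aeval_rename, ← AlgHom.comp_apply, comp_aeval]; rfl
    have hr : ∀ q : MvPolynomial (Fin N) ℤ, aeval κ (rename Sum.inr q) = rename Sum.inr (aeval (killVars N m) q) := by
      intro q; rw [aeval_rename, ← AlgHom.comp_apply, comp_aeval]; rfl
    have e1 := congrArg (aeval κ) hP
    rw [esymmEval₂, aeval_rename, ← AlgHom.comp_apply, comp_aeval] at e1
    convert e1 using 1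
    · congr 2
      funext v
      rcases v with v | v
      · simp [hl, aeval_killVars_esymm h]
      · simp [hr, aeval_killVars_esymm h]
    · rw [mulGen, mulGen, map_multiset_esymm, Multiset.map_map]
      symm
      refine esymm_map_of_zero _ Finset.univ ((Fin.castLEEmb h).prodMap (Fin.castLEEmb h)) _ _
        (subset_univ _) (fun b _ => ?_) (fun a _ ha => ?_) m
      · simp [κ, killVars_castLE]
      · have : ¬ ((a.1 : ℕ) < m ∧ (a.2 : ℕ) < m) := by
          rintro ⟨h1, h2⟩
          exact ha (Finset.mem_map.mpr ⟨(⟨a.1, h1⟩, ⟨a.2, h2⟩), mem_univ _, rfl⟩)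
        rcases not_and_or.mp this with h' | h' <;> simp [κ, killVars, h']
  · have h2 := weight_rename hinj hw
    convert h2 using 1
    funext v; rcases v with v | v <;> rfl

theorem exists_isCompPoly_rename {N i j : ℕ} (h : i * j ≤ N) {Q : MvPolynomial (Fin N) ℤ}
    (hQ : esymmEval (Fin N) ℤ N Q = compGen N i j)
    (hw : IsWeightedHomogeneous (esymmWeight N) Q (i * j)) :
    ∃ Q₀, rename (Fin.castLE h) Q₀ = Q ∧ IsCompPoly i j Q₀ := by
  obtain ⟨Q₀, hQ₀⟩ := exists_rename_eq_of_vars_subset_range Q _ (Fin.castLE_injective h) <| by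
    refine vars_subset_range hw fun d hd v hv => ?_
    have := le_weight_of_ne_zero (esymmWeight N) d hv
    rw [hd] at this
    exact ⟨⟨v, by simp [esymmWeight] at this; omega⟩, rfl⟩
  subst hQ₀
  refine ⟨Q₀, rfl, ?_, weight_rename (Fin.castLE_injective h) hw⟩
  have e1 := congrArg (aeval (killVars N (i * j))) hQ
  rw [esymmEval, aeval_rename, ← AlgHom.comp_apply, comp_aeval] at e1
  convert e1 using 1
  · congr 2
    funext v
    simp [aeval_killVars_esymm h]
  · rw [compGen, compGen, map_multiset_esymm, Multiset.map_map]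
    symm
    refine esymm_map_of_zero _ _ (Finset.mapEmbedding (Fin.castLEEmb h)).toEmbedding _ _
      (fun S hS => ?_) (fun b _ => ?_) (fun a ha hna => ?_) j
    · obtain ⟨T, hT, rfl⟩ := Finset.mem_map.mp hS
      rw [mem_powersetCard] at hT ⊢
      exact ⟨subset_univ _, by simpa using hT.2⟩
    · simp [map_prod, Finset.prod_map, killVars_castLE]
    · rw [Function.comp_apply, map_prod]
      obtain ⟨v, hv, hvm⟩ : ∃ v ∈ a, ¬ (v : ℕ) < i * j := by
        by_contra! hall
        apply hna
        refine Finset.mem_map.mpr ⟨Finset.univ.filter fun b => Fin.castLE h b ∈ a, ?_, ?_⟩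
        · rw [mem_powersetCard]
          refine ⟨subset_univ _, ?_⟩
          refine Eq.trans ?_ (mem_powersetCard.mp ha).2
          refine Finset.card_bij' (fun b _ => Fin.castLE h b) (fun v hv => ⟨v, hall v hv⟩) ?_ ?_ ?_ ?_ <;> simp
        · ext v
          simp only [RelEmbedding.coe_toEmbedding, Finset.mapEmbedding_apply, Finset.mem_map, mem_filter,
            mem_univ, true_and, Fin.coe_castLEEmb]
          exact ⟨fun ⟨b, hb, hbv⟩ => hbv ▸ hb, fun hv => ⟨⟨v, hall v hv⟩, hv, rfl⟩⟩
      exact prod_eq_zero hv (by simp [killVars, hvm])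

variable {K : Type u} [CommRing K] [LambdaOps K]

theorem lam_mul_eval (hK : IsSpecial K) {N m : ℕ} (h : m ≤ N) {P : MvPolynomial (Fin N ⊕ Fin N) ℤ}
    (hP : esymmEval₂ (Fin N) (Fin N) ℤ N N P = mulGen N m)
    (hw : IsWeightedHomogeneous (mulWeight N) P (m, m)) (x y : K) :
    aeval (Sum.elim (fun k : Fin N => LambdaOps.lam ((k : ℕ) + 1) x)
      (fun k : Fin N => LambdaOps.lam ((k : ℕ) + 1) y)) P = LambdaOps.lam m (x * y) := by
  obtain ⟨P₀, rfl, h0⟩ := exists_isMulPoly_rename h hP hw
  rw [hK.lam_mul m P₀ h0 x y, aeval_rename]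
  congr 2
  funext v
  rcases v with v | v <;> rfl

theorem lam_lam_eval (hK : IsSpecial K) {N i j : ℕ} (h : i * j ≤ N) {Q : MvPolynomial (Fin N) ℤ}
    (hQ : esymmEval (Fin N) ℤ N Q = compGen N i j)
    (hw : IsWeightedHomogeneous (esymmWeight N) Q (i * j)) (x : K) :
    aeval (fun k : Fin N => LambdaOps.lam ((k : ℕ) + 1) x) Q = LambdaOps.lam j (LambdaOps.lam i x) := by
  obtain ⟨Q₀, rfl, h0⟩ := exists_isCompPoly_rename h hQ hw
  rw [hK.lam_lam i j Q₀ h0 x, aeval_rename]
  rfl

end Groth.Agent.Lambda
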