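import Groth.Prelude.Def_LambdaSp
import Groth.Agent.Lambda.Symm

/-!
# The universal polynomials `P_n`, `Q_{i,j}`
-/

universe u

open MvPolynomial Finset LambdaRing

namespace Groth.Agent.Lambda

/-- Ring maps commute with elementary symmetric functions of multisets. -/
theorem map_multiset_esymm {A B F : Type*} [CommSemiring A] [CommSemiring B] [FunLike F A B]
    [RingHomClass F A B] (f : F) (s : Multiset A) (k : ℕ) : f (s.esymm k) = (s.map f).esymm k := by
  simp [Multiset.esymm, map_multiset_sum, Multiset.powersetCard_map, map_multiset_prod,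
    Multiset.map_map, Function.comp_def]

theorem map_univ_val_equiv {α β : Type*} [Fintype α] (e : Equiv.Perm α) (f : α → β) :
    (Finset.univ : Finset α).val.map (fun a => f (e a)) = (Finset.univ : Finset α).val.map f := by
  conv_rhs => rw [← Multiset.map_univ_val_equiv e, Multiset.map_map]
  rfl

theorem mulGen_rename_left (N k : ℕ) (g : Equiv.Perm (Fin N)) :
    rename (Sum.map g id) (mulGen N k) = mulGen N k := by
  rw [mulGen, map_multiset_esymm, Multiset.map_map]
  congr 1
  have := map_univ_val_equiv (g.prodCongr (Equiv.refl (Fin N)))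
    (fun ab : Fin N × Fin N => (X (Sum.inl ab.1) * X (Sum.inr ab.2) : MvPolynomial (Fin N ⊕ Fin N) ℤ))
  simpa [Function.comp_def] using this

theorem mulGen_rename_right (N k : ℕ) (g : Equiv.Perm (Fin N)) :
    rename (Sum.map id g) (mulGen N k) = mulGen N k := by
  rw [mulGen, map_multiset_esymm, Multiset.map_map]
  congr 1
  have := map_univ_val_equiv ((Equiv.refl (Fin N)).prodCongr g)
    (fun ab : Fin N × Fin N => (X (Sum.inl ab.1) * X (Sum.inr ab.2) : MvPolynomial (Fin N ⊕ Fin N) ℤ))
  simpa [Function.comp_def] using this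

theorem compGen_isSymmetric (N i j : ℕ) : (compGen N i j).IsSymmetric := by
  intro g
  rw [compGen, map_multiset_esymm, Multiset.map_map]
  congr 1
  have hu : ((Finset.univ : Finset (Fin N)).powersetCard i).map (Finset.mapEmbedding g.toEmbedding).toEmbedding =
      (Finset.univ : Finset (Fin N)).powersetCard i := by
    rw [← Finset.powersetCard_map, Finset.map_univ_equiv]
  conv_rhs => rw [← hu, Finset.map_val, Multiset.map_map]
  refine Multiset.map_congr rfl fun s _ => ?_
  simp [map_prod, Finset.prod_map]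

/-- The bidegree. -/
def biWeight (N : ℕ) : Fin N ⊕ Fin N → ℕ × ℕ := Sum.elim (fun _ => (1, 0)) (fun _ => (0, 1))

/-- The weight on the variables of `P_n`. -/
def mulWeight (N : ℕ) : Fin N ⊕ Fin N → ℕ × ℕ :=
  Sum.elim (fun k : Fin N => (((k : ℕ) + 1, 0) : ℕ × ℕ)) (fun k : Fin N => ((0, (k : ℕ) + 1) : ℕ × ℕ))

theorem mulGen_isWeightedHomogeneous (N k : ℕ) :
    IsWeightedHomogeneous (biWeight N) (mulGen N k) (k, k) := by
  rw [mulGen, Finset.esymm_map_val]
  refine IsWeightedHomogeneous.sum _ _ _ fun s hs => ?_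
  have h := IsWeightedHomogeneous.prod (w := biWeight N) s
    (fun ab : Fin N × Fin N => (X (Sum.inl ab.1) * X (Sum.inr ab.2) : MvPolynomial (Fin N ⊕ Fin N) ℤ))
    (fun _ => ((1, 1) : ℕ × ℕ)) (fun ab _ => by
      have := (isWeightedHomogeneous_X ℤ (biWeight N) (Sum.inl ab.1)).mul
        (isWeightedHomogeneous_X ℤ (biWeight N) (Sum.inr ab.2))
      simpa [biWeight] using this)
  rw [sum_const, (mem_powersetCard.mp hs).2] at h
  simpa using h

theorem esymmEval₂_var_isWeightedHomogeneous (N : ℕ) (v : Fin N ⊕ Fin N) :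
    IsWeightedHomogeneous (biWeight N)
      (Sum.elim (fun k : Fin N => rename Sum.inl (esymm (Fin N) ℤ ((k : ℕ) + 1)))
        (fun k : Fin N => rename Sum.inr (esymm (Fin N) ℤ ((k : ℕ) + 1))) v)
      (mulWeight N v) := by
  rcases v with k | k <;>
  · simp only [Sum.elim_inl, Sum.elim_inr, mulWeight, esymm, map_sum, map_prod, rename_X]
    refine IsWeightedHomogeneous.sum _ _ _ fun s hs => ?_
    first
    | (have h := IsWeightedHomogeneous.prod (w := biWeight N) s
          (fun i : Fin N => (X (Sum.inl i) : MvPolynomial (Fin N ⊕ Fin N) ℤ))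
          (fun _ => ((1, 0) : ℕ × ℕ)) (fun i _ => isWeightedHomogeneous_X ℤ (biWeight N) (Sum.inl i))
       rw [sum_const, (mem_powersetCard.mp hs).2] at h
       simpa using h)
    | (have h := IsWeightedHomogeneous.prod (w := biWeight N) s
          (fun i : Fin N => (X (Sum.inr i) : MvPolynomial (Fin N ⊕ Fin N) ℤ))
          (fun _ => ((0, 1) : ℕ × ℕ)) (fun i _ => isWeightedHomogeneous_X ℤ (biWeight N) (Sum.inr i))
       rw [sum_const, (mem_powersetCard.mp hs).2] at h
       simpa using h)

theorem exists_mulPoly (N k : ℕ) :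
    ∃ P : MvPolynomial (Fin N ⊕ Fin N) ℤ,
      esymmEval₂ (Fin N) (Fin N) ℤ N N P = mulGen N k ∧
        IsWeightedHomogeneous (mulWeight N) P (k, k) := by
  refine exists_homogeneous_preimage (esymmEval₂_var_isWeightedHomogeneous N)
    (mulGen_isWeightedHomogeneous N k) ?_
  have h := exists_esymmEval₂_eq (σ := Fin N) (τ := Fin N) (mulGen_rename_left N k) (mulGen_rename_right N k)
  rw [Fintype.card_fin] at h
  exact h

theorem exists_isMulPoly (n : ℕ) : ∃ P : MvPolynomial (Fin n ⊕ Fin n) ℤ, IsMulPoly n P := by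
  obtain ⟨P, h1, h2⟩ := exists_mulPoly n n
  exact ⟨P, h1, h2⟩

theorem compGen_isWeightedHomogeneous (N i j : ℕ) :
    IsWeightedHomogeneous (fun _ : Fin N => 1) (compGen N i j) (i * j) := by
  rw [compGen, Finset.esymm_map_val]
  refine IsWeightedHomogeneous.sum _ _ _ fun t ht => ?_
  have h := IsWeightedHomogeneous.prod (w := fun _ : Fin N => 1) t
    (fun s : Finset (Fin N) => (∏ a ∈ s, X a : MvPolynomial (Fin N) ℤ)) (fun _ => i) (fun s hs => by
      have hc := (mem_powersetCard.mp ((mem_powersetCard.mp ht).1 hs)).2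
      have := IsWeightedHomogeneous.prod (w := fun _ : Fin N => 1) s
        (fun a : Fin N => (X a : MvPolynomial (Fin N) ℤ)) (fun _ => (1 : ℕ))
        (fun a _ => isWeightedHomogeneous_X ℤ _ a)
      simpa [hc] using this)
  rw [sum_const, (mem_powersetCard.mp ht).2] at h
  simpa [mul_comm] using h

theorem exists_compPoly (N i j : ℕ) :
    ∃ Q : MvPolynomial (Fin N) ℤ,
      esymmEval (Fin N) ℤ N Q = compGen N i j ∧ IsWeightedHomogeneous (esymmWeight N) Q (i * j) :=
  exists_homogeneous_preimage
    (fun k => by simpa [esymmWeight] using esymm_isWeightedHomogeneous (σ := Fin N) (R := ℤ) (1 : ℕ) ((k : ℕ) + 1))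
    (compGen_isWeightedHomogeneous N i j)
    (exists_esymmEval_eq (Fintype.card_fin N).le (compGen_isSymmetric N i j))

theorem exists_isCompPoly (i j : ℕ) : ∃ Q : MvPolynomial (Fin (i * j)) ℤ, IsCompPoly i j Q := by
  obtain ⟨Q, h1, h2⟩ := exists_compPoly (i * j) i j
  exact ⟨Q, h1, h2⟩

end Groth.Agent.Lambda
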